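import Cfsg.Agent.H189.AltOdd

/-!
# Minimal degrees of representations of alternating groups in odd characteristic

`low_odd`: a nontrivial representation of `A_r`, `r ≥ 9`, over a field of characteristic `p ≠ 2` has degree at least
`r - 1`, or `r - 2` if `p` divides `r`.
-/

set_option autoImplicit false

namespace Cfsg.Agent.H189.AltOddDim

open Equiv Equiv.Perm Module Cyc Wt NatMod Emb AltOdd

universe u v w

/-- every nontrivial representation of `A_j` over `k` (with underlying space in the universe `v`) has degree at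
least `b` -/
def Low (k : Type u) [Field k] (j b : ℕ) : Prop :=
  ∀ (V : Type v) [AddCommGroup V] [Module k V] [FiniteDimensional k V] (ρ : alternatingGroup (Fin j) →* End k V),
    (∃ g, ρ g ≠ 1) → b ≤ finrank k V

section gen

variable {α : Type w} [Fintype α] [DecidableEq α]
variable {k : Type u} {V : Type v} [Field k] [AddCommGroup V] [Module k V]

theorem rep_injective (h5 : 5 ≤ Fintype.card α) (ρ : alternatingGroup α →* End k V) (h : ∃ g, ρ g ≠ 1) :
    Function.Injective ρ := by
  have : IsSimpleGroup (alternatingGroup α) := alternatingGroup.isSimpleGroup (by rwa [Nat.card_eq_fintype_card])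
  rcases Subgroup.Normal.eq_bot_or_eq_top (H := ρ.ker) inferInstance with h1 | h1
  · exact (MonoidHom.ker_eq_bot_iff ρ).1 h1
  · obtain ⟨g, hg⟩ := h
    exact absurd (MonoidHom.mem_ker.1 (h1 ▸ Subgroup.mem_top g)) hg

theorem exists_compl {m j : ℕ} (f : Fin m ↪ α) (hc : Fintype.card α = j + m) :
    ∃ h : Fin j ↪ α, (∀ x y, f x ≠ h y) ∧ ∀ y, (∀ x, f x ≠ y) → ∃ x, h x = y := by
  classical
  have h1 : Fintype.card {y : α // y ∉ Finset.univ.image f} = j := by
    have h0 : (Finset.univ.filter (fun y : α => y ∉ Finset.univ.image f)) = (Finset.univ.image f)ᶜ := by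
      ext y; simp
    rw [Fintype.card_subtype, h0, Finset.card_compl, Finset.card_image_of_injective _ f.injective, Finset.card_univ,
      Fintype.card_fin, hc]
    omega
  let e := (Fintype.equivFinOfCardEq h1).symm
  refine ⟨e.toEmbedding.trans (Function.Embedding.subtype _), ?_, ?_⟩
  · intro x y hxy
    apply (e y).2
    rw [Finset.mem_image]
    exact ⟨x, Finset.mem_univ _, hxy⟩
  · intro y hy
    have h2 : y ∉ Finset.univ.image f := by
      rw [Finset.mem_image]
      rintro ⟨x, -, hx⟩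
      exact hy x hx
    refine ⟨e.symm ⟨y, h2⟩, ?_⟩
    show ((e (e.symm ⟨y, h2⟩) : {y : α // y ∉ Finset.univ.image f}) : α) = y
    rw [e.apply_symm_apply]

/-- an invariant subspace of small dimension is centralised -/
theorem trivial_of_low {j b : ℕ} [FiniteDimensional k V] (hLow : Low.{u, v} k j b)
    (R : alternatingGroup (Fin j) →* End k V) (U : Submodule k V) (hU : ∀ g, ∀ v ∈ U, R g v ∈ U)
    (hb : finrank k U < b) : ∀ g, ∀ v ∈ U, R g v = v := by
  by_contra hcon
  push Not at hcon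
  obtain ⟨g, v, hv, hne⟩ := hcon
  have := hLow U (subrep R U hU) ⟨g, fun h => hne (by
    have h1 := congrArg (fun f : End k U => ((f ⟨v, hv⟩ : U) : V)) h
    simpa using h1)⟩
  omega

/-- splitting for an involution -/
theorem inv_split [FiniteDimensional k V] (h2 : (2 : k) ≠ 0) (z : End k V) (hz : ∀ v, z (z v) = v)
    (U : Submodule k V) (hU : ∀ v ∈ U, z v ∈ U) :
    finrank k U = finrank k (U ⊓ LinearMap.ker (z - 1) : Submodule k V) +
      finrank k (U ⊓ LinearMap.ker (z + 1) : Submodule k V) := by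
  have h3 : (U ⊓ LinearMap.ker (z - 1)) ⊓ (U ⊓ LinearMap.ker (z + 1)) = ⊥ := by
    rw [Submodule.eq_bot_iff]
    rintro v ⟨⟨-, h3⟩, ⟨-, h4⟩⟩
    rw [SetLike.mem_coe, LinearMap.mem_ker, LinearMap.sub_apply, End.one_apply, sub_eq_zero] at h3
    rw [SetLike.mem_coe, LinearMap.mem_ker, LinearMap.add_apply, End.one_apply, h3, ← two_smul k] at h4
    rcases smul_eq_zero.1 h4 with h5 | h5
    · exact absurd h5 h2
    · exact h5
  have h4 : (U ⊓ LinearMap.ker (z - 1)) ⊔ (U ⊓ LinearMap.ker (z + 1)) = U := by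
    apply le_antisymm (sup_le inf_le_left inf_le_left)
    intro v hv
    have e : v = (2 : k)⁻¹ • (v + z v) + (2 : k)⁻¹ • (v - z v) := by
      rw [← smul_add, show v + z v + (v - z v) = (2 : k) • v by rw [two_smul]; abel, smul_smul,
        inv_mul_cancel₀ h2, one_smul]
    rw [e]
    refine Submodule.add_mem_sup (Submodule.smul_mem _ _ ⟨add_mem hv (hU v hv), ?_⟩)
      (Submodule.smul_mem _ _ ⟨sub_mem hv (hU v hv), ?_⟩)
    · rw [SetLike.mem_coe, LinearMap.mem_ker, LinearMap.sub_apply, End.one_apply, map_add, hz]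
      abel
    · rw [SetLike.mem_coe, LinearMap.mem_ker, LinearMap.add_apply, End.one_apply, map_sub, hz]
      abel
  have h5 := Submodule.finrank_sup_add_finrank_inf_eq (U ⊓ LinearMap.ker (z - 1)) (U ⊓ LinearMap.ker (z + 1))
  rw [h3, h4, finrank_bot, add_zero] at h5
  exact h5

theorem mem_kp {z : End k V} {v : V} : v ∈ LinearMap.ker (z - 1) ↔ z v = v := by
  rw [LinearMap.mem_ker, LinearMap.sub_apply, End.one_apply, sub_eq_zero]

theorem mem_km {z : End k V} {v : V} : v ∈ LinearMap.ker (z + 1) ↔ z v = -v := by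
  rw [LinearMap.mem_ker, LinearMap.add_apply, End.one_apply, add_eq_zero_iff_eq_neg]

/-- `(0 1)(2 3)` -/
abbrev Z1 : alternatingGroup (Fin 4) := dt 0 1 2 3 (by decide) (by decide)
/-- `(0 2)(1 3)` -/
abbrev Z2 : alternatingGroup (Fin 4) := dt 0 2 1 3 (by decide) (by decide)
/-- `(0 3)(1 2)` -/
abbrev Z3 : alternatingGroup (Fin 4) := dt 0 3 1 2 (by decide) (by decide)
/-- `(0 1 2)` -/
abbrev T4 : alternatingGroup (Fin 4) := cc 0 1 2 (by decide) (by decide)

/-- the four joint eigenspaces of a four-group: fixed points and `W1`, `W2`, `W3` -/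
theorem four_dim [FiniteDimensional k V] (h2 : (2 : k) ≠ 0) (R : alternatingGroup (Fin 4) →* End k V) :
    finrank k V = finrank k (LinearMap.ker (R Z1 - 1) ⊓ LinearMap.ker (R Z2 - 1) : Submodule k V) +
      3 * finrank k (LinearMap.ker (R Z1 - 1) ⊓ LinearMap.ker (R Z2 + 1) : Submodule k V) ∧
    finrank k (LinearMap.ker (R Z1 + 1) ⊓ LinearMap.ker (R Z2 - 1) : Submodule k V) =
      finrank k (LinearMap.ker (R Z1 - 1) ⊓ LinearMap.ker (R Z2 + 1) : Submodule k V) ∧
    finrank k (LinearMap.ker (R Z1 + 1) ⊓ LinearMap.ker (R Z2 + 1) : Submodule k V) =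
      finrank k (LinearMap.ker (R Z1 - 1) ⊓ LinearMap.ker (R Z2 + 1) : Submodule k V) := by
  have hR : ∀ x y v, R (x * y) v = R x (R y v) := fun x y v => mul_apply' R x y v
  have r1 : (Z1 : alternatingGroup (Fin 4)) * Z1 = 1 := by decide
  have r2 : (Z2 : alternatingGroup (Fin 4)) * Z2 = 1 := by decide
  have r3 : (Z1 : alternatingGroup (Fin 4)) * Z2 = Z2 * Z1 := by decide
  have r4 : Z1 * T4 = T4 * Z2 := by decide
  have r5 : Z2 * T4 = T4 * (Z1 * Z2) := by decide
  have i1 : ∀ v, R Z1 (R Z1 v) = v := fun v => by rw [← hR, r1, map_one, End.one_apply]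
  have i2 : ∀ v, R Z2 (R Z2 v) = v := fun v => by rw [← hR, r2, map_one, End.one_apply]
  have c12 : ∀ v, R Z1 (R Z2 v) = R Z2 (R Z1 v) := fun v => by rw [← hR, ← hR, r3]
  have d0 := inv_split h2 (R Z1) i1 ⊤ (fun _ _ => trivial)
  rw [top_inf_eq, top_inf_eq, finrank_top] at d0
  have d1 := inv_split h2 (R Z2) i2 (LinearMap.ker (R Z1 - 1)) (fun v hv => by
    rw [mem_kp] at hv ⊢; rw [c12, hv])
  have d2 := inv_split h2 (R Z2) i2 (LinearMap.ker (R Z1 + 1)) (fun v hv => by
    rw [mem_km] at hv ⊢; rw [c12, hv, map_neg])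
  -- `T4` permutes the three spaces
  have t1 : ∀ v ∈ (LinearMap.ker (R Z1 - 1) ⊓ LinearMap.ker (R Z2 + 1) : Submodule k V),
      R T4 v ∈ (LinearMap.ker (R Z1 + 1) ⊓ LinearMap.ker (R Z2 + 1) : Submodule k V) := by
    rintro v ⟨h3, h4⟩
    rw [SetLike.mem_coe, mem_kp] at h3
    rw [SetLike.mem_coe, mem_km] at h4
    refine ⟨?_, ?_⟩
    · rw [SetLike.mem_coe, mem_km, ← hR, r4, hR, h4, map_neg]
    · rw [SetLike.mem_coe, mem_km, ← hR, r5, hR, hR, h4, map_neg, h3, map_neg]
  have t2 : ∀ v ∈ (LinearMap.ker (R Z1 + 1) ⊓ LinearMap.ker (R Z2 + 1) : Submodule k V),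
      R T4 v ∈ (LinearMap.ker (R Z1 + 1) ⊓ LinearMap.ker (R Z2 - 1) : Submodule k V) := by
    rintro v ⟨h3, h4⟩
    rw [SetLike.mem_coe, mem_km] at h3
    rw [SetLike.mem_coe, mem_km] at h4
    refine ⟨?_, ?_⟩
    · rw [SetLike.mem_coe, mem_km, ← hR, r4, hR, h4, map_neg]
    · rw [SetLike.mem_coe, mem_kp, ← hR, r5, hR, hR, h4, map_neg, h3, neg_neg]
  have t3 : ∀ v ∈ (LinearMap.ker (R Z1 + 1) ⊓ LinearMap.ker (R Z2 - 1) : Submodule k V),
      R T4 v ∈ (LinearMap.ker (R Z1 - 1) ⊓ LinearMap.ker (R Z2 + 1) : Submodule k V) := by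
    rintro v ⟨h3, h4⟩
    rw [SetLike.mem_coe, mem_km] at h3
    rw [SetLike.mem_coe, mem_kp] at h4
    refine ⟨?_, ?_⟩
    · rw [SetLike.mem_coe, mem_kp, ← hR, r4, hR, h4]
    · rw [SetLike.mem_coe, mem_km, ← hR, r5, hR, hR, h4, h3, map_neg]
  have s1 := finrank_le_of_map R T4 _ _ t1
  have s2 := finrank_le_of_map R T4 _ _ t2
  have s3 := finrank_le_of_map R T4 _ _ t3
  refine ⟨?_, ?_, ?_⟩ <;> omega

/-- nontrivial representations: `W1 ≠ 0` -/
theorem W1_pos [FiniteDimensional k V] (h2 : (2 : k) ≠ 0) (R : alternatingGroup (Fin 4) →* End k V)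
    (hne : R Z1 ≠ 1) :
    1 ≤ finrank k (LinearMap.ker (R Z1 - 1) ⊓ LinearMap.ker (R Z2 + 1) : Submodule k V) := by
  by_contra hcon
  obtain ⟨d0, d1, d2⟩ := four_dim h2 R
  have h0 : finrank k V = finrank k (LinearMap.ker (R Z1 - 1) ⊓ LinearMap.ker (R Z2 - 1) : Submodule k V) := by
    omega
  have h1 := Submodule.eq_top_of_finrank_eq h0.symm
  apply hne
  ext v
  have : v ∈ (LinearMap.ker (R Z1 - 1) ⊓ LinearMap.ker (R Z2 - 1) : Submodule k V) := by rw [h1]; trivial
  rw [mem_kp.1 this.1, End.one_apply]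

theorem low_three (h2 : (2 : k) ≠ 0) (j : ℕ) (hj : 5 ≤ j) : Low.{u, v} k j 3 := by
  intro V _ _ _ ρ hne
  have hinj := rep_injective (by rwa [Fintype.card_fin]) ρ hne
  let f : Fin 4 ↪ Fin j := Fin.castLEEmb (by omega)
  let R := ρ.comp (emb f)
  have h1 : R Z1 ≠ 1 := by
    intro h
    have h3 : ρ (emb f Z1) = ρ 1 := by rw [map_one]; exact h
    have h4 : emb f Z1 = emb f 1 := by rw [hinj h3, map_one]
    have h5 := emb_injective f h4
    revert h5
    decide
  obtain ⟨d0, d1, d2⟩ := four_dim h2 R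
  have := W1_pos h2 R h1
  omega

theorem low_mono {j b : ℕ} (hj : 5 ≤ j) (h : Low.{u, v} k j b) {j' : ℕ} (hjj : j ≤ j') : Low.{u, v} k j' b := by
  intro V _ _ _ ρ hne
  have hinj := rep_injective (by rw [Fintype.card_fin]; omega) ρ hne
  let f : Fin j ↪ Fin j' := Fin.castLEEmb hjj
  refine h V (ρ.comp (emb f)) ?_
  have h3 : cc (⟨0, by omega⟩ : Fin j) ⟨1, by omega⟩ ⟨2, by omega⟩ (by simp) (by simp) ≠ 1 := by
    intro h
    have := congrArg (Subtype.val) h
    exact c3_ne_one (a := (⟨0, by omega⟩ : Fin j)) (b := ⟨1, by omega⟩) (c := ⟨2, by omega⟩) (by simp) (by simp) this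
  refine ⟨cc (⟨0, by omega⟩ : Fin j) ⟨1, by omega⟩ ⟨2, by omega⟩ (by simp) (by simp), fun hcon => h3 ?_⟩
  apply emb_injective f
  apply hinj
  rw [map_one, map_one]
  exact hcon

theorem low_seven (h2 : (2 : k) ≠ 0) : Low.{u, v} k 7 4 := by
  intro V _ _ _ ρ hne
  have hinj := rep_injective (by rw [Fintype.card_fin]; omega) ρ hne
  by_contra hlt
  rw [not_le] at hlt
  let f : Fin 4 ↪ Fin 7 := Fin.castLEEmb (by omega)
  let R := ρ.comp (emb f)
  have h1 : R Z1 ≠ 1 := by
    intro h
    have h3 : ρ (emb f Z1) = ρ 1 := by rw [map_one]; exact h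
    have h4 : emb f Z1 = emb f 1 := by rw [hinj h3, map_one]
    have h5 := emb_injective f h4
    revert h5
    decide
  obtain ⟨d0, d1, d2⟩ := four_dim h2 R
  have hp := W1_pos h2 R h1
  set W := (LinearMap.ker (R Z1 - 1) ⊓ LinearMap.ker (R Z2 + 1) : Submodule k V) with hW
  have hW1 : finrank k W = 1 := by omega
  -- the 3-cycle on the other points
  let τ : alternatingGroup (Fin 7) := cc 4 5 6 (by decide) (by decide)
  have hR : ∀ x v, R x v = ρ (emb f x) v := fun x v => rfl
  have e1 : emb f Z1 = dt 0 1 2 3 (by decide) (by decide) := emb_dt f _ _ _ _ _ _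
  have e2 : emb f Z2 = dt 0 2 1 3 (by decide) (by decide) := emb_dt f _ _ _ _ _ _
  have e3 : emb f T4 = cc 0 1 2 (by decide) (by decide) := emb_cc f _ _ _ _ _
  have c1 : τ * emb f Z1 = emb f Z1 * τ := by rw [e1]; decide
  have c2 : τ * emb f Z2 = emb f Z2 * τ := by rw [e2]; decide
  have c3' : τ * emb f T4 = emb f T4 * τ := by rw [e3]; decide
  have hτW : ∀ v ∈ W, ρ τ v ∈ W := by
    rintro v ⟨h3, h4⟩
    rw [SetLike.mem_coe, mem_kp, hR] at h3
    rw [SetLike.mem_coe, mem_km, hR] at h4
    refine ⟨?_, ?_⟩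
    · rw [SetLike.mem_coe, mem_kp, hR, ← mul_apply', ← c1, mul_apply', h3]
    · rw [SetLike.mem_coe, mem_km, hR, ← mul_apply', ← c2, mul_apply', h4, map_neg]
  obtain ⟨w0, hw0, hspan⟩ := finrank_eq_one_iff'.1 hW1
  obtain ⟨lam, hlam⟩ := hspan ⟨ρ τ w0, hτW _ w0.2⟩
  have hlam' : ρ τ w0 = lam • (w0 : V) := by
    have := congrArg Subtype.val hlam
    exact this.symm
  -- the space on which `τ` acts as `lam`
  have key : ∀ v, ρ τ v = lam • v := by
    let L : Submodule k V := LinearMap.ker (ρ τ - lam • 1)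
    have hL : ∀ v, v ∈ L ↔ ρ τ v = lam • v := by
      intro v
      rw [LinearMap.mem_ker, LinearMap.sub_apply, LinearMap.smul_apply, End.one_apply, sub_eq_zero]
    have hWL : W ≤ L := by
      intro v hv
      obtain ⟨c, hc⟩ := hspan ⟨v, hv⟩
      have hc' : v = c • (w0 : V) := (congrArg Subtype.val hc).symm
      rw [hL, hc', map_smul, hlam', smul_comm]
    have hTL : ∀ v ∈ L, R T4 v ∈ L := by
      intro v hv
      rw [hL] at hv ⊢
      rw [hR, ← mul_apply', c3', mul_apply', hv, map_smul]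
    have r4 : Z1 * T4 = T4 * Z2 := by decide
    have r5 : Z2 * T4 = T4 * (Z1 * Z2) := by decide
    have hRm : ∀ x y v, R (x * y) v = R x (R y v) := fun x y v => mul_apply' R x y v
    have r7 : T4 * T4 * T4 = 1 := by decide
    have t3' : ∀ v, R T4 (R T4 (R T4 v)) = v := fun v => by rw [← hRm, ← hRm, r7, map_one, End.one_apply]
    have r1 : (Z1 : alternatingGroup (Fin 4)) * Z1 = 1 := by decide
    have r2 : (Z2 : alternatingGroup (Fin 4)) * Z2 = 1 := by decide
    have r3 : (Z1 : alternatingGroup (Fin 4)) * Z2 = Z2 * Z1 := by decide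
    have i1 : ∀ v, R Z1 (R Z1 v) = v := fun v => by rw [← hRm, r1, map_one, End.one_apply]
    have i2 : ∀ v, R Z2 (R Z2 v) = v := fun v => by rw [← hRm, r2, map_one, End.one_apply]
    have c12 : ∀ v, R Z1 (R Z2 v) = R Z2 (R Z1 v) := fun v => by rw [← hRm, ← hRm, r3]
    have k1 : ∀ v, R Z1 v = v → R Z2 v = -v → v ∈ L := fun v h3 h4 => hWL ⟨mem_kp.2 h3, mem_km.2 h4⟩
    have k2 : ∀ v, R Z1 v = -v → R Z2 v = v → v ∈ L := by
      intro v h3 h4
      rw [← t3' v]
      apply hTL
      apply hTL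
      apply k1
      · rw [← hRm, r4, hRm, h4]
      · rw [← hRm, r5, hRm, hRm, h4, h3, map_neg]
    have k3 : ∀ v, R Z1 v = -v → R Z2 v = -v → v ∈ L := by
      intro v h3 h4
      rw [← t3' v]
      apply hTL
      apply hTL
      have a1 : R Z1 (R T4 v) = -R T4 v := by rw [← hRm, r4, hRm, h4, map_neg]
      have a2 : R Z2 (R T4 v) = R T4 v := by rw [← hRm, r5, hRm, hRm, h4, map_neg, h3, neg_neg]
      have := k2 _ a1 a2
      exact this
    have hC : ∀ v, R Z1 v = v → R Z2 v = v → v = 0 := by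
      intro v h3 h4
      have h5 : finrank k (LinearMap.ker (R Z1 - 1) ⊓ LinearMap.ker (R Z2 - 1) : Submodule k V) = 0 := by omega
      rw [Submodule.finrank_eq_zero] at h5
      have : v ∈ (LinearMap.ker (R Z1 - 1) ⊓ LinearMap.ker (R Z2 - 1) : Submodule k V) := ⟨mem_kp.2 h3, mem_kp.2 h4⟩
      rw [h5] at this
      exact (Submodule.mem_bot k).1 this
    have hspanV : L = ⊤ := by
      rw [eq_top_iff]
      intro v _
      have e1 : (4 : k) • v = ((v + R Z1 v) + R Z2 (v + R Z1 v)) + ((v + R Z1 v) - R Z2 (v + R Z1 v)) +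
          (((v - R Z1 v) + R Z2 (v - R Z1 v)) + ((v - R Z1 v) - R Z2 (v - R Z1 v))) := by
        have : (4 : k) = 1 + 1 + 1 + 1 := by norm_num
        rw [this, add_smul, add_smul, add_smul, one_smul]; abel
      have e2 : (v + R Z1 v) + R Z2 (v + R Z1 v) = 0 := by
        apply hC
        · simp only [map_add, i1, c12, i2]; abel
        · simp only [map_add, i1, c12, i2]; abel
      have e3 : (v + R Z1 v) - R Z2 (v + R Z1 v) ∈ L := by
        apply k1
        · simp only [map_add, map_sub, i1, c12, i2]; abel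
        · simp only [map_add, map_sub, i1, c12, i2]; abel
      have e4 : (v - R Z1 v) + R Z2 (v - R Z1 v) ∈ L := by
        apply k2
        · simp only [map_add, map_sub, i1, c12, i2]; abel
        · simp only [map_add, map_sub, i1, c12, i2]; abel
      have e5 : (v - R Z1 v) - R Z2 (v - R Z1 v) ∈ L := by
        apply k3
        · simp only [map_add, map_sub, i1, c12, i2]; abel
        · simp only [map_add, map_sub, i1, c12, i2]; abel
      have e6 : (4 : k) • v ∈ L := by
        rw [e1, e2]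
        exact add_mem (add_mem (zero_mem _) e3) (add_mem e4 e5)
      have h4 : (4 : k) ≠ 0 := by
        have : (4 : k) = 2 * 2 := by norm_num
        rw [this]; exact mul_ne_zero h2 h2
      have e7 := L.smul_mem (4 : k)⁻¹ e6
      rwa [smul_smul, inv_mul_cancel₀ h4, one_smul] at e7
    intro v
    rw [← hL, hspanV]; trivial
  -- `τ` is central
  have hcen : τ * (dt 0 4 1 2 (by decide) (by decide)) = (dt 0 4 1 2 (by decide) (by decide)) * τ := by
    apply hinj
    ext v
    rw [mul_apply', mul_apply', key, key, map_smul]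
  revert hcen
  decide

/-- **Wagner's bound in odd characteristic.** -/
theorem low_odd (h2 : (2 : k) ≠ 0) (p : ℕ) [CharP k p] (r : ℕ) (hr : 9 ≤ r) :
    Low.{u, v} k r (r - 1 - (if p ∣ r then 1 else 0)) := by
  induction r using Nat.strong_induction_on with
  | _ r ih =>
    obtain ⟨j, rfl⟩ : ∃ j, r = j + 4 := ⟨r - 4, by omega⟩
    intro V _ _ _ ρ hne
    by_contra hlt
    rw [not_le] at hlt
    have hn : finrank k V ≤ j + 2 := by split_ifs at hlt <;> omega
    obtain ⟨b, hLow, hb⟩ : ∃ b, Low.{u, v} k j b ∧ finrank k V < 3 * b := by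
      by_cases h5 : j = 5
      · exact ⟨3, low_three h2 j (by omega), by omega⟩
      by_cases h6 : j = 6
      · exact ⟨3, low_three h2 j (by omega), by omega⟩
      by_cases h7 : j = 7
      · subst h7
        exact ⟨4, low_seven h2, by omega⟩
      by_cases h8 : j = 8
      · subst h8
        exact ⟨4, low_mono (by omega) (low_seven h2) (by omega), by omega⟩
      · refine ⟨_, ih j (by omega) (by omega), ?_⟩
        split_ifs <;> omega
    have hinj := rep_injective (by rw [Fintype.card_fin]; omega) ρ hne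
    -- property (N)
    have hPN : PN ρ := by
      intro f7 v hv
      let f : Fin 4 ↪ Fin (j + 4) := (Fin.castLEEmb (by norm_num : 4 ≤ 7)).trans f7
      obtain ⟨h, hd, hcov⟩ := exists_compl f (by rw [Fintype.card_fin])
      let R := ρ.comp (emb f)
      let S := ρ.comp (emb h)
      have hcomm : ∀ x y v, R x (S y v) = S y (R x v) := by
        intro x y v
        show ρ (emb f x) (ρ (emb h y) v) = ρ (emb h y) (ρ (emb f x) v)
        rw [← mul_apply', emb_comm f h hd, mul_apply']
      obtain ⟨d0, d1, d2⟩ := four_dim h2 R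
      set W1 := (LinearMap.ker (R Z1 - 1) ⊓ LinearMap.ker (R Z2 + 1) : Submodule k V) with hW1
      set W2 := (LinearMap.ker (R Z1 + 1) ⊓ LinearMap.ker (R Z2 - 1) : Submodule k V) with hW2
      set W3 := (LinearMap.ker (R Z1 + 1) ⊓ LinearMap.ker (R Z2 + 1) : Submodule k V) with hW3
      have i2 : ∀ g, ∀ v ∈ W2, S g v ∈ W2 := by
        rintro g v ⟨h3, h4⟩
        rw [SetLike.mem_coe, mem_km] at h3
        rw [SetLike.mem_coe, mem_kp] at h4
        refine ⟨?_, ?_⟩
        · rw [SetLike.mem_coe, mem_km, hcomm, h3, map_neg]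
        · rw [SetLike.mem_coe, mem_kp, hcomm, h4]
      have i3 : ∀ g, ∀ v ∈ W3, S g v ∈ W3 := by
        rintro g v ⟨h3, h4⟩
        rw [SetLike.mem_coe, mem_km] at h3
        rw [SetLike.mem_coe, mem_km] at h4
        refine ⟨?_, ?_⟩
        · rw [SetLike.mem_coe, mem_km, hcomm, h3, map_neg]
        · rw [SetLike.mem_coe, mem_km, hcomm, h4, map_neg]
      have t2 := trivial_of_low hLow S W2 i2 (by omega)
      have t3 := trivial_of_low hLow S W3 i3 (by omega)
      -- the vector `v` is a sum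
      have hv' : R Z1 v = -v := by
        show ρ (emb f Z1) v = -v
        rw [emb_dt]; exact hv
      have hR : ∀ x y v, R (x * y) v = R x (R y v) := fun x y v => mul_apply' R x y v
      have r2 : (Z2 : alternatingGroup (Fin 4)) * Z2 = 1 := by decide
      have r3 : (Z1 : alternatingGroup (Fin 4)) * Z2 = Z2 * Z1 := by decide
      have i2' : ∀ v, R Z2 (R Z2 v) = v := fun v => by rw [← hR, r2, map_one, End.one_apply]
      have c12 : ∀ v, R Z1 (R Z2 v) = R Z2 (R Z1 v) := fun v => by rw [← hR, ← hR, r3]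
      have m2 : v + R Z2 v ∈ W2 := by
        refine ⟨?_, ?_⟩
        · rw [SetLike.mem_coe, mem_km, map_add, c12, hv', map_neg]; abel
        · rw [SetLike.mem_coe, mem_kp, map_add, i2']; abel
      have m3 : v - R Z2 v ∈ W3 := by
        refine ⟨?_, ?_⟩
        · rw [SetLike.mem_coe, mem_km, map_sub, c12, hv', map_neg]; abel
        · rw [SetLike.mem_coe, mem_km, map_sub, i2']; abel
      have fixed : ∀ g, S g v = v := by
        intro g
        have e1 := t2 g _ m2
        have e2 := t3 g _ m3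
        have e3 : (2 : k) • S g v = (2 : k) • v := by
          rw [two_smul, two_smul]
          calc S g v + S g v = S g (v + R Z2 v) + S g (v - R Z2 v) := by rw [map_add, map_sub]; abel
            _ = v + v := by rw [e1, e2]; abel
        exact smul_right_injective V h2 e3
      obtain ⟨σ, hσ⟩ := exists_emb h (cc (f7 4) (f7 5) (f7 6) (f7.injective.ne (by decide)) (f7.injective.ne (by decide)))
        (by
          intro y hy
          have hr : ∀ i : Fin 7, (∀ x : Fin 4, i ≠ Fin.castLE (by norm_num) x) → ∃ x, h x = f7 i := by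
            intro i hi
            apply hcov
            intro x hx
            exact hi x (f7.injective hx).symm
          obtain ⟨x4, h4⟩ := hr 4 (by decide)
          obtain ⟨x5, h5⟩ := hr 5 (by decide)
          obtain ⟨x6, h6⟩ := hr 6 (by decide)
          exact c3_other (by rw [← h4]; exact (hy x4).symm) (by rw [← h5]; exact (hy x5).symm)
            (by rw [← h6]; exact (hy x6).symm))
      rw [← hσ]
      exact fixed σ
    -- a negated vector
    let f : Fin 4 ↪ Fin (j + 4) := Fin.castLEEmb (by omega)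
    let R := ρ.comp (emb f)
    have h1 : R Z1 ≠ 1 := by
      intro h
      have h3 : ρ (emb f Z1) = ρ 1 := by rw [map_one]; exact h
      have h4 : emb f Z1 = emb f 1 := by rw [hinj h3, map_one]
      have h5 := emb_injective f h4
      revert h5
      decide
    have hp := W1_pos h2 R h1
    obtain ⟨v, hv, hv0⟩ := Submodule.exists_mem_ne_zero_of_ne_bot
      (p := (LinearMap.ker (R Z1 - 1) ⊓ LinearMap.ker (R Z2 + 1) : Submodule k V)) (by
        intro h
        rw [h, finrank_bot] at hp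
        omega)
    have hv' : ρ (emb f Z2) v = -v := mem_km.1 hv.2
    rw [emb_dt] at hv'
    have ne : ∀ i l : Fin 4, i ≠ l → f i ≠ f l := fun i l h => f.injective.ne h
    have := final h2 p (by rw [Fintype.card_fin]; omega) ρ hPN (ne 0 2 (by decide)) (ne 1 3 (by decide))
      (ne 0 1 (by decide)) (ne 0 3 (by decide)) (ne 2 1 (by decide)) (ne 2 3 (by decide)) hv0 hv'
    rw [Fintype.card_fin] at this
    omega

end gen

end Cfsg.Agent.H189.AltOddDim
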