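import Cfsg.Agent.H189.AltSpin

/-!
# Faithful representations of the double covers of the alternating groups: the bounds

`spin_low`: a representation of a double cover of `A_r`, `r ≥ 9`, over an algebraically closed field of characteristic
`p ≠ 2` on which the central involution acts as `-1` has degree at least `r - 1`, or `r - 2` if `p` divides `r`.
-/

set_option autoImplicit false

namespace Cfsg.Agent.H189.AltSpinLow

open Equiv Equiv.Perm Module Cyc Wt NatMod Emb AltOdd AltOddDim Eig AltTwo AltSpin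
open Cfsg.Agent.SporRec.TwoAn

universe u v w x

/-- every representation of a double cover of `A_r` with `z ↦ -1` has degree at least `b` -/
def SpinLow (k : Type u) [Field k] (r b : ℕ) : Prop :=
  ∀ (C : Type w) [Group C] (K : Cover (Fin r) C) (V : Type v) [AddCommGroup V] [Module k V] [FiniteDimensional k V]
    (ρ : C →* End k V), (∀ v, ρ K.z v = -v) → Nontrivial V → b ≤ finrank k V

section gen

variable {α : Type x} [Fintype α] [DecidableEq α] {C : Type w} [Group C] (K : Cover α C)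
variable {k : Type u} {V : Type v} [Field k] [AddCommGroup V] [Module k V]

/-- an invariant subspace of the subgroup of an embedded set -/
theorem spin_sub [FiniteDimensional k V] {r b : ℕ} (h : SpinLow.{u, v, w} k r b) (ρ : C →* End k V)
    (hz : ∀ v, ρ K.z v = -v) (f : Fin r ↪ α) (U : Submodule k V) (hU : U ≠ ⊥)
    (hinv : ∀ g : C, (∀ x, (∀ i, f i ≠ x) → K.π g x = x) → ∀ v ∈ U, ρ g v ∈ U) : b ≤ finrank k U := by
  classical
  obtain ⟨p, hpf⟩ : ∃ p : α → Prop, ∀ x, p x ↔ x ∈ Set.range f := ⟨fun x => x ∈ Set.range f, fun _ => Iff.rfl⟩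
  let e : Subtype p ≃ Fin r := (Equiv.subtypeEquivRight hpf).trans f.toEquivRange.symm
  have hp : ∀ g : K.sub p, ∀ v ∈ U, (ρ.comp (K.sub p).subtype) g v ∈ U := by
    intro g v hv
    refine hinv g ?_ v hv
    intro x hx
    exact g.2 x (fun h => by
      obtain ⟨i, hi⟩ := (hpf x).1 h
      exact hx i hi)
  refine h (K.sub p) ((K.restrict p).congr e) U (subrep (ρ.comp (K.sub p).subtype) U hp) ?_
    ((Submodule.nontrivial_iff_ne_bot).2 hU)
  intro v
  apply Subtype.ext
  exact hz v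

theorem spin_mono {r b : ℕ} (h : SpinLow.{u, v, w} k r b) {r' : ℕ} (hr : r ≤ r') : SpinLow.{u, v, w} k r' b := by
  intro C _ K V _ _ _ ρ hz hV
  have := spin_sub K h ρ hz (Fin.castLEEmb hr) ⊤ top_ne_bot (fun _ _ _ _ => trivial)
  rwa [finrank_top] at this

theorem spin_le {r b b' : ℕ} (h : SpinLow.{u, v, w} k r b) (hb : b' ≤ b) : SpinLow.{u, v, w} k r b' :=
  fun C _ K V _ _ _ ρ hz hV => hb.trans (h C K V ρ hz hV)

/-- six points: at least 4 -/
theorem spin_six [IsAlgClosed k] (h2 : (2 : k) ≠ 0) (h3 : (3 : k) ≠ 0) : SpinLow.{u, v, w} k 6 4 := by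
  intro C _ K V _ _ _ ρ hz hV
  have id6 : ∀ σ : Perm (Fin 6), embP (Function.Embedding.refl (Fin 6)) σ = σ := by
    intro σ
    ext x
    exact congrArg Fin.val (embP_apply (Function.Embedding.refl (Fin 6)) σ x)
  obtain ⟨t, ht, ht3⟩ := exists_s K (n := 3) (Function.Embedding.refl (Fin 6)) (cc 0 1 2 (by decide) (by decide))
    (by decide) (by decide)
  obtain ⟨t', ht', ht3'⟩ := exists_s K (n := 3) (Function.Embedding.refl (Fin 6)) (cc 3 4 5 (by decide) (by decide))
    (by decide) (by decide)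
  obtain ⟨c, hc⟩ := exists_c K (Function.Embedding.refl (Fin 6))
    ⟨swap 0 3 * swap 3 1 * swap 1 4 * swap 2 5, by rw [mem_alternatingGroup]; decide⟩
  rw [id6] at ht ht' hc
  have e1 : c * t = t' * c := by
    have := lift_rel K (a := t') (b := t) (g := c) (n := 3) (m := 1) (by decide) ht3' ht3 (by
      rw [ht, ht', hc]; decide)
    rw [pow_one] at this
    exact this.symm
  have e2 : c * t' = t⁻¹ * c := by
    have := lift_rel K (a := t) (b := t') (g := c) (n := 3) (m := 2) (by decide) ht3 ht3' (by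
      rw [ht, ht', hc]; decide)
    have h4 : t'^2 = t'⁻¹ := by
      rw [eq_inv_iff_mul_eq_one, ← pow_succ, ht3']
    rw [h4] at this
    rw [eq_inv_mul_iff_mul_eq, ← mul_assoc, this]
    group
  refine four_le h3 ρ t t' c ht3 ht3' ?_ e1 e2 ?_
  · refine K.commute_of_odd (n := 3) (by decide) ht3 ?_
    rw [ht, ht']; decide
  · intro h
    have h5 : t = 1 := rep_inj K (by rw [Fintype.card_fin]; omega) h2 ρ hz (by rw [h, map_one])
    rw [h5, map_one] at ht
    revert ht
    decide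

/-- a quaternion group on four points acts on `U` -/
theorem quat_le [FiniteDimensional k V] (h2 : (2 : k) ≠ 0) (ρ : C →* End k V) (hz : ∀ v, ρ K.z v = -v)
    (f : Fin 4 ↪ α) (U : Submodule k V) (hU : U ≠ ⊥)
    (hinv : ∀ g : C, (∀ x, (∀ i, f i ≠ x) → K.π g x = x) → ∀ v ∈ U, ρ g v ∈ U) : 2 ≤ finrank k U := by
  have ne : ∀ i j : Fin 4, i ≠ j → f i ≠ f j := fun i j h => f.injective.ne h
  obtain ⟨a, ha⟩ := K.exists_lift (dt_mem (ne 0 1 (by decide)) (ne 2 3 (by decide)))
  obtain ⟨b, hb⟩ := K.exists_lift (dt_mem (ne 0 2 (by decide)) (ne 1 3 (by decide)))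
  have hab := K.anticomm (ne 0 1 (by decide)) (ne 0 2 (by decide)) (ne 0 3 (by decide)) (ne 1 2 (by decide))
    (ne 1 3 (by decide)) (ne 2 3 (by decide)) ha hb
  refine two_le_of_anti K h2 ρ hz hab U hU ?_ ?_
  · apply hinv
    intro x hx
    rw [ha, mul_apply, swap_apply_of_ne_of_ne (hx 2).symm (hx 3).symm, swap_apply_of_ne_of_ne (hx 0).symm (hx 1).symm]
  · apply hinv
    intro x hx
    rw [hb, mul_apply, swap_apply_of_ne_of_ne (hx 1).symm (hx 3).symm, swap_apply_of_ne_of_ne (hx 0).symm (hx 2).symm]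

theorem spin_nine_a [IsAlgClosed k] (h2 : (2 : k) ≠ 0) (h5 : (5 : k) ≠ 0) : SpinLow.{u, v, w} k 9 8 := by
  intro C _ K V _ _ _ ρ hz hV
  refine five_le K h2 h5 ρ hz (Fin.castLEEmb (by norm_num)) 2 ?_
  intro U hU hinv
  let f : Fin 4 ↪ Fin 9 := ⟨fun i => ⟨i.1 + 5, by omega⟩, fun a b h => by
    have := congrArg Fin.val h
    simp only [add_left_inj] at this
    exact Fin.ext this⟩
  refine quat_le K h2 ρ hz f U hU ?_
  intro g hg
  apply hinv
  intro i
  apply hg
  intro j h
  have h1 := congrArg Fin.val h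
  have h3 : j.1 + 5 = i.1 := h1
  omega

theorem spin_nine_b [IsAlgClosed k] (h2 : (2 : k) ≠ 0) (h3 : (3 : k) ≠ 0) : SpinLow.{u, v, w} k 9 8 := by
  intro C _ K V _ _ _ ρ hz hV
  refine three_le K h2 h3 ρ hz (Fin.castLEEmb (by norm_num)) 4 ?_
  intro U hU hinv
  let f : Fin 6 ↪ Fin 9 := ⟨fun i => ⟨i.1 + 3, by omega⟩, fun a b h => by
    have := congrArg Fin.val h
    simp only [add_left_inj] at this
    exact Fin.ext this⟩
  refine spin_sub K (spin_six h2 h3) ρ hz f U hU ?_
  intro g hg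
  apply hinv
  intro i
  apply hg
  intro j h
  have h1 := congrArg Fin.val h
  have h3 : j.1 + 3 = i.1 := h1
  omega

theorem spin_eleven [IsAlgClosed k] (h2 : (2 : k) ≠ 0) (h7 : (7 : k) ≠ 0) : SpinLow.{u, v, w} k 11 12 := by
  intro C _ K V _ _ _ ρ hz hV
  refine seven_le K h2 h7 ρ hz (Fin.castLEEmb (by norm_num)) 2 ?_
  intro U hU hinv
  let f : Fin 4 ↪ Fin 11 := ⟨fun i => ⟨i.1 + 7, by omega⟩, fun a b h => by
    have := congrArg Fin.val h
    simp only [add_left_inj] at this
    exact Fin.ext this⟩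
  refine quat_le K h2 ρ hz f U hU ?_
  intro g hg
  apply hinv
  intro i
  apply hg
  intro j h
  have h1 := congrArg Fin.val h
  have h3 : j.1 + 7 = i.1 := h1
  omega

/-- recursion by three points -/
theorem spin_add_three [IsAlgClosed k] (h2 : (2 : k) ≠ 0) (h3 : (3 : k) ≠ 0) {r b : ℕ} (hr : 2 ≤ r)
    (h : SpinLow.{u, v, w} k r b) : SpinLow.{u, v, w} k (r + 3) (2 * b) := by
  intro C _ K V _ _ _ ρ hz hV
  refine three_le K h2 h3 ρ hz (Fin.castLEEmb (by omega)) b ?_
  intro U hU hinv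
  let f : Fin r ↪ Fin (r + 3) := ⟨fun i => ⟨i.1 + 3, by omega⟩, fun a b h => by
    have := congrArg Fin.val h
    simp only [add_left_inj] at this
    exact Fin.ext this⟩
  refine spin_sub K h ρ hz f U hU ?_
  intro g hg
  apply hinv
  intro i
  apply hg
  intro j h
  have h1 := congrArg Fin.val h
  have h3 : j.1 + 3 = i.1 := h1
  omega

/-- recursion by five points -/
theorem spin_add_five [IsAlgClosed k] (h2 : (2 : k) ≠ 0) (h5 : (5 : k) ≠ 0) {r b : ℕ} (hr : 2 ≤ r)
    (h : SpinLow.{u, v, w} k r b) : SpinLow.{u, v, w} k (r + 5) (4 * b) := by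
  intro C _ K V _ _ _ ρ hz hV
  refine five_le K h2 h5 ρ hz (Fin.castLEEmb (by omega)) b ?_
  intro U hU hinv
  let f : Fin r ↪ Fin (r + 5) := ⟨fun i => ⟨i.1 + 5, by omega⟩, fun a b h => by
    have := congrArg Fin.val h
    simp only [add_left_inj] at this
    exact Fin.ext this⟩
  refine spin_sub K h ρ hz f U hU ?_
  intro g hg
  apply hinv
  intro i
  apply hg
  intro j h
  have h1 := congrArg Fin.val h
  have h3 : j.1 + 5 = i.1 := h1
  omega

/-- the two moves on the weights of `5²` -/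
def mA (x : ZMod 5 × ZMod 5) : ZMod 5 × ZMod 5 := (3 * x.2, x.1)

theorem orbit_one : ∀ a b : ZMod 5, a ≠ 0 → b ≠ 0 →
    ∃ n : Fin 8, mA^[n.1] (a, b) = (1, 1) ∨ ((mA^[n.1] (a, b)).1, 4 * (mA^[n.1] (a, b)).2) = (1, 1) := by
  decide

theorem orbit_two : ∀ a b : ZMod 5, a ≠ 0 → b ≠ 0 →
    ∃ n : Fin 8, mA^[n.1] (1, 1) = (a, b) ∨ ((mA^[n.1] (1, 1)).1, 4 * (mA^[n.1] (1, 1)).2) = (a, b) := by
  decide

theorem spin_ten [IsAlgClosed k] (h2 : (2 : k) ≠ 0) (h5 : (5 : k) ≠ 0) : SpinLow.{u, v, w} k 10 16 := by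
  classical
  intro C _ K V _ _ _ ρ hz hV
  have id10 : ∀ σ : Perm (Fin 10), embP (Function.Embedding.refl (Fin 10)) σ = σ := by
    intro σ
    ext x
    exact congrArg Fin.val (embP_apply (Function.Embedding.refl (Fin 10)) σ x)
  obtain ⟨s, hs, hs5⟩ := exists_s K (n := 5) (Function.Embedding.refl (Fin 10))
    ⟨swap 0 1 * swap 1 2 * swap 2 3 * swap 3 4, by rw [mem_alternatingGroup]; decide⟩ (by decide) (by decide +kernel)
  obtain ⟨s', hs', hs5'⟩ := exists_s K (n := 5) (Function.Embedding.refl (Fin 10))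
    ⟨swap 5 6 * swap 6 7 * swap 7 8 * swap 8 9, by rw [mem_alternatingGroup]; decide⟩ (by decide) (by decide +kernel)
  obtain ⟨W, hW⟩ := exists_c K (Function.Embedding.refl (Fin 10))
    ⟨swap 0 5 * (swap 1 6 * swap 6 2 * swap 2 7 * swap 7 4 * swap 4 9 * swap 9 3 * swap 3 8), by
      rw [mem_alternatingGroup]; decide⟩
  obtain ⟨I, hI⟩ := exists_c K (Function.Embedding.refl (Fin 10))
    ⟨swap 6 9 * swap 7 8, by rw [mem_alternatingGroup]; decide⟩
  rw [id10] at hs hs' hW hI
  have rW1 : s * W = W * s' ^ 3 := lift_rel K (n := 5) (by decide) hs5 hs5' (by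
    rw [hs, hs', hW]; decide +kernel)
  have rW2 : s' * W = W * s ^ 1 := lift_rel K (n := 5) (by decide) hs5' hs5 (by
    rw [hs, hs', hW]; decide +kernel)
  have rI1 : s * I = I * s ^ 1 := lift_rel K (n := 5) (by decide) hs5 hs5 (by
    rw [hs, hI]; decide +kernel)
  have rI2 : s' * I = I * s' ^ 4 := lift_rel K (n := 5) (by decide) hs5' hs5' (by
    rw [hs', hI]; decide +kernel)
  -- the first weight
  have hinj := rep_inj K (by rw [Fintype.card_fin]; omega) h2 ρ hz
  have hs1 : ρ s ≠ 1 := by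
    intro h
    have h6 : s = 1 := hinj (by rw [h, map_one])
    rw [h6, map_one] at hs
    revert hs
    decide
  have hT : ρ s ^ 5 = 1 := by rw [← map_pow, hs5, map_one]
  have hT' : ρ s' ^ 5 = 1 := by rw [← map_pow, hs5', map_one]
  obtain ⟨w0, hw0, ζ, hζ1, hζ⟩ := exists_eig_ne_one (ρ s) hT (by exact_mod_cast h5) hs1
  have hζ5 := pow_eq_one_of_eig hT hw0 hζ
  have hprim : IsPrimitiveRoot ζ 5 := by
    have := Fact.mk (show Nat.Prime 5 by norm_num)
    rw [← orderOf_eq_prime hζ5 hζ1]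
    exact IsPrimitiveRoot.orderOf ζ
  obtain ⟨w1, hw1, hw1s, μ, hμ1, hμ⟩ : ∃ w1 : V, w1 ≠ 0 ∧ ρ s w1 = ζ • w1 ∧ ∃ μ : k, μ ≠ 1 ∧ ρ s' w1 = μ • w1 := by
    let p : Fin 10 → Prop := fun x => 5 ≤ x.1
    let U := (ρ s).eigenspace ζ
    have hU : ∀ g : K.sub p, ∀ v ∈ U, (ρ.comp (K.sub p).subtype) g v ∈ U := by
      intro g v hv
      have hcom : s * (g : C) = g * s := by
        apply K.commute_of_disjoint
        intro x
        by_cases hx : p x
        · left
          rw [hs]
          revert x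
          decide
        · right
          exact g.2 x hx
      have hv' : ρ s v = ζ • v := End.mem_eigenspace_iff.1 hv
      apply End.mem_eigenspace_iff.2
      show ρ s (ρ g v) = ζ • ρ g v
      rw [← mul_apply', hcom, mul_apply', hv', map_smul]
    have hUn : U ≠ ⊥ := by
      intro h
      apply hw0
      have : w0 ∈ U := End.mem_eigenspace_iff.2 hζ
      rw [h] at this
      exact (Submodule.mem_bot k).1 this
    have : Nontrivial U := (Submodule.nontrivial_iff_ne_bot).2 hUn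
    let ρ' := subrep (ρ.comp (K.sub p).subtype) U hU
    have hinj' : Function.Injective ρ' := by
      refine rep_inj (K.restrict p) ?_ h2 ρ' ?_
      · rw [Fintype.card_subtype]; decide
      · intro v
        apply Subtype.ext
        exact hz v
    have hs'm : s' ∈ K.sub p := by
      intro x hx
      rw [hs']
      revert x
      decide
    have hne : ρ' ⟨s', hs'm⟩ ≠ 1 := by
      intro h
      have h6 : (⟨s', hs'm⟩ : K.sub p) = 1 := hinj' (by rw [h, map_one])
      have h7 : s' = 1 := congrArg Subtype.val h6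
      rw [h7, map_one] at hs'
      revert hs'
      decide
    have hT2 : ρ' ⟨s', hs'm⟩ ^ 5 = 1 := by
      rw [← map_pow]
      have : (⟨s', hs'm⟩ : K.sub p) ^ 5 = 1 := Subtype.ext hs5'
      rw [this, map_one]
    obtain ⟨w, hw, μ, hμ1, hμ⟩ := exists_eig_ne_one (ρ' ⟨s', hs'm⟩) hT2 (by exact_mod_cast h5) hne
    refine ⟨w, fun h => hw (Subtype.ext h), End.mem_eigenspace_iff.1 w.2, μ, hμ1, ?_⟩
    exact congrArg Subtype.val hμ
  have hμ5 := pow_eq_one_of_eig hT' hw1 hμ
  obtain ⟨j0, hj0, hj⟩ := hprim.eq_pow_of_pow_eq_one hμ5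
  -- weights
  let P : ZMod 5 × ZMod 5 → Prop := fun x => ∃ w : V, w ≠ 0 ∧ ρ s w = ζ ^ x.1.val • w ∧ ρ s' w = ζ ^ x.2.val • w
  have powact : ∀ (g : C) (a : k) (v : V), ρ g v = a • v → ∀ i : ℕ, ρ (g ^ i) v = a ^ i • v := by
    intro g a v hv i
    induction i with
    | zero => simp
    | succ i ih => rw [pow_succ, mul_apply', hv, map_smul, ih, smul_smul, pow_succ, mul_comm]
  have hval : ∀ (n : ℕ) (x : ZMod 5), ζ ^ ((n : ZMod 5) * x).val = (ζ ^ x.val) ^ n := by
    intro n x
    rw [← pow_mul, ZMod.val_mul, ← pow_mod_orderOf ζ (x.val * n), ← hprim.eq_orderOf, ZMod.val_natCast]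
    congr 1
    rw [Nat.mod_mul_mod, mul_comm]
  have stepA : ∀ x, P x → P (mA x) := by
    rintro ⟨a, b⟩ ⟨w, hw, h6, h7⟩
    refine ⟨ρ W w, ne_zero ρ W hw, ?_, ?_⟩
    · show ρ s (ρ W w) = ζ ^ ((3 : ZMod 5) * b).val • ρ W w
      have := hval 3 b
      rw [← mul_apply', rW1, mul_apply', powact _ _ _ h7, map_smul]
      push_cast at this
      rw [this]
    · show ρ s' (ρ W w) = ζ ^ a.val • ρ W w
      rw [← mul_apply', rW2, pow_one, mul_apply', h6, map_smul]
  have stepB : ∀ x : ZMod 5 × ZMod 5, P x → P (x.1, 4 * x.2) := by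
    rintro ⟨a, b⟩ ⟨w, hw, h6, h7⟩
    refine ⟨ρ I w, ne_zero ρ I hw, ?_, ?_⟩
    · show ρ s (ρ I w) = ζ ^ a.val • ρ I w
      rw [← mul_apply', rI1, pow_one, mul_apply', h6, map_smul]
    · show ρ s' (ρ I w) = ζ ^ ((4 : ZMod 5) * b).val • ρ I w
      have := hval 4 b
      rw [← mul_apply', rI2, mul_apply', powact _ _ _ h7, map_smul]
      push_cast at this
      rw [this]
  have stepAn : ∀ (n : ℕ) (x), P x → P (mA^[n] x) := by
    intro n
    induction n with
    | zero => intro x hx; exact hx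
    | succ n ih => intro x hx; rw [Function.iterate_succ_apply]; exact ih _ (stepA x hx)
  have hP0 : P (1, (j0 : ZMod 5)) := by
    refine ⟨w1, hw1, ?_, ?_⟩
    · show ρ s w1 = ζ ^ (1 : ZMod 5).val • w1
      have : (1 : ZMod 5).val = 1 := by decide
      rw [this, pow_one, hw1s]
    · show ρ s' w1 = ζ ^ ((j0 : ℕ) : ZMod 5).val • w1
      rw [ZMod.val_natCast, Nat.mod_eq_of_lt hj0, hj, hμ]
  have hj00 : ((j0 : ℕ) : ZMod 5) ≠ 0 := by
    intro h
    rw [ZMod.natCast_eq_zero_iff] at h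
    have h8 : j0 = 0 := Nat.eq_zero_of_dvd_of_lt h hj0
    rw [h8, pow_zero] at hj
    exact hμ1 hj.symm
  have hP1 : P (1, 1) := by
    obtain ⟨n, h6 | h6⟩ := orbit_one 1 (j0 : ZMod 5) (by decide) hj00
    · rw [← h6]; exact stepAn _ _ hP0
    · rw [← h6]; exact stepB _ (stepAn _ _ hP0)
  have hP : ∀ a b : ZMod 5, a ≠ 0 → b ≠ 0 → P (a, b) := by
    intro a b ha hb
    obtain ⟨n, h6 | h6⟩ := orbit_two a b ha hb
    · rw [← h6]; exact stepAn _ _ hP1
    · rw [← h6]; exact stepB _ (stepAn _ _ hP1)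
  let ι := {a : ZMod 5 // a ≠ 0} × {a : ZMod 5 // a ≠ 0}
  choose wt hwt0 hwt1 hwt2 using fun x : ι => hP x.1.1 x.2.1 x.1.2 x.2.2
  have hfin := card_le_of_wt (ι := ι) (κ := Bool) (fun b => if b then ρ s else ρ s') wt
    (fun x b => if b then ζ ^ x.1.1.val else ζ ^ x.2.1.val) (by
      intro x y hxy
      have q1 : ζ ^ x.1.1.val = ζ ^ y.1.1.val := by
        have := congrFun hxy true
        simpa using this
      have q2 : ζ ^ x.2.1.val = ζ ^ y.2.1.val := by
        have := congrFun hxy false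
        simpa using this
      have r1 := hprim.pow_inj (ZMod.val_lt _) (ZMod.val_lt _) q1
      have r2 := hprim.pow_inj (ZMod.val_lt _) (ZMod.val_lt _) q2
      exact Prod.ext (Subtype.ext (ZMod.val_injective 5 r1)) (Subtype.ext (ZMod.val_injective 5 r2)))
    hwt0 (by
      intro x b
      cases b
      · exact hwt2 x
      · exact hwt1 x)
  have hcard : Fintype.card ι = 16 := by
    show Fintype.card ({a : ZMod 5 // a ≠ 0} × {a : ZMod 5 // a ≠ 0}) = 16
    decide
  rw [hcard] at hfin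
  exact hfin

theorem spin_a [IsAlgClosed k] (h2 : (2 : k) ≠ 0) (h5 : (5 : k) ≠ 0) (r : ℕ) (hr : 9 ≤ r) :
    SpinLow.{u, v, w} k r (r - 1) := by
  induction r using Nat.strong_induction_on with
  | _ r ih =>
    by_cases h9 : r = 9
    · subst h9; exact spin_nine_a h2 h5
    by_cases h17 : r ≤ 17
    · exact spin_le (spin_mono (spin_ten h2 h5) (by omega)) (by omega)
    obtain ⟨j, rfl⟩ : ∃ j, r = j + 5 := ⟨r - 5, by omega⟩
    exact spin_le (spin_add_five h2 h5 (by omega) (ih j (by omega) (by omega))) (by omega)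

/-- **spin representations**: the bound -/
theorem spin_low [IsAlgClosed k] (h2 : (2 : k) ≠ 0) (p : ℕ) [CharP k p] (r : ℕ) (hr : 9 ≤ r) :
    SpinLow.{u, v, w} k r (r - 1 - (if p ∣ r then 1 else 0)) := by
  by_cases h5 : (5 : k) = 0
  · -- characteristic 5
    have hp : p = 5 := by
      have h6 : p ∣ 5 := (CharP.cast_eq_zero_iff k p 5).1 (by exact_mod_cast h5)
      rcases (Nat.dvd_prime (by norm_num)).1 h6 with h7 | h7
      · have := CharP.char_ne_one k p
        exact absurd h7 this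
      · exact h7
    have h3 : (3 : k) ≠ 0 := by
      intro h
      apply h2
      have : (2 : k) = 5 - 3 := by norm_num
      rw [this, h5, h, sub_zero]
    have h7 : (7 : k) ≠ 0 := by
      intro h
      apply h2
      have : (2 : k) = 7 - 5 := by norm_num
      rw [this, h5, h, sub_zero]
    subst hp
    induction r using Nat.strong_induction_on with
    | _ r ih =>
      by_cases h9 : r = 9
      · subst h9; exact spin_le (spin_nine_b h2 h3) (by norm_num)
      by_cases h10 : r = 10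
      · subst h10; exact spin_le (spin_mono (spin_nine_b h2 h3) (by norm_num)) (by norm_num)
      by_cases h11 : r = 11
      · subst h11; exact spin_le (spin_eleven h2 h7) (by norm_num)
      obtain ⟨j, rfl⟩ : ∃ j, r = j + 3 := ⟨r - 3, by omega⟩
      refine spin_le (spin_add_three h2 h3 (by omega) (ih j (by omega) (by omega))) ?_
      split_ifs <;> omega
  · exact spin_le (spin_a h2 h5 r hr) (Nat.sub_le _ _)

end gen

end Cfsg.Agent.H189.AltSpinLow
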