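import Cfsg.Agent.H189.Cyc

/-!
# Alternating groups of subsets

`emb f : alternatingGroup β →* alternatingGroup α` for an embedding `f : β ↪ α`; the elements `dt` (double
transpositions) and `cc` (3-cycles) of the alternating group.
-/

set_option autoImplicit false

namespace Cfsg.Agent.H189.Emb

open Equiv Equiv.Perm Cyc

universe u v

variable {α : Type u} [Fintype α] [DecidableEq α] {β : Type v} [Fintype β] [DecidableEq β]

open Classical in
/-- extension of permutations by the identity -/
noncomputable def embP (f : β ↪ α) : Perm β →* Perm α := extendDomainHom f.toEquivRange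

omit [Fintype α] [DecidableEq β] in
theorem embP_apply (f : β ↪ α) (σ : Perm β) (x : β) : embP f σ (f x) = f (σ x) := by
  classical
  have := extendDomain_apply_image σ f.toEquivRange x
  exact this

omit [Fintype α] [DecidableEq β] in
theorem embP_other (f : β ↪ α) (σ : Perm β) {y : α} (hy : ∀ x, f x ≠ y) : embP f σ y = y := by
  classical
  refine extendDomain_apply_not_subtype σ f.toEquivRange ?_
  rintro ⟨x, hx⟩
  exact hy x hx

omit [Fintype α] in
theorem embP_swap (f : β ↪ α) (i j : β) : embP f (swap i j) = swap (f i) (f j) := by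
  ext y
  by_cases hy : ∃ x, f x = y
  · obtain ⟨x, rfl⟩ := hy
    rw [embP_apply]
    by_cases h1 : x = i
    · subst h1; rw [swap_apply_left, swap_apply_left]
    by_cases h2 : x = j
    · subst h2; rw [swap_apply_right, swap_apply_right]
    rw [swap_apply_of_ne_of_ne h1 h2, swap_apply_of_ne_of_ne (f.injective.ne h1) (f.injective.ne h2)]
  · push Not at hy
    rw [embP_other f _ hy, swap_apply_of_ne_of_ne (hy i).symm (hy j).symm]

omit [Fintype α] in
theorem embP_c3 (f : β ↪ α) (i j l : β) : embP f (c3 i j l) = c3 (f i) (f j) (f l) := by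
  rw [c3, c3, map_mul, embP_swap, embP_swap]

theorem sign_embP (f : β ↪ α) (σ : Perm β) : sign (embP f σ) = sign σ := by
  classical
  have := sign_extendDomain σ f.toEquivRange
  rw [← this]
  congr 1

/-- extension by the identity on alternating groups -/
noncomputable def emb (f : β ↪ α) : alternatingGroup β →* alternatingGroup α :=
  ((embP f).comp (alternatingGroup β).subtype).codRestrict (alternatingGroup α) (fun σ => by
    rw [mem_alternatingGroup]
    show sign (embP f σ) = 1
    rw [sign_embP]; exact mem_alternatingGroup.1 σ.2)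

theorem coe_emb (f : β ↪ α) (σ : alternatingGroup β) : ((emb f σ : alternatingGroup α) : Perm α) = embP f σ := rfl

theorem emb_apply (f : β ↪ α) (σ : alternatingGroup β) (x : β) :
    ((emb f σ : alternatingGroup α) : Perm α) (f x) = f ((σ : Perm β) x) := embP_apply f _ x

theorem emb_other (f : β ↪ α) (σ : alternatingGroup β) {y : α} (hy : ∀ x, f x ≠ y) :
    ((emb f σ : alternatingGroup α) : Perm α) y = y := embP_other f _ hy

theorem emb_injective (f : β ↪ α) : Function.Injective (emb f) := by
  intro a b hab
  apply Subtype.ext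
  ext x
  apply f.injective
  rw [← emb_apply, ← emb_apply, hab]

/-- alternating groups on disjoint sets commute -/
theorem emb_comm {γ : Type*} [Fintype γ] [DecidableEq γ] (f : β ↪ α) (h : γ ↪ α) (hd : ∀ x y, f x ≠ h y)
    (σ : alternatingGroup β) (τ : alternatingGroup γ) : emb f σ * emb h τ = emb h τ * emb f σ := by
  apply Subtype.ext
  ext y
  show ((emb f σ : alternatingGroup α) : Perm α) (((emb h τ : alternatingGroup α) : Perm α) y) =
    ((emb h τ : alternatingGroup α) : Perm α) (((emb f σ : alternatingGroup α) : Perm α) y)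
  by_cases h1 : ∃ x, f x = y
  · obtain ⟨x, rfl⟩ := h1
    rw [emb_other h τ (fun z => (hd x z).symm), emb_apply, emb_other h τ (fun z => (hd _ z).symm)]
  by_cases h2 : ∃ x, h x = y
  · obtain ⟨x, rfl⟩ := h2
    rw [emb_other f σ (fun z => hd z x), emb_apply, emb_other f σ (fun z => hd z _)]
  push Not at h1 h2
  rw [emb_other h τ h2, emb_other f σ h1, emb_other h τ h2]

/-- the double transposition `(a b)(c d)` -/
def dt (a b c d : α) (hab : a ≠ b) (hcd : c ≠ d) : alternatingGroup α := ⟨swap a b * swap c d, dt_mem hab hcd⟩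

/-- the 3-cycle `a ↦ b ↦ c ↦ a` -/
def cc (a b c : α) (hab : a ≠ b) (hbc : b ≠ c) : alternatingGroup α := ⟨c3 a b c, c3_mem hab hbc⟩

theorem emb_dt (f : β ↪ α) (a b c d : β) (hab : a ≠ b) (hcd : c ≠ d) :
    emb f (dt a b c d hab hcd) = dt (f a) (f b) (f c) (f d) (f.injective.ne hab) (f.injective.ne hcd) := by
  apply Subtype.ext
  rw [coe_emb]
  show embP f (swap a b * swap c d) = swap (f a) (f b) * swap (f c) (f d)
  rw [map_mul, embP_swap, embP_swap]

theorem emb_cc (f : β ↪ α) (a b c : β) (hab : a ≠ b) (hbc : b ≠ c) :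
    emb f (cc a b c hab hbc) = cc (f a) (f b) (f c) (f.injective.ne hab) (f.injective.ne hbc) := by
  apply Subtype.ext
  rw [coe_emb]
  exact embP_c3 f a b c

/-- an element of the alternating group of `α` supported in the range of `f` comes from `β` -/
theorem exists_emb (f : β ↪ α) (τ : alternatingGroup α) (h : ∀ y, (∀ x, f x ≠ y) → (τ : Perm α) y = y) :
    ∃ σ : alternatingGroup β, emb f σ = τ := by
  classical
  -- `τ` is a product of 3-cycles with points in the range
  let Γ : Subgroup (Perm α) := (emb f).range.map (alternatingGroup α).subtype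
  have hfull : Full Γ (Set.range f) := by
    rintro _ ⟨a, rfl⟩ _ ⟨b, rfl⟩ _ ⟨c, rfl⟩ hab hac hbc
    have h1 : a ≠ b := fun e => hab (by rw [e])
    have h2 : b ≠ c := fun e => hbc (by rw [e])
    refine ⟨emb f (cc a b c h1 h2), ⟨_, rfl⟩, ?_⟩
    rw [emb_cc]
    rfl
  have h1 : (τ : Perm α) ∈ Γ := by
    apply mem_of_full hfull (mem_alternatingGroup.1 τ.2)
    intro x hx
    by_contra hcon
    apply hx
    apply h
    intro z hz
    exact hcon ⟨z, hz⟩
  obtain ⟨_, ⟨σ, rfl⟩, h2⟩ := h1
  exact ⟨σ, Subtype.ext h2⟩

end Cfsg.Agent.H189.Emb
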