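import Cfsg.Agent.H189.NatMod
import Cfsg.Agent.H189.Emb

/-!
# Alternating groups, odd characteristic: from the action of the centralizers of four-groups to the natural module
-/

set_option autoImplicit false

namespace Cfsg.Agent.H189.AltOdd

open Equiv Equiv.Perm Module Cyc Wt NatMod Emb

universe u v w

variable {α : Type w} [Fintype α] [DecidableEq α]

variable {k : Type u} {V : Type v} [Field k] [AddCommGroup V] [Module k V]

/-- (N): a vector negated by `(a b)(c d)` is fixed by the 3-cycles avoiding `a, b, c, d` -/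
def PN (ρ : alternatingGroup α →* End k V) : Prop :=
  ∀ (f : Fin 7 ↪ α) (v : V),
    ρ (dt (f 0) (f 1) (f 2) (f 3) (f.injective.ne (by decide)) (f.injective.ne (by decide))) v = -v →
    ρ (cc (f 4) (f 5) (f 6) (f.injective.ne (by decide)) (f.injective.ne (by decide))) v = v

theorem full_of_PN {ρ : alternatingGroup α →* End k V} (h : PN ρ) {a b c d : α} (hab : a ≠ b) (hcd : c ≠ d)
    (hac : a ≠ c) (had : a ≠ d) (hbc : b ≠ c) (hbd : b ≠ d) {v : V} (hv : ρ (dt a b c d hab hcd) v = -v) :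
    Full (stab ρ v) {x | x ≠ a ∧ x ≠ b ∧ x ≠ c ∧ x ≠ d} := by
  rintro x ⟨x1, x2, x3, x4⟩ y ⟨y1, y2, y3, y4⟩ w ⟨w1, w2, w3, w4⟩ hxy hxw hyw
  have hinj : Function.Injective ![a, b, c, d, x, y, w] := by
    intro i j hij
    fin_cases i <;> fin_cases j <;> simp_all [eq_comm]
  have := h ⟨_, hinj⟩ v hv
  exact (mem_stab (σ := cc x y w hxy hyw)).2 this

theorem final [FiniteDimensional k V] (h2 : (2 : k) ≠ 0) (p : ℕ) [CharP k p] (h8 : 8 ≤ Fintype.card α)
    (ρ : alternatingGroup α →* End k V) (h : PN ρ)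
    {a b c d : α} (hab : a ≠ b) (hcd : c ≠ d)
    (hac : a ≠ c) (had : a ≠ d) (hbc : b ≠ c) (hbd : b ≠ d) {v : V} (hv0 : v ≠ 0)
    (hv : ρ (dt a b c d hab hcd) v = -v) :
    Fintype.card α - 1 - (if p ∣ Fintype.card α then 1 else 0) ≤ finrank k V := by
  -- eight points
  obtain ⟨f, hf⟩ : ∃ f : Fin 8 ↪ α, f 0 = a ∧ f 2 = b ∧ f 1 = c ∧ f 3 = d := by
    have hinj : Function.Injective ![a, c, b, d] := by
      intro i j hij
      fin_cases i <;> fin_cases j <;> simp_all [eq_comm]
    obtain ⟨f0⟩ : Nonempty (Fin 8 ↪ α) := Function.Embedding.nonempty_of_card_le (by simpa using h8)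
    let g : Set.range (fun i : Fin 4 => f0 (Fin.castLE (by norm_num) i)) ≃ Set.range ![a, c, b, d] :=
      (Equiv.ofInjective _ (f0.injective.comp (Fin.castLE_injective _))).symm.trans (Equiv.ofInjective _ hinj)
    have hg : ∀ i : Fin 4, (g.extendSubtype : Perm α) (f0 (Fin.castLE (by norm_num) i)) = ![a, c, b, d] i := by
      intro i
      have h1 := Equiv.extendSubtype_apply_of_mem g (f0 (Fin.castLE (by norm_num) i)) (Set.mem_range_self i)
      rw [h1]
      show ((Equiv.ofInjective _ hinj) ((Equiv.ofInjective _ (f0.injective.comp (Fin.castLE_injective _))).symm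
        ⟨f0 (Fin.castLE (by norm_num) i), _⟩) : α) = _
      have h3 := Equiv.ofInjective_symm_apply (f0.injective.comp (Fin.castLE_injective (show 4 ≤ 8 by norm_num))) i
      rw [show (⟨f0 (Fin.castLE (by norm_num) i), Set.mem_range_self i⟩ :
        Set.range (fun i : Fin 4 => f0 (Fin.castLE (by norm_num) i))) =
        ⟨(f0 ∘ (Fin.castLE (show 4 ≤ 8 by norm_num))) i, Set.mem_range_self i⟩ from rfl]
      erw [h3]
      rw [Equiv.ofInjective_apply]
    refine ⟨f0.trans (g.extendSubtype : Perm α).toEmbedding, hg 0, hg 2, hg 1, hg 3⟩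
  obtain ⟨rfl, rfl, rfl, rfl⟩ := hf
  have ne : ∀ i j : Fin 8, i ≠ j → f i ≠ f j := fun i j h => f.injective.ne h
  set z1 : alternatingGroup (Fin 8) := dt 0 1 2 3 (by decide) (by decide) with hz1
  set z2 : alternatingGroup (Fin 8) := dt 0 2 1 3 (by decide) (by decide) with hz2
  set z3 : alternatingGroup (Fin 8) := dt 0 3 1 2 (by decide) (by decide) with hz3
  set t : alternatingGroup (Fin 8) := cc 0 1 2 (by decide) (by decide) with ht
  set g : alternatingGroup (Fin 8) := dt 0 1 4 5 (by decide) (by decide) with hg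
  set g' : alternatingGroup (Fin 8) := dt 2 3 4 5 (by decide) (by decide) with hg'
  have r1 : z1 * z1 = 1 := by decide
  have r2 : z2 * z2 = 1 := by decide
  have r3 : z1 * z2 = z3 := by decide
  have r3' : z2 * z1 = z3 := by decide
  have r4 : z3 * t = t * z1 := by decide
  have r5 : z2 * t = t * z3 := by decide
  have r6 : z1 * t = t * z2 := by decide
  have r7 : t * t * t = 1 := by decide
  have r8 : g * g = 1 := by decide
  have r9 : g * z1 = z1 * g := by decide
  have r10 : g * z2 = z3 * g := by decide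
  have r11 : g * t = t * t * g := by decide
  have r12 : g' = z1 * g := by decide
  let R : alternatingGroup (Fin 8) →* End k V := ρ.comp (emb f)
  have hR : ∀ x y v, R (x * y) v = R x (R y v) := fun x y v => mul_apply' R x y v
  -- a vector in `W_1`
  have half : ∀ x : V, x = -x → x = 0 := by
    intro x hx
    have h3 : (2 : k) • x = 0 := by rw [two_smul]; nth_rewrite 2 [hx]; rw [add_neg_cancel]
    rcases smul_eq_zero.1 h3 with h4 | h4
    · exact absurd h4 h2
    · exact h4
  have hv' : R z2 v = -v := by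
    show ρ (emb f z2) v = -v
    rw [hz2, emb_dt]; exact hv
  obtain ⟨w0, hw0, w01, w02⟩ : ∃ w0 : V, w0 ≠ 0 ∧ R z1 w0 = w0 ∧ R z2 w0 = -w0 := by
    by_cases hc : v + R z1 v = 0
    · -- type 3
      have e1 : R z1 v = -v := (neg_eq_of_add_eq_zero_right hc).symm
      have e3 : R z3 v = v := by rw [← r3, hR, hv', map_neg, e1, neg_neg]
      refine ⟨R (t * t) v, ne_zero R _ hv0, ?_, ?_⟩
      · rw [← hR, ← mul_assoc, r6, mul_assoc, r5, ← mul_assoc, hR (t * t), e3]
      · rw [← hR, ← mul_assoc, r5, mul_assoc, r4, ← mul_assoc, hR (t * t), e1, map_neg]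
    · refine ⟨v + R z1 v, hc, ?_, ?_⟩
      · rw [map_add, ← hR, r1, map_one, End.one_apply, add_comm]
      · rw [map_add, ← hR, r3', ← r3, hR, hv', map_neg]; abel
  -- an eigenvector of `g` in `W_1`
  obtain ⟨w1, hw1, w11, w12, hgw⟩ : ∃ w1 : V, w1 ≠ 0 ∧ R z1 w1 = w1 ∧ R z2 w1 = -w1 ∧
      (R g w1 = w1 ∨ R g w1 = -w1) := by
    by_cases hc : w0 + R g w0 = 0
    · exact ⟨w0, hw0, w01, w02, Or.inr (neg_eq_of_add_eq_zero_right hc).symm⟩
    · refine ⟨w0 + R g w0, hc, ?_, ?_, Or.inl ?_⟩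
      · rw [map_add, ← hR z1 g, ← r9, hR, w01]
      · have e3 : R z3 w0 = -w0 := by rw [← r3, hR, w02, map_neg, w01]
        have r10' : z2 * g = g * z3 := by decide
        rw [map_add, ← hR z2 g, r10', hR, e3, w02, map_neg]; abel
      · rw [map_add, ← hR, r8, map_one, End.one_apply, add_comm]
  have w13 : R z3 w1 = -w1 := by rw [← r3, hR, w12, map_neg, w11]
  have fz2 : ∀ v, R z2 v = -v → Full (stab ρ v) {x | x ≠ f 0 ∧ x ≠ f 2 ∧ x ≠ f 1 ∧ x ≠ f 3} := by
    intro v hv
    refine full_of_PN h (ne 0 2 (by decide)) (ne 1 3 (by decide)) (ne 0 1 (by decide)) (ne 0 3 (by decide))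
      (ne 2 1 (by decide)) (ne 2 3 (by decide)) ?_
    have : ρ (emb f z2) v = -v := hv
    rwa [hz2, emb_dt] at this
  have fz1 : ∀ v, R z1 v = -v → Full (stab ρ v) {x | x ≠ f 0 ∧ x ≠ f 1 ∧ x ≠ f 2 ∧ x ≠ f 3} := by
    intro v hv
    refine full_of_PN h (ne 0 1 (by decide)) (ne 2 3 (by decide)) (ne 0 2 (by decide)) (ne 0 3 (by decide))
      (ne 1 2 (by decide)) (ne 1 3 (by decide)) ?_
    have : ρ (emb f z1) v = -v := hv
    rwa [hz1, emb_dt] at this
  have fg : ∀ v, R g v = -v → Full (stab ρ v) {x | x ≠ f 0 ∧ x ≠ f 1 ∧ x ≠ f 4 ∧ x ≠ f 5} := by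
    intro v hv
    refine full_of_PN h (ne 0 1 (by decide)) (ne 4 5 (by decide)) (ne 0 4 (by decide)) (ne 0 5 (by decide))
      (ne 1 4 (by decide)) (ne 1 5 (by decide)) ?_
    have : ρ (emb f g) v = -v := hv
    rwa [hg, emb_dt] at this
  have fg' : ∀ v, R g' v = -v → Full (stab ρ v) {x | x ≠ f 2 ∧ x ≠ f 3 ∧ x ≠ f 4 ∧ x ≠ f 5} := by
    intro v hv
    refine full_of_PN h (ne 2 3 (by decide)) (ne 4 5 (by decide)) (ne 2 4 (by decide)) (ne 2 5 (by decide))
      (ne 3 4 (by decide)) (ne 3 5 (by decide)) ?_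
    have : ρ (emb f g') v = -v := hv
    rwa [hg', emb_dt] at this
  rcases hgw with hgw | hgw
  · -- the natural case
    set w3 := R t w1 with hw3
    set w2 := R t w3 with hw2
    have tw2 : R t w2 = w1 := by rw [hw2, hw3, ← hR, ← hR, r7, map_one, End.one_apply]
    have gw3 : R g w3 = w2 := by
      rw [hw3, ← hR, r11, hR, hgw, hR]
    have gw2 : R g w2 = w3 := by
      rw [← gw3, ← hR, r8, map_one, End.one_apply]
    have z1w3 : R z1 w3 = -w3 := by rw [hw3, ← hR, r6, hR, w12, map_neg]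
    have z2w3 : R z2 w3 = -w3 := by rw [hw3, ← hR, r5, hR, w13, map_neg]
    have z3w3 : R z3 w3 = w3 := by rw [hw3, ← hR, r4, hR, w11]
    have z1w2 : R z1 w2 = -w2 := by rw [hw2, ← hR, r6, hR, z2w3, map_neg]
    have z2w2 : R z2 w2 = w2 := by rw [hw2, ← hR, r5, hR, z3w3]
    have hw30 : w3 ≠ 0 := ne_zero R _ hw1
    set e := w2 - w3 with he
    have he0 : e ≠ 0 := by
      intro hcon
      have h3 : w2 = w3 := sub_eq_zero.1 hcon
      rw [h3, z2w3] at z2w2
      exact hw30 (half w3 z2w2.symm)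
    have ge : R g e = -e := by rw [he, map_sub, gw2, gw3]; abel
    have z1e : R z1 e = -e := by rw [he, map_sub, z1w2, z1w3]; abel
    have F1 := fg e ge
    have F2 := fz1 e z1e
    have F : Full (stab ρ e) {x | x ≠ f 0 ∧ x ≠ f 1} := by
      refine (F2.union F1 (y1 := f 6) (y2 := f 7) (ne 6 7 (by decide)) ?_ ?_ ?_ ?_).mono ?_
      · exact ⟨ne _ _ (by decide), ne _ _ (by decide), ne _ _ (by decide), ne _ _ (by decide)⟩
      · exact ⟨ne _ _ (by decide), ne _ _ (by decide), ne _ _ (by decide), ne _ _ (by decide)⟩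
      · exact ⟨ne _ _ (by decide), ne _ _ (by decide), ne _ _ (by decide), ne _ _ (by decide)⟩
      · exact ⟨ne _ _ (by decide), ne _ _ (by decide), ne _ _ (by decide), ne _ _ (by decide)⟩
      · rintro x ⟨h0, h1⟩
        by_cases h3 : x = f 2
        · right; rw [h3]
          exact ⟨ne _ _ (by decide), ne _ _ (by decide), ne _ _ (by decide), ne _ _ (by decide)⟩
        by_cases h4 : x = f 3
        · right; rw [h4]
          exact ⟨ne _ _ (by decide), ne _ _ (by decide), ne _ _ (by decide), ne _ _ (by decide)⟩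
        left; exact ⟨h0, h1, h3, h4⟩
    refine nat_bound (ρ := ρ) (e := e) (x1 := f 0) (x2 := f 1) (x3 := f 2) (x4 := f 3) (x5 := f 2) p (by omega) he0
      (ne 0 1 (by decide)) F (ne 2 3 (by decide)) (ne 0 2 (by decide)) (ne 0 3 (by decide))
      (ne 1 2 (by decide)) (ne 1 3 (by decide)) ?_ (ne 0 2 (by decide)) (ne 1 2 (by decide)) ?_
    · have : ρ (emb f z1) e = -e := z1e
      rw [hz1, emb_dt] at this
      exact this
    · have h3 : e + R t e + R t (R t e) = 0 := by
        rw [he, map_sub, tw2, ← hw2, map_sub, tw2, ← hw3]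
        abel
      have h4 : ∀ v, R t v = ρ ⟨_, c3_mem (ne 0 1 (by decide)) (ne 1 2 (by decide))⟩ v := by
        intro v
        show ρ (emb f t) v = _
        rw [ht, emb_cc]
        rfl
      rw [← h4, ← h4]
      exact h3
  · exfalso
    have g'w : R g' w1 = -w1 := by rw [r12, hR, hgw, map_neg, w11]
    have F1 := fg w1 hgw
    have F2 := fz2 w1 w12
    have F3 := fg' w1 g'w
    have F12 : Full (stab ρ w1) {x | x ≠ f 0 ∧ x ≠ f 1} := by
      refine (F2.union F1 (y1 := f 6) (y2 := f 7) (ne 6 7 (by decide)) ?_ ?_ ?_ ?_).mono ?_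
      · exact ⟨ne _ _ (by decide), ne _ _ (by decide), ne _ _ (by decide), ne _ _ (by decide)⟩
      · exact ⟨ne _ _ (by decide), ne _ _ (by decide), ne _ _ (by decide), ne _ _ (by decide)⟩
      · exact ⟨ne _ _ (by decide), ne _ _ (by decide), ne _ _ (by decide), ne _ _ (by decide)⟩
      · exact ⟨ne _ _ (by decide), ne _ _ (by decide), ne _ _ (by decide), ne _ _ (by decide)⟩
      · rintro x ⟨h0, h1⟩
        by_cases h3 : x = f 2
        · right; rw [h3]
          exact ⟨ne _ _ (by decide), ne _ _ (by decide), ne _ _ (by decide), ne _ _ (by decide)⟩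
        by_cases h4 : x = f 3
        · right; rw [h4]
          exact ⟨ne _ _ (by decide), ne _ _ (by decide), ne _ _ (by decide), ne _ _ (by decide)⟩
        left; exact ⟨h0, h3, h1, h4⟩
    have F : Full (stab ρ w1) Set.univ := by
      refine (F12.union F3 (y1 := f 6) (y2 := f 7) (ne 6 7 (by decide)) ?_ ?_ ?_ ?_).mono ?_
      · exact ⟨ne _ _ (by decide), ne _ _ (by decide)⟩
      · exact ⟨ne _ _ (by decide), ne _ _ (by decide)⟩
      · exact ⟨ne _ _ (by decide), ne _ _ (by decide), ne _ _ (by decide), ne _ _ (by decide)⟩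
      · exact ⟨ne _ _ (by decide), ne _ _ (by decide), ne _ _ (by decide), ne _ _ (by decide)⟩
      · rintro x -
        by_cases h3 : x = f 0
        · right; rw [h3]
          exact ⟨ne _ _ (by decide), ne _ _ (by decide), ne _ _ (by decide), ne _ _ (by decide)⟩
        by_cases h4 : x = f 1
        · right; rw [h4]
          exact ⟨ne _ _ (by decide), ne _ _ (by decide), ne _ _ (by decide), ne _ _ (by decide)⟩
        left; exact ⟨h3, h4⟩
    have h5 : ((emb f z2 : alternatingGroup α) : Perm α) ∈ stab ρ w1 :=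
      mem_of_full F (mem_alternatingGroup.1 (emb f z2).2) (fun _ _ => Set.mem_univ _)
    rw [mem_stab] at h5
    have h6 : ρ (emb f z2) w1 = -w1 := w12
    rw [h5] at h6
    exact hw1 (half w1 h6)

end Cfsg.Agent.H189.AltOdd
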