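import Cfsg.Agent.H189.AltTwo
import Cfsg.Agent.SporRec.TwoAn

/-!
# Faithful representations of the double covers of the alternating groups

`spin_low`: a representation of a double cover of `A_r`, `r ≥ 9`, over an algebraically closed field of characteristic
`p ≠ 2` on which the central involution acts as `-1` has degree at least `r - 1`, or `r - 2` if `p` divides `r`.
-/

set_option autoImplicit false

namespace Cfsg.Agent.H189.AltSpin

open Equiv Equiv.Perm Module Cyc Wt NatMod Emb AltOdd AltOddDim Eig AltTwo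
open Cfsg.Agent.SporRec.TwoAn

universe u v w x

section gen

variable {α : Type x} [Fintype α] [DecidableEq α] {C : Type w} [Group C] (K : Cover α C)
variable {k : Type u} {V : Type v} [Field k] [AddCommGroup V] [Module k V]

include K in
theorem rep_inj [Nontrivial V] (h5 : 5 ≤ Fintype.card α) (h2 : (2 : k) ≠ 0) (ρ : C →* End k V)
    (hz : ∀ v, ρ K.z v = -v) : Function.Injective ρ := by
  have hzn : ρ K.z ≠ 1 := by
    intro h
    obtain ⟨v, hv⟩ := exists_ne (0 : V)
    have h1 := hz v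
    rw [h, End.one_apply] at h1
    have h3 : (2 : k) • v = 0 := by rw [two_smul]; nth_rewrite 2 [h1]; rw [add_neg_cancel]
    rcases smul_eq_zero.1 h3 with h4 | h4
    · exact h2 h4
    · exact hv h4
  have : IsSimpleGroup (alternatingGroup α) := alternatingGroup.isSimpleGroup (by rwa [Nat.card_eq_fintype_card])
  let π' : C →* alternatingGroup α := K.π.codRestrict (alternatingGroup α) K.mem_alternating
  have hsurj : Function.Surjective π' := by
    intro σ
    obtain ⟨g, hg⟩ := K.exists_lift σ.2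
    exact ⟨g, Subtype.ext hg⟩
  have hn : (ρ.ker.map π').Normal := Subgroup.Normal.map inferInstance π' hsurj
  rw [← MonoidHom.ker_eq_bot_iff, eq_bot_iff]
  intro g hg
  rcases hn.eq_bot_or_eq_top with h | h
  · have h1 : π' g = 1 := by
      have : π' g ∈ ρ.ker.map π' := ⟨g, hg, rfl⟩
      rw [h] at this
      exact this
    have h3 : K.π g = 1 := congrArg Subtype.val h1
    rcases (K.ker g).1 h3 with h4 | h4
    · exact h4
    · rw [h4] at hg
      exact absurd hg hzn
  · exfalso
    obtain ⟨f⟩ : Nonempty (Fin 4 ↪ α) := Function.Embedding.nonempty_of_card_le (by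
      rw [Fintype.card_fin]; omega)
    have ne : ∀ i j : Fin 4, i ≠ j → f i ≠ f j := fun i j h => f.injective.ne h
    have h1 : dt (f 0) (f 1) (f 2) (f 3) (ne 0 1 (by decide)) (ne 2 3 (by decide)) ∈ ρ.ker.map π' := by
      rw [h]; trivial
    obtain ⟨a, ha, ha'⟩ := h1
    have h3 : K.π a = swap (f 0) (f 1) * swap (f 2) (f 3) := congrArg Subtype.val ha'
    have h4 := K.dbl _ _ _ _ (ne 0 1 (by decide)) (ne 0 2 (by decide)) (ne 0 3 (by decide)) (ne 1 2 (by decide))
      (ne 1 3 (by decide)) (ne 2 3 (by decide)) a h3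
    apply hzn
    rw [← h4, map_mul, MonoidHom.mem_ker.1 ha, one_mul]

/-- relations between lifts of elements of odd order -/
theorem lift_rel {a b g : C} {n m : ℕ} (hn : Odd n) (ha : a ^ n = 1) (hb : b ^ n = 1)
    (h : K.π a * K.π g = K.π g * K.π b ^ m) : a * g = g * b ^ m := by
  have h1 : g⁻¹ * a * g = b ^ m := by
    refine K.odd_lift_unique hn ?_ ?_ ?_
    · have : g⁻¹ * a * g = g⁻¹ * a * (g⁻¹)⁻¹ := by rw [inv_inv]
      rw [this, conj_pow, ha, mul_one, mul_inv_cancel]
    · rw [← pow_mul, mul_comm, pow_mul, hb, one_pow]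
    · rw [map_mul, map_mul, map_inv, mul_assoc, h, inv_mul_cancel_left, map_pow]
  rw [← h1]; group

/-- two anticommuting operators: dimension at least two -/
theorem two_le_of_anti [FiniteDimensional k V] (h2 : (2 : k) ≠ 0) (ρ : C →* End k V)
    (hz : ∀ v, ρ K.z v = -v) {a b : C} (hab : b * a = a * b * K.z) (U : Submodule k V) (hU : U ≠ ⊥)
    (ha : ∀ v ∈ U, ρ a v ∈ U) (hb : ∀ v ∈ U, ρ b v ∈ U) : 2 ≤ finrank k U := by
  by_contra hlt
  have h1 : finrank k U = 1 := by
    have : finrank k U ≠ 0 := fun h => hU (Submodule.finrank_eq_zero.1 h)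
    omega
  obtain ⟨u, hu, hspan⟩ := finrank_eq_one_iff'.1 h1
  have hu' : (u : V) ≠ 0 := fun h => hu (Subtype.ext h)
  obtain ⟨l, hl⟩ := hspan ⟨_, ha u u.2⟩
  obtain ⟨m, hm⟩ := hspan ⟨_, hb u u.2⟩
  have hl' : ρ a u = l • (u : V) := (congrArg Subtype.val hl).symm
  have hm' : ρ b u = m • (u : V) := (congrArg Subtype.val hm).symm
  have h3 : ρ (b * a) (u : V) = ρ (a * b * K.z) u := by rw [hab]
  have h4 : ρ (b * a) (u : V) = (l * m) • (u : V) := by
    rw [mul_apply', hl', map_smul, hm', smul_smul]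
  have h5 : ρ (a * b * K.z) (u : V) = -((l * m) • (u : V)) := by
    rw [mul_apply', mul_apply', hz, map_neg, hm', map_neg, map_smul, hl', smul_smul, mul_comm]
  rw [h4, h5] at h3
  have h6 : (2 * (l * m)) • (u : V) = 0 := by
    rw [two_mul, add_smul]; nth_rewrite 2 [h3]; rw [add_neg_cancel]
  rcases smul_eq_zero.1 h6 with h7 | h7
  · rcases mul_eq_zero.1 h7 with h8 | h8
    · exact h2 h8
    · rcases mul_eq_zero.1 h8 with h9 | h9
      · rw [h9, zero_smul] at hl'
        exact ne_zero ρ a hu' hl'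
      · rw [h9, zero_smul] at hm'
        exact ne_zero ρ b hu' hm'
  · exact hu' h7

omit [Fintype α] [DecidableEq α] in
/-- the eigenvalues of `s` are permuted transitively by an element inducing a generator of `(Z/l)ˣ` -/
theorem orbit_le [IsAlgClosed k] [FiniteDimensional k V] (ρ : C →* End k V) (s c : C) (l m : ℕ) (hl : l.Prime)
    (hinj : Function.Injective (fun j : Fin (l - 1) => ((m : ZMod l) ^ (j : ℕ)))) (hs : s ^ l = 1)
    (hc : s * c = c * s ^ m) (h1 : ρ s ≠ 1) (hk : (l : k) ≠ 0) (b : ℕ)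
    (hb : ∀ a : k, (ρ s).eigenspace a ≠ ⊥ → b ≤ finrank k ((ρ s).eigenspace a)) :
    (l - 1) * b ≤ finrank k V := by
  have hT : ρ s ^ l = 1 := by rw [← map_pow, hs, map_one]
  obtain ⟨w, hw, ζ, hζ1, hζ⟩ := exists_eig_ne_one (ρ s) hT hk h1
  have hζl := pow_eq_one_of_eig hT hw hζ
  have hord : orderOf ζ = l := by
    have := Fact.mk hl
    exact orderOf_eq_prime hζl hζ1
  have powact : ∀ (a : k) (v : V), ρ s v = a • v → ∀ i : ℕ, ρ (s ^ i) v = a ^ i • v := by
    intro a v hv i
    induction i with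
    | zero => simp
    | succ i ih => rw [pow_succ, mul_apply', hv, map_smul, ih, smul_smul, pow_succ, mul_comm]
  have step : ∀ (a : k), ∀ v ∈ (ρ s).eigenspace a, ρ c v ∈ (ρ s).eigenspace (a ^ m) := by
    intro a v hv
    rw [End.mem_eigenspace_iff] at hv ⊢
    rw [← mul_apply', hc, mul_apply', powact a v hv, map_smul]
  have hne : ∀ j : ℕ, (ρ s).eigenspace (ζ ^ (m ^ j)) ≠ ⊥ := by
    intro j
    induction j with
    | zero =>
      intro h
      apply hw
      have : w ∈ (ρ s).eigenspace (ζ ^ (m ^ 0)) := by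
        rw [pow_zero, pow_one]; exact End.mem_eigenspace_iff.2 hζ
      rw [h] at this
      exact (Submodule.mem_bot k).1 this
    | succ j ih =>
      intro h
      apply ih
      rw [Submodule.eq_bot_iff] at h ⊢
      intro v hv
      have h3 := step _ v hv
      rw [← pow_mul, ← pow_succ] at h3
      have h4 := h _ h3
      by_contra hv0
      exact ne_zero ρ c hv0 h4
  have hinj' : Function.Injective (fun j : Fin (l - 1) => ζ ^ (m ^ (j : ℕ))) := by
    intro i j hij
    apply hinj
    have h3 : ζ ^ (m ^ (i : ℕ)) = ζ ^ (m ^ (j : ℕ)) := hij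
    have hprim : IsPrimitiveRoot ζ l := by rw [← hord]; exact IsPrimitiveRoot.orderOf ζ
    rw [← pow_mod_orderOf, ← pow_mod_orderOf ζ (m ^ (j : ℕ)), hord] at h3
    have h4 := hprim.pow_inj (Nat.mod_lt _ hl.pos) (Nat.mod_lt _ hl.pos) h3
    have h5 : ((m ^ (i : ℕ) : ℕ) : ZMod l) = ((m ^ (j : ℕ) : ℕ) : ZMod l) :=
      (ZMod.natCast_eq_natCast_iff _ _ _).2 h4
    push_cast at h5
    exact h5
  have h5 := eigen_sum_le (ρ s) _ hinj'
  have h6 : ∑ _i : Fin (l - 1), b ≤ ∑ i : Fin (l - 1), finrank k ((ρ s).eigenspace (ζ ^ (m ^ (i : ℕ)))) :=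
    Finset.sum_le_sum fun i _ => hb _ (hne _)
  rw [Finset.sum_const, Finset.card_univ, Fintype.card_fin, smul_eq_mul] at h6
  exact h6.trans h5

/-- a lift of `σ` of odd order -/
theorem exists_s {n m : ℕ} (f : Fin m ↪ α) (σ : alternatingGroup (Fin m)) (hn : Odd n) (hσ : σ ^ n = 1) :
    ∃ s : C, K.π s = embP f (σ : Perm (Fin m)) ∧ s ^ n = 1 := by
  refine K.exists_odd_lift ?_ hn ?_
  · rw [mem_alternatingGroup, sign_embP]; exact mem_alternatingGroup.1 σ.2
  · rw [← map_pow]
    have : (σ : Perm (Fin m)) ^ n = 1 := congrArg Subtype.val hσ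
    rw [this, map_one]

theorem exists_c {m : ℕ} (f : Fin m ↪ α) (σ : alternatingGroup (Fin m)) :
    ∃ s : C, K.π s = embP f (σ : Perm (Fin m)) := by
  refine K.exists_lift ?_
  rw [mem_alternatingGroup, sign_embP]; exact mem_alternatingGroup.1 σ.2

/-- general bound: an `l`-cycle (or any element) `σ` of prime order `l`, an element `τ` with `σ τ = τ σ ^ m` -/
theorem prime_le [IsAlgClosed k] [FiniteDimensional k V] [Nontrivial V] (h5 : 5 ≤ Fintype.card α) (h2 : (2 : k) ≠ 0)
    (ρ : C →* End k V) (hz : ∀ v, ρ K.z v = -v) {n : ℕ} (f : Fin n ↪ α) (σ τ : alternatingGroup (Fin n)) (l m : ℕ)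
    (hl : l.Prime) (hodd : Odd l)
    (hinj : Function.Injective (fun j : Fin (l - 1) => ((m : ZMod l) ^ (j : ℕ)))) (hσ : σ ^ l = 1) (hσ1 : σ ≠ 1)
    (hc : σ * τ = τ * σ ^ m) (hk : (l : k) ≠ 0) (b : ℕ)
    (hb : ∀ U : Submodule k V, U ≠ ⊥ → (∀ g : C, (∀ x, embP f (σ : Perm (Fin n)) x = x ∨ K.π g x = x) →
      ∀ v ∈ U, ρ g v ∈ U) → b ≤ finrank k U) :
    (l - 1) * b ≤ finrank k V := by
  obtain ⟨s, hs, hsl⟩ := exists_s K f σ hodd hσ
  obtain ⟨c, hc'⟩ := exists_c K f τ
  refine orbit_le ρ s c l m hl hinj hsl ?_ ?_ hk b ?_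
  · apply lift_rel K hodd hsl hsl
    rw [hs, hc', ← map_pow, ← map_mul, ← map_mul]
    have := congrArg Subtype.val hc
    exact congrArg (embP f) this
  · intro h
    have h3 : s = 1 := rep_inj K h5 h2 ρ hz (by rw [h, map_one])
    rw [h3, map_one] at hs
    apply hσ1
    apply emb_injective f
    rw [map_one]
    apply Subtype.ext
    exact hs.symm
  · intro a ha
    apply hb _ ha
    intro g hg v hv
    rw [End.mem_eigenspace_iff] at hv ⊢
    have hcom : s * g = g * s := K.commute_of_disjoint (by rw [hs]; exact hg)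
    rw [← mul_apply', hcom, mul_apply', hv, map_smul]

theorem three_le [IsAlgClosed k] [FiniteDimensional k V] [Nontrivial V] (h2 : (2 : k) ≠ 0) (h3 : (3 : k) ≠ 0)
    (ρ : C →* End k V) (hz : ∀ v, ρ K.z v = -v) (f : Fin 5 ↪ α) (b : ℕ)
    (hb : ∀ U : Submodule k V, U ≠ ⊥ → (∀ g : C, (∀ i : Fin 3, K.π g (f (Fin.castLE (by norm_num) i)) =
      f (Fin.castLE (by norm_num) i)) → ∀ v ∈ U, ρ g v ∈ U) → b ≤ finrank k U) :
    2 * b ≤ finrank k V := by
  have h5 : 5 ≤ Fintype.card α := by simpa using Fintype.card_le_of_embedding f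
  refine prime_le K h5 h2 ρ hz f ⟨swap 0 1 * swap 1 2, by rw [mem_alternatingGroup]; decide⟩
    ⟨swap 1 2 * swap 3 4, by rw [mem_alternatingGroup]; decide⟩ 3 2 (by norm_num) (by decide) (by decide) (by decide)
    (by decide) (by decide) (by exact_mod_cast h3) b ?_
  intro U hU h
  apply hb U hU
  intro g hg
  apply h
  intro x
  by_cases hx : ∃ i : Fin 3, x = f (Fin.castLE (by norm_num) i)
  · obtain ⟨i, rfl⟩ := hx
    exact Or.inr (hg i)
  · left
    push Not at hx
    by_cases hy : ∃ i, f i = x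
    · obtain ⟨i, rfl⟩ := hy
      rw [embP_apply]
      congr 1
      fin_cases i
      · exact absurd rfl (hx 0)
      · exact absurd rfl (hx 1)
      · exact absurd rfl (hx 2)
      · decide
      · decide
    · push Not at hy
      exact embP_other f _ hy

theorem five_le [IsAlgClosed k] [FiniteDimensional k V] [Nontrivial V] (h2 : (2 : k) ≠ 0) (h5' : (5 : k) ≠ 0)
    (ρ : C →* End k V) (hz : ∀ v, ρ K.z v = -v) (f : Fin 7 ↪ α) (b : ℕ)
    (hb : ∀ U : Submodule k V, U ≠ ⊥ → (∀ g : C, (∀ i : Fin 5, K.π g (f (Fin.castLE (by norm_num) i)) =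
      f (Fin.castLE (by norm_num) i)) → ∀ v ∈ U, ρ g v ∈ U) → b ≤ finrank k U) :
    4 * b ≤ finrank k V := by
  have h5 : 5 ≤ Fintype.card α := by
    have : 7 ≤ Fintype.card α := by simpa using Fintype.card_le_of_embedding f
    omega
  refine prime_le K h5 h2 ρ hz f ⟨swap 0 1 * swap 1 2 * swap 2 3 * swap 3 4, by rw [mem_alternatingGroup]; decide⟩
    ⟨swap 1 2 * swap 2 4 * swap 4 3 * swap 5 6, by rw [mem_alternatingGroup]; decide⟩ 5 3 (by norm_num) (by decide)
    (by decide) (by decide) (by decide) (by decide) (by exact_mod_cast h5') b ?_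
  intro U hU h
  apply hb U hU
  intro g hg
  apply h
  intro x
  by_cases hx : ∃ i : Fin 5, x = f (Fin.castLE (by norm_num) i)
  · obtain ⟨i, rfl⟩ := hx
    exact Or.inr (hg i)
  · left
    push Not at hx
    by_cases hy : ∃ i, f i = x
    · obtain ⟨i, rfl⟩ := hy
      rw [embP_apply]
      congr 1
      fin_cases i
      · exact absurd rfl (hx 0)
      · exact absurd rfl (hx 1)
      · exact absurd rfl (hx 2)
      · exact absurd rfl (hx 3)
      · exact absurd rfl (hx 4)
      · decide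
      · decide
    · push Not at hy
      exact embP_other f _ hy

theorem seven_le [IsAlgClosed k] [FiniteDimensional k V] [Nontrivial V] (h2 : (2 : k) ≠ 0) (h7 : (7 : k) ≠ 0)
    (ρ : C →* End k V) (hz : ∀ v, ρ K.z v = -v) (f : Fin 9 ↪ α) (b : ℕ)
    (hb : ∀ U : Submodule k V, U ≠ ⊥ → (∀ g : C, (∀ i : Fin 7, K.π g (f (Fin.castLE (by norm_num) i)) =
      f (Fin.castLE (by norm_num) i)) → ∀ v ∈ U, ρ g v ∈ U) → b ≤ finrank k U) :
    6 * b ≤ finrank k V := by
  have h5 : 5 ≤ Fintype.card α := by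
    have : 9 ≤ Fintype.card α := by simpa using Fintype.card_le_of_embedding f
    omega
  refine prime_le K h5 h2 ρ hz f ⟨swap 0 1 * swap 1 2 * swap 2 3 * swap 3 4 * swap 4 5 * swap 5 6, by
    rw [mem_alternatingGroup]; decide⟩
    ⟨swap 1 5 * swap 5 4 * swap 4 6 * swap 6 2 * swap 2 3 * swap 7 8, by rw [mem_alternatingGroup]; decide⟩ 7 3
    (by norm_num) (by decide) (by decide) (by decide +kernel) (by decide +kernel) (by decide +kernel)
    (by exact_mod_cast h7) b ?_
  intro U hU h
  apply hb U hU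
  intro g hg
  apply h
  intro x
  by_cases hx : ∃ i : Fin 7, x = f (Fin.castLE (by norm_num) i)
  · obtain ⟨i, rfl⟩ := hx
    exact Or.inr (hg i)
  · left
    push Not at hx
    by_cases hy : ∃ i, f i = x
    · obtain ⟨i, rfl⟩ := hy
      rw [embP_apply]
      congr 1
      fin_cases i
      · exact absurd rfl (hx 0)
      · exact absurd rfl (hx 1)
      · exact absurd rfl (hx 2)
      · exact absurd rfl (hx 3)
      · exact absurd rfl (hx 4)
      · exact absurd rfl (hx 5)
      · exact absurd rfl (hx 6)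
      · decide
      · decide
    · push Not at hy
      exact embP_other f _ hy

end gen

end Cfsg.Agent.H189.AltSpin
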