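import Mathlib

/-!
# Three-cycles

`c3 a b c = swap a b * swap b c` maps `a ↦ b ↦ c ↦ a`.

* `mem_of_full`: a subgroup of `Perm α` containing all 3-cycles on `Y` contains every even permutation supported in `Y`.
* `Full.union`: 3-cycles on `Y`, 3-cycles on `Z`, two common points: 3-cycles on `Y ∪ Z`.
-/

set_option autoImplicit false

namespace Cfsg.Agent.H189.Cyc

open Equiv Equiv.Perm

universe u

variable {α : Type u} [DecidableEq α]

/-- the 3-cycle `a ↦ b ↦ c ↦ a` (for distinct points) -/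
def c3 (a b c : α) : Perm α := swap a b * swap b c

theorem conj_c3 (σ : Perm α) (a b c : α) : σ * c3 a b c * σ⁻¹ = c3 (σ a) (σ b) (σ c) := by
  rw [c3, c3, swap_apply_apply σ a b, swap_apply_apply σ b c]
  group

theorem c3_fst {a b c : α} (hab : a ≠ b) (hac : a ≠ c) : c3 a b c a = b := by
  rw [c3, mul_apply, swap_apply_of_ne_of_ne hab hac, swap_apply_left]

theorem c3_snd {a b c : α} (hac : a ≠ c) (hbc : b ≠ c) : c3 a b c b = c := by
  rw [c3, mul_apply, swap_apply_left, swap_apply_of_ne_of_ne hac.symm hbc.symm]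

theorem c3_trd (a b c : α) : c3 a b c c = a := by
  rw [c3, mul_apply, swap_apply_right, swap_apply_right]

theorem c3_other {a b c x : α} (ha : x ≠ a) (hb : x ≠ b) (hc : x ≠ c) : c3 a b c x = x := by
  rw [c3, mul_apply, swap_apply_of_ne_of_ne hb hc, swap_apply_of_ne_of_ne ha hb]

theorem c3_inv (a b c : α) : (c3 a b c)⁻¹ = c3 c b a := by
  rw [c3, c3, mul_inv_rev, swap_inv, swap_inv, swap_comm b c, swap_comm a b]

theorem c3_cycle {a b c : α} (hab : a ≠ b) (hac : a ≠ c) (hbc : b ≠ c) : c3 a b c = c3 b c a := by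
  ext x
  by_cases h1 : x = a
  · rw [h1, c3_fst hab hac, c3_trd]
  by_cases h2 : x = b
  · rw [h2, c3_snd hac hbc, c3_fst hbc hab.symm]
  by_cases h3 : x = c
  · rw [h3, c3_trd, c3_snd hab.symm hac.symm]
  rw [c3_other h1 h2 h3, c3_other h2 h3 h1]

theorem c3_pow_three {a b c : α} (hab : a ≠ b) (hac : a ≠ c) (hbc : b ≠ c) : c3 a b c ^ 3 = 1 := by
  ext x
  rw [pow_succ, pow_two, mul_apply, mul_apply, one_apply]
  by_cases h1 : x = a
  · rw [h1, c3_fst hab hac, c3_snd hac hbc, c3_trd]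
  by_cases h2 : x = b
  · rw [h2, c3_snd hac hbc, c3_trd, c3_fst hab hac]
  by_cases h3 : x = c
  · rw [h3, c3_trd, c3_fst hab hac, c3_snd hac hbc]
  rw [c3_other h1 h2 h3, c3_other h1 h2 h3, c3_other h1 h2 h3]

theorem c3_ne_one {a b c : α} (hab : a ≠ b) (hac : a ≠ c) : c3 a b c ≠ 1 := by
  intro h
  have := c3_fst hab hac
  rw [h, one_apply] at this
  exact hab this

/-- `Full Γ Y`: `Γ` contains all 3-cycles on `Y` -/
def Full (Γ : Subgroup (Perm α)) (Y : Set α) : Prop :=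
  ∀ a ∈ Y, ∀ b ∈ Y, ∀ c ∈ Y, a ≠ b → a ≠ c → b ≠ c → c3 a b c ∈ Γ

theorem Full.mono {Γ : Subgroup (Perm α)} {Y Z : Set α} (h : Full Γ Y) (hZ : Z ⊆ Y) : Full Γ Z :=
  fun a ha b hb c hc => h a (hZ ha) b (hZ hb) c (hZ hc)

theorem Full.le {Γ Δ : Subgroup (Perm α)} {Y : Set α} (h : Full Γ Y) (hΓ : Γ ≤ Δ) : Full Δ Y :=
  fun a ha b hb c hc h1 h2 h3 => hΓ (h a ha b hb c hc h1 h2 h3)

/-- generation from the 3-cycles through two fixed points -/
theorem full_of_pair {Γ : Subgroup (Perm α)} {Y : Set α} {y1 y2 : α} (h12 : y1 ≠ y2)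
    (h : ∀ x ∈ Y, x ≠ y1 → x ≠ y2 → c3 y1 y2 x ∈ Γ) : Full Γ Y := by
  have hcj : ∀ g ∈ Γ, ∀ a b c, c3 a b c ∈ Γ → c3 (g a) (g b) (g c) ∈ Γ := by
    intro g hg a b c habc
    rw [← conj_c3]
    exact mul_mem (mul_mem hg habc) (inv_mem hg)
  -- cyclic shifts and inverses
  have hrot : ∀ a b c, a ≠ b → a ≠ c → b ≠ c → c3 a b c ∈ Γ → c3 b c a ∈ Γ := by
    intro a b c h1 h2 h3 hm
    rw [← c3_cycle h1 h2 h3]; exact hm
  have hinv : ∀ a b c, c3 a b c ∈ Γ → c3 c b a ∈ Γ := by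
    intro a b c hm
    rw [← c3_inv]; exact inv_mem hm
  -- through `y2` and two others
  have A : ∀ x ∈ Y, ∀ y ∈ Y, x ≠ y1 → x ≠ y2 → y ≠ y1 → y ≠ y2 → x ≠ y → c3 y2 y x ∈ Γ := by
    intro x hx y hy h1 h2 h3 h4 h5
    have := hcj _ (h y hy h3 h4) _ _ _ (h x hx h1 h2)
    rwa [c3_fst h12 h3.symm, c3_snd h3.symm h4.symm, c3_other h1 h2 h5] at this
  have B : ∀ x ∈ Y, ∀ y ∈ Y, x ≠ y1 → x ≠ y2 → y ≠ y1 → y ≠ y2 → x ≠ y → c3 y y1 x ∈ Γ := by
    intro x hx y hy h1 h2 h3 h4 h5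
    have h6 := inv_mem (h y hy h3 h4)
    rw [c3_inv] at h6
    have := hcj _ h6 _ _ _ (h x hx h1 h2)
    rwa [c3_trd, c3_snd h3 h12.symm, c3_other h5 h2 h1] at this
  have C : ∀ x ∈ Y, ∀ y ∈ Y, ∀ w ∈ Y, x ≠ y1 → x ≠ y2 → y ≠ y1 → y ≠ y2 → w ≠ y1 → w ≠ y2 → x ≠ y → x ≠ w →
      y ≠ w → c3 w y x ∈ Γ := by
    intro x hx y hy w hw h1 h2 h3 h4 h5 h6 h7 h8 h9
    -- conjugate `c3 y2 y x` by `y1 ↦ y2 ↦ w ↦ y1`
    have := hcj _ (h w hw h5 h6) _ _ _ (A x hx y hy h1 h2 h3 h4 h7)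
    rwa [c3_snd h5.symm h6.symm, c3_other h3 h4 h9, c3_other h1 h2 h8] at this
  intro a ha b hb c hc hab hac hbc
  by_cases a1 : a = y1
  · subst a1
    by_cases b2 : b = y2
    · subst b2; exact h c hc hac.symm hbc.symm
    by_cases c2 : c = y2
    · subst c2
      have := hinv _ _ _ (h b hb hab.symm b2)
      -- `c3 b y2 y1`
      exact hrot _ _ _ hac.symm hbc.symm hab (hrot _ _ _ hbc hab.symm hac.symm this)
    have := B c hc b hb hac.symm c2 hab.symm b2 hbc.symm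
    -- c3 b a c
    have h2 := hinv _ _ _ this
    -- c3 c a b
    exact hrot _ _ _ hac.symm hbc.symm hab h2
  by_cases a2 : a = y2
  · subst a2
    by_cases b1 : b = y1
    · subst b1
      -- c3 y2 y1 c
      have := hinv _ _ _ (h c hc hbc.symm hac.symm)
      -- c3 c y2 y1
      exact hrot _ _ _ (Ne.symm hac) (Ne.symm hbc) hab this
    by_cases c1 : c = y1
    · subst c1
      -- c3 y2 b y1
      exact hrot _ _ _ (Ne.symm hac) (Ne.symm hbc) hab (h b hb hbc hab.symm)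
    exact A c hc b hb c1 hac.symm b1 hab.symm hbc.symm
  by_cases b1 : b = y1
  · subst b1
    by_cases c2 : c = y2
    · subst c2
      -- c3 a y1 y2
      have := h a ha hab hac
      exact hrot _ _ _ (Ne.symm hac) hbc.symm hab (hrot _ _ _ hbc (Ne.symm hab) (Ne.symm hac) this)
    exact B c hc a ha hbc.symm c2 hab a2 (Ne.symm hac)
  by_cases b2 : b = y2
  · subst b2
    by_cases c1 : c = y1
    · subst c1
      -- c3 a y2 y1
      exact hinv _ _ _ (h a ha hac hab)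
    -- c3 a y2 c
    have := A a ha c hc a1 hab c1 hbc.symm hac
    -- c3 y2 c a
    exact hrot _ _ _ (Ne.symm hac) hbc.symm hab (hrot _ _ _ hbc (Ne.symm hab) (Ne.symm hac) this)
  by_cases c1 : c = y1
  · subst c1
    -- c3 a b y1
    have := B b hb a ha hbc b2 hac a2 (Ne.symm hab)
    -- c3 a y1 b
    have h2 := hinv _ _ _ (B a ha b hb hac a2 hbc b2 hab)
    -- c3 a y1 b ; want c3 a b y1
    have h3 := B a ha b hb hac a2 hbc b2 hab
    -- c3 b y1 a -> rotate
    exact hrot _ _ _ (Ne.symm hac) (Ne.symm hbc) hab (hrot _ _ _ hbc (Ne.symm hab) (Ne.symm hac) h3)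
  by_cases c2 : c = y2
  · subst c2
    -- c3 a b y2
    have := A b hb a ha b1 hbc a1 hac hab.symm
    -- c3 y2 a b
    exact hrot _ _ _ (Ne.symm hac) (Ne.symm hbc) hab this
  exact C c hc b hb a ha c1 c2 b1 b2 a1 a2 (Ne.symm hbc) (Ne.symm hac) (Ne.symm hab)

theorem Full.union {Γ : Subgroup (Perm α)} {Y Z : Set α} (hY : Full Γ Y) (hZ : Full Γ Z) {y1 y2 : α}
    (h12 : y1 ≠ y2) (y1Y : y1 ∈ Y) (y2Y : y2 ∈ Y) (y1Z : y1 ∈ Z) (y2Z : y2 ∈ Z) : Full Γ (Y ∪ Z) := by
  apply full_of_pair h12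
  rintro x (hx | hx) h1 h2
  · exact hY _ y1Y _ y2Y _ hx h12 h1.symm h2.symm
  · exact hZ _ y1Z _ y2Z _ hx h12 h1.symm h2.symm

theorem isThreeCycle_eq [Fintype α] {σ : Perm α} (h : σ.IsThreeCycle) :
    ∃ a b c, a ≠ b ∧ a ≠ c ∧ b ≠ c ∧ σ = c3 a b c ∧ σ a ≠ a ∧ σ b ≠ b ∧ σ c ≠ c := by
  have hs : σ.support.card = 3 := h.card_support
  have hcyc : σ.IsCycle := h.isCycle
  have ho : σ ^ 3 = 1 := by rw [← h.orderOf]; exact pow_orderOf_eq_one σ
  obtain ⟨a, ha⟩ : σ.support.Nonempty := by rw [← Finset.card_pos, hs]; norm_num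
  rw [mem_support] at ha
  have h3 : ∀ x, σ (σ (σ x)) = x := by
    intro x
    have := congrArg (fun f : Perm α => f x) ho
    simpa [pow_succ, mul_apply] using this
  have hab : a ≠ σ a := ha.symm
  have hac : a ≠ σ (σ a) := by
    intro e
    have h4 := h3 a
    rw [← e] at h4
    exact ha h4
  have hbc : σ a ≠ σ (σ a) := fun e => hab (σ.injective e)
  have hsupp : σ.support = {a, σ a, σ (σ a)} := by
    symm
    apply Finset.eq_of_subset_of_card_le
    · intro x hx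
      simp only [Finset.mem_insert, Finset.mem_singleton] at hx
      rw [mem_support]
      rcases hx with rfl | rfl | rfl
      · exact ha
      · exact fun e => hbc e.symm
      · rw [h3]; exact hac
    · rw [hs, Finset.card_insert_of_notMem, Finset.card_pair hbc]
      simp [hab, hac]
  refine ⟨a, σ a, σ (σ a), hab, hac, hbc, ?_, ha, fun e => hbc e.symm, by rw [h3]; exact hac⟩
  ext x
  by_cases h1 : x = a
  · rw [h1, c3_fst hab hac]
  by_cases h2 : x = σ a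
  · rw [h2, c3_snd hac hbc]
  by_cases h4 : x = σ (σ a)
  · rw [h4, c3_trd, h3]
  rw [c3_other h1 h2 h4]
  by_contra hne
  have : x ∈ σ.support := mem_support.2 hne
  rw [hsupp] at this
  simp [h1, h2, h4] at this

/-- even permutations supported in `Y` are in a subgroup containing the 3-cycles on `Y` -/
theorem mem_of_full [Fintype α] {Γ : Subgroup (Perm α)} {Y : Set α} (h : Full Γ Y) {σ : Perm α}
    (hσ : sign σ = 1) (hY : ∀ x, σ x ≠ x → x ∈ Y) : σ ∈ Γ := by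
  classical
  let p : α → Prop := fun x => x ∈ Y
  have hp : ∀ x, p (σ x) ↔ p x := by
    intro x
    by_cases hx : σ x = x
    · rw [hx]
    · have h1 : σ (σ x) ≠ σ x := fun e => hx (σ.injective e)
      exact ⟨fun _ => hY x hx, fun _ => hY _ h1⟩
  have key : ∀ τ ∈ alternatingGroup (Subtype p), ofSubtype τ ∈ Γ := by
    intro τ hτ
    rw [← closure_three_cycles_eq_alternating] at hτ
    have h2 : Subgroup.closure {τ : Perm (Subtype p) | τ.IsThreeCycle} ≤ Γ.comap ofSubtype := by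
      rw [Subgroup.closure_le]
      intro τ hτ
      obtain ⟨a, b, c, hab, hac, hbc, rfl, -⟩ := isThreeCycle_eq hτ
      show ofSubtype (c3 a b c) ∈ Γ
      have h3 : ofSubtype (c3 a b c) = c3 (a : α) b c := by
        rw [c3, c3, map_mul, ofSubtype_swap_eq, ofSubtype_swap_eq]
      rw [h3]
      exact h _ a.2 _ b.2 _ c.2 (Subtype.coe_ne_coe.2 hab) (Subtype.coe_ne_coe.2 hac)
        (Subtype.coe_ne_coe.2 hbc)
    exact h2 hτ
  have h4 : ofSubtype (σ.subtypePerm hp) = σ := ofSubtype_subtypePerm hp hY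
  have h5 : σ.subtypePerm hp ∈ alternatingGroup (Subtype p) := by
    rw [mem_alternatingGroup, sign_subtypePerm σ hp hY, hσ]
  rw [← h4]
  exact key _ h5

theorem sign_c3 [Fintype α] {a b c : α} (hab : a ≠ b) (hbc : b ≠ c) : sign (c3 a b c) = 1 := by
  rw [c3, map_mul, sign_swap hab, sign_swap hbc]; decide

theorem c3_mem [Fintype α] {a b c : α} (hab : a ≠ b) (hbc : b ≠ c) : c3 a b c ∈ alternatingGroup α := by
  rw [mem_alternatingGroup]; exact sign_c3 hab hbc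

theorem dt_mem [Fintype α] {a b c d : α} (hab : a ≠ b) (hcd : c ≠ d) : swap a b * swap c d ∈ alternatingGroup α := by
  rw [mem_alternatingGroup, map_mul, sign_swap hab, sign_swap hcd]; decide

end Cfsg.Agent.H189.Cyc
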