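import Cfsg.Agent.H189.AltOddDim

/-!
# Eigenspaces of operators of finite order over algebraically closed fields
-/

set_option autoImplicit false

namespace Cfsg.Agent.H189.Eig

open Equiv Equiv.Perm Module Cyc Wt NatMod Emb AltOdd AltOddDim

universe u v w

section lin

variable {k : Type u} {V : Type v} [Field k] [AddCommGroup V] [Module k V]

theorem sum_finrank_le_of_indep [FiniteDimensional k V] {ι : Type*} [Fintype ι] (W : ι → Submodule k V)
    (h : iSupIndep W) : ∑ i, finrank k (W i) ≤ finrank k V := by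
  classical
  have key : ∀ s : Finset ι, finrank k (⨆ i ∈ s, W i : Submodule k V) = ∑ i ∈ s, finrank k (W i) := by
    intro s
    induction s using Finset.induction_on with
    | empty => simp
    | insert a s ha ih =>
      rw [Finset.sum_insert ha, ← ih, Finset.iSup_insert]
      have h1 : Disjoint (W a) (⨆ i ∈ s, W i) := h.disjoint_biSup (by simpa using ha)
      have h2 := Submodule.finrank_sup_add_finrank_inf_eq (W a) (⨆ i ∈ s, W i)
      rw [h1.eq_bot, finrank_bot, add_zero] at h2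
      exact h2
  rw [← key Finset.univ]
  exact Submodule.finrank_le _

theorem eigen_sum_le [FiniteDimensional k V] {ι : Type*} [Fintype ι] (f : End k V) (μ : ι → k)
    (hμ : Function.Injective μ) : ∑ i, finrank k (f.eigenspace (μ i)) ≤ finrank k V :=
  sum_finrank_le_of_indep _ ((End.eigenspaces_iSupIndep f).comp hμ)

/-- an invariant nonzero subspace contains an eigenvector -/
theorem exists_eig [IsAlgClosed k] [FiniteDimensional k V] (f : End k V) (U : Submodule k V)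
    (hU : ∀ v ∈ U, f v ∈ U) (h0 : U ≠ ⊥) : ∃ w ∈ U, w ≠ 0 ∧ ∃ μ : k, f w = μ • w := by
  have : Nontrivial U := (Submodule.nontrivial_iff_ne_bot).2 h0
  obtain ⟨μ, hμ⟩ := End.exists_eigenvalue (f.restrict hU)
  obtain ⟨w, hw⟩ := hμ.exists_hasEigenvector
  refine ⟨w, w.2, fun h => hw.2 (Subtype.ext h), μ, ?_⟩
  have := congrArg Subtype.val hw.apply_eq_smul
  exact this

theorem geom_zero {T : End k V} {m : ℕ} (hT : T ^ m = 1) {w : V} (hw : w ∈ LinearMap.range (T - 1)) (h1 : T w = w)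
    (hm : (m : k) ≠ 0) : w = 0 := by
  obtain ⟨u, rfl⟩ := hw
  have h2 : (∑ i ∈ Finset.range m, T ^ i) * (T - 1) = 0 := by
    rw [geom_sum_mul, hT, sub_self]
  have h3 : (∑ i ∈ Finset.range m, T ^ i) ((T - 1) u) = 0 := by
    rw [← End.mul_apply, h2, LinearMap.zero_apply]
  have h4 : ∀ i, (T ^ i) ((T - 1) u) = (T - 1) u := by
    intro i
    induction i with
    | zero => rw [pow_zero, End.one_apply]
    | succ i ih => rw [pow_succ, End.mul_apply, h1, ih]
  rw [LinearMap.sum_apply, Finset.sum_congr rfl (fun i _ => h4 i), Finset.sum_const, Finset.card_range,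
    ← Nat.cast_smul_eq_nsmul k] at h3
  rcases smul_eq_zero.1 h3 with h5 | h5
  · exact absurd h5 hm
  · exact h5

/-- a nontrivial operator with `T ^ m = 1` has an eigenvalue `≠ 1` -/
theorem exists_eig_ne_one [IsAlgClosed k] [FiniteDimensional k V] (T : End k V) {m : ℕ} (hT : T ^ m = 1)
    (hm : (m : k) ≠ 0) (h1 : T ≠ 1) : ∃ w : V, w ≠ 0 ∧ ∃ μ : k, μ ≠ 1 ∧ T w = μ • w := by
  obtain ⟨w, hw, hw0, μ, hμ⟩ := exists_eig T (LinearMap.range (T - 1)) (by
    rintro _ ⟨u, rfl⟩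
    refine ⟨T u, ?_⟩
    simp) (by
    intro h
    apply h1
    rw [LinearMap.range_eq_bot] at h
    exact sub_eq_zero.1 h)
  refine ⟨w, hw0, μ, ?_, hμ⟩
  rintro rfl
  rw [one_smul] at hμ
  exact hw0 (geom_zero hT hw hμ hm)

theorem pow_eq_one_of_eig {T : End k V} {m : ℕ} (hT : T ^ m = 1) {w : V} (hw : w ≠ 0) {μ : k} (h : T w = μ • w) :
    μ ^ m = 1 := by
  have h1 : ∀ i : ℕ, (T ^ i) w = μ ^ i • w := by
    intro i
    induction i with
    | zero => simp
    | succ i ih => rw [pow_succ, End.mul_apply, h, map_smul, ih, smul_smul, pow_succ, mul_comm]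
  have h2 := h1 m
  rw [hT, End.one_apply] at h2
  have h3 : (μ ^ m - 1) • w = 0 := by rw [sub_smul, one_smul, ← h2, sub_self]
  rcases smul_eq_zero.1 h3 with h4 | h4
  · exact sub_eq_zero.1 h4
  · exact absurd h4 hw

/-- joint eigenvectors of two commuting operators -/
theorem exists_joint [IsAlgClosed k] [FiniteDimensional k V] (T T' : End k V) (hc : ∀ v, T (T' v) = T' (T v)) {μ : k}
    {w : V} (hw : w ≠ 0) (h : T w = μ • w) : ∃ w' : V, w' ≠ 0 ∧ T w' = μ • w' ∧ ∃ ν : k, T' w' = ν • w' := by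
  obtain ⟨w', hw', hw0, ν, hν⟩ := exists_eig T' (T.eigenspace μ) (by
    intro v hv
    rw [End.mem_eigenspace_iff] at hv ⊢
    rw [hc, hv, map_smul]) (by
    intro hb
    apply hw
    have : w ∈ T.eigenspace μ := End.mem_eigenspace_iff.2 h
    rw [hb] at this
    exact (Submodule.mem_bot k).1 this)
  exact ⟨w', hw0, End.mem_eigenspace_iff.1 hw', ν, hν⟩

theorem cube_cases {μ ν : k} (hμ : μ ^ 3 = 1) (hν : ν ^ 3 = 1) (h1 : μ ≠ 1) : ν = 1 ∨ ν = μ ∨ ν = μ ^ 2 := by
  have h2 : 1 + μ + μ ^ 2 = 0 := by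
    have : (μ - 1) * (1 + μ + μ ^ 2) = 0 := by ring_nf; rw [hμ]; ring
    rcases mul_eq_zero.1 this with h | h
    · exact absurd (sub_eq_zero.1 h) h1
    · exact h
  have h3 : (ν - 1) * ((ν - μ) * (ν - μ ^ 2)) = 0 := by
    have e : (ν - 1) * ((ν - μ) * (ν - μ ^ 2)) = ν ^ 3 - (1 + μ + μ ^ 2) * ν ^ 2 + (μ + μ ^ 2 + μ ^ 3) * ν - μ ^ 3 := by
      ring
    rw [e, h2, hμ, hν]
    have : μ + μ ^ 2 + 1 = 0 := by rw [← h2]; ring
    rw [this]; ring
  rcases mul_eq_zero.1 h3 with h | h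
  · left; exact sub_eq_zero.1 h
  · right
    rcases mul_eq_zero.1 h with h | h
    · left; exact sub_eq_zero.1 h
    · right; exact sub_eq_zero.1 h

theorem cube_facts {μ : k} (hμ : μ ^ 3 = 1) (h1 : μ ≠ 1) : μ ^ 2 ≠ 1 ∧ μ ^ 2 ≠ μ ∧ 1 + μ + μ ^ 2 = 0 ∧ μ ≠ 0 := by
  have h2 : 1 + μ + μ ^ 2 = 0 := by
    have : (μ - 1) * (1 + μ + μ ^ 2) = 0 := by ring_nf; rw [hμ]; ring
    rcases mul_eq_zero.1 this with h | h
    · exact absurd (sub_eq_zero.1 h) h1
    · exact h
  have h0 : μ ≠ 0 := by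
    rintro rfl
    norm_num at hμ
  refine ⟨?_, ?_, h2, h0⟩
  · intro h
    apply h1
    have : μ ^ 3 = μ := by rw [pow_succ, h, one_mul]
    rw [← this, hμ]
  · intro h
    apply h1
    have : μ * μ = μ * 1 := by rw [mul_one, ← pow_two, h]
    exact mul_left_cancel₀ h0 this

/-- the four weights in the orbit of `(μ, ν)` -/
theorem four_weights {μ ν : k} (hμ : μ ^ 3 = 1) (hν : ν ^ 3 = 1) (h1 : μ ≠ 1) :
    Function.Injective (fun (i : Fin 4) (b : Bool) =>
      if b then ![μ, ν ^ 2, μ ^ 2, ν] i else ![ν, μ, ν ^ 2, μ ^ 2] i) := by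
  obtain ⟨-, f2, -, -⟩ := cube_facts hμ h1
  have f4 : (μ ^ 2) ^ 2 = μ := by
    have : (μ ^ 2) ^ 2 = μ ^ 3 * μ := by ring
    rw [this, hμ, one_mul]
  intro i j hij
  by_contra hne
  apply f2
  have q1 : ![μ, ν ^ 2, μ ^ 2, ν] i = ![μ, ν ^ 2, μ ^ 2, ν] j := congrFun hij true
  have q2 : ![ν, μ, ν ^ 2, μ ^ 2] i = ![ν, μ, ν ^ 2, μ ^ 2] j := congrFun hij false
  match i, j, hne with
  | 0, 0, h => exact absurd rfl h
  | 1, 1, h => exact absurd rfl h
  | 2, 2, h => exact absurd rfl h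
  | 3, 3, h => exact absurd rfl h
  | 0, 1, _ =>
    have a : μ = ν ^ 2 := q1
    have b : ν = μ := q2
    rw [← b, ← a, b]
  | 1, 0, _ =>
    have a : ν ^ 2 = μ := q1
    have b : μ = ν := q2
    rw [b, a, b]
  | 0, 2, _ => exact Eq.symm q1
  | 2, 0, _ => exact q1
  | 0, 3, _ =>
    have a : μ = ν := q1
    have b : ν = μ ^ 2 := q2
    rw [← b, a]
  | 3, 0, _ =>
    have a : ν = μ := q1
    have b : μ ^ 2 = ν := q2
    rw [b, a]
  | 1, 2, _ =>
    have a : ν ^ 2 = μ ^ 2 := q1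
    have b : μ = ν ^ 2 := q2
    rw [← a, ← b]
  | 2, 1, _ =>
    have a : μ ^ 2 = ν ^ 2 := q1
    have b : ν ^ 2 = μ := q2
    rw [a, b]
  | 1, 3, _ => exact Eq.symm q2
  | 3, 1, _ => exact q2
  | 2, 3, _ =>
    have a : μ ^ 2 = ν := q1
    have b : ν ^ 2 = μ ^ 2 := q2
    rw [← b, ← a, f4]
  | 3, 2, _ =>
    have a : ν = μ ^ 2 := q1
    have b : μ ^ 2 = ν ^ 2 := q2
    rw [b, a, f4]

/-- **four weights**: commuting operators `T, T'` of order 3 and `F` with `F T = T' F`, `F T' = T⁻¹ F` -/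
theorem four_le [IsAlgClosed k] [FiniteDimensional k V] (h3 : (3 : k) ≠ 0) {G : Type*} [Group G] (ρ : G →* End k V)
    (t t' f : G) (ht : t ^ 3 = 1) (ht' : t' ^ 3 = 1) (hc : t * t' = t' * t) (h1 : f * t = t' * f)
    (h2 : f * t' = t⁻¹ * f) (hne : ρ t ≠ 1) : 4 ≤ finrank k V := by
  have hR : ∀ x y v, ρ (x * y) v = ρ x (ρ y v) := fun x y v => mul_apply' ρ x y v
  have hT : ρ t ^ 3 = 1 := by rw [← map_pow, ht, map_one]
  have hT' : ρ t' ^ 3 = 1 := by rw [← map_pow, ht', map_one]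
  obtain ⟨w0, hw0, μ, hμ1, hμ⟩ := exists_eig_ne_one (ρ t) hT (by exact_mod_cast h3) hne
  obtain ⟨w, hw, hwμ, ν, hwν⟩ := exists_joint (ρ t) (ρ t') (fun v => by rw [← hR, ← hR, hc]) hw0 hμ
  have hμ3 := pow_eq_one_of_eig hT hw hwμ
  have hν3 := pow_eq_one_of_eig hT' hw hwν
  -- squares
  have e1 : t⁻¹ = t * t := by
    rw [inv_eq_iff_mul_eq_one]
    rw [← mul_assoc, ← pow_two, ← pow_succ, ht]
  have e2 : t * f = f * (t' * t') := by
    have : t⁻¹ * t⁻¹ * f = f * (t' * t') := by rw [mul_assoc, ← h2, ← mul_assoc, ← h2, mul_assoc]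
    rw [← this]
    have e3 : t⁻¹ * t⁻¹ = t := by
      rw [e1]
      have : t * t * (t * t) = t ^ 3 * t := by rw [pow_succ, pow_two]; simp only [mul_assoc]
      rw [this, ht, one_mul]
    rw [e3]
  -- the effect of `f` on weights
  have step : ∀ (x : V) (a b : k), ρ t x = a • x → ρ t' x = b • x →
      ρ t (ρ f x) = b ^ 2 • ρ f x ∧ ρ t' (ρ f x) = a • ρ f x := by
    intro x a b ha hb
    refine ⟨?_, ?_⟩
    · rw [← hR, e2, hR, hR, hb, map_smul, hb, smul_smul, map_smul, pow_two]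
    · rw [← hR, ← h1, hR, ha, map_smul]
  obtain ⟨s1, s1'⟩ := step w μ ν hwμ hwν
  obtain ⟨s2, s2'⟩ := step _ _ _ s1 s1'
  obtain ⟨s3, s3'⟩ := step _ _ _ s2 s2'
  have hν4 : (ν ^ 2) ^ 2 = ν := by
    have : (ν ^ 2) ^ 2 = ν ^ 3 * ν := by ring
    rw [this, hν3, one_mul]
  rw [hν4] at s3
  have := card_le_of_wt (ι := Fin 4) (κ := Bool) (fun b => if b then ρ t else ρ t')
    ![w, ρ f w, ρ f (ρ f w), ρ f (ρ f (ρ f w))] _ (four_weights hμ3 hν3 hμ1) (by
      intro i
      fin_cases i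
      · exact hw
      · exact ne_zero ρ f hw
      · exact ne_zero ρ f (ne_zero ρ f hw)
      · exact ne_zero ρ f (ne_zero ρ f (ne_zero ρ f hw))) (by
      intro i b
      fin_cases i <;> cases b <;> simp only [if_true, Bool.false_eq_true, if_false]
      · exact hwν
      · exact hwμ
      · exact s1'
      · exact s1
      · exact s2'
      · exact s2
      · exact s3'
      · exact s3)
  rwa [Fintype.card_fin] at this

theorem low_six [IsAlgClosed k] (h3 : (3 : k) ≠ 0) : Low.{u, v} k 6 4 := by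
  intro V _ _ _ ρ hne
  have hinj := rep_injective (by rw [Fintype.card_fin]; omega) ρ hne
  refine four_le h3 ρ (cc 0 1 2 (by decide) (by decide)) (cc 3 4 5 (by decide) (by decide))
    ⟨swap 0 3 * swap 3 1 * swap 1 4 * swap 2 5, by rw [mem_alternatingGroup]; decide⟩ (by decide) (by decide) (by decide) (by decide)
    (by decide) ?_
  intro h
  have : (cc 0 1 2 (by decide) (by decide) : alternatingGroup (Fin 6)) = 1 := hinj (by rw [h, map_one])
  revert this
  decide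

end lin

end Cfsg.Agent.H189.Eig
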