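import Cfsg.Agent.H189.SecB
import Cfsg.Agent.H189.FeitTits
import Cfsg.Agent.H186.FusEmb
import Cfsg.Agent.H190.Index
import Cfsg.Agent.H190.Start
import Cfsg.Agent.S1064
import Cfsg.Agent.S1065
import Cfsg.Agent.S1035
import Cfsg.Agent.S1039
import Cfsg.Agent.S1093

/-!
# Alternating sections of `E₇`, `E₈`: fusion-respecting embeddings of `ℓ`-subgroups in the monomial subgroup

`exists_fusEmb_E7`, `exists_fusEmb_E8`.
-/

set_option autoImplicit false

namespace Cfsg.Agent.H189.ExcLift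

open Cfsg.Lie Cfsg.Agent.ChevalleyStructure Cfsg.Agent.ChevalleyStructure.Elts Cfsg.Agent.H190 Cfsg.Agent.H186
  Cfsg.Agent.H189.SecB Cfsg.Agent.H189.FeitTits

universe u v

section torus

variable {F : Type u} [Field F] {D : ChevalleyDatum}

theorem card_pow_ker_le [Finite F] {ℓ : ℕ} (hl : ℓ ≠ 0) (n : ℕ) :
    Nat.card (powMonoidHom ℓ : (Fin n → Fˣ) →* (Fin n → Fˣ)).ker ≤ ℓ ^ n := by
  classical
  have : Fintype F := Fintype.ofFinite F
  have : NeZero ℓ := ⟨hl⟩
  have h1 : Nat.card (powMonoidHom ℓ : (Fin n → Fˣ) →* (Fin n → Fˣ)).ker ≤ Nat.card (Fin n → rootsOfUnity ℓ F) := by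
    apply Nat.card_le_card_of_injective (fun x : (powMonoidHom ℓ : (Fin n → Fˣ) →* (Fin n → Fˣ)).ker =>
      (fun i => (⟨(x : Fin n → Fˣ) i, by
        rw [mem_rootsOfUnity]
        have h2 : (x : Fin n → Fˣ) ^ ℓ = 1 := x.2
        exact congrFun h2 i⟩ : rootsOfUnity ℓ F)))
    intro x y h
    apply Subtype.ext
    funext i
    exact congrArg Subtype.val (congrFun h i)
  refine h1.trans ?_
  rw [Nat.card_fun, Nat.card_eq_fintype_card (α := Fin n), Fintype.card_fin]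
  apply Nat.pow_le_pow_left
  exact card_rootsOfUnity F ℓ

theorem rankLe_torus [Finite F] (hD : InList D) {ℓ : ℕ} (hl : ℓ ≠ 0) : RankLe (TG D F) ℓ D.rank := by
  classical
  have : Fintype F := Fintype.ofFinite F
  let f : TG D F →* (Fin D.nroots → Fˣ) :=
    { toFun := fun t r => Units.mk0 (ent ((t : ↥(D.group F)) : GL D.Idx F) r) (ent_ne_zero hD t.2 r)
      map_one' := by
        funext r
        apply Units.ext
        change ((1 : GL D.Idx F) : Matrix D.Idx D.Idx F) (Sum.inr r) (Sum.inr r) = 1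
        rw [Units.val_one, Matrix.one_apply_eq]
      map_mul' := by
        intro s t
        funext r
        apply Units.ext
        exact ent_mul hD s.2 t.2 r }
  let θ : (Fin D.rank → Fˣ) →* (Fin D.nroots → Fˣ) :=
    { toFun := fun c r => ∏ i : Fin D.rank, (c i) ^ (D.cartan i r)
      map_one' := by
        funext r
        simp
      map_mul' := by
        intro c d
        funext r
        simp only [Pi.mul_apply, mul_zpow, Finset.prod_mul_distrib] }
  refine rankLe_of (TG D F) (torusData hD F).comm f ?_ θ ?_ (card_pow_ker_le hl D.rank)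
  · intro s t h
    apply Subtype.ext
    apply Subtype.ext
    apply torus_ext hD s.2 t.2
    intro r
    exact congrArg (Units.val) (congrFun h r)
  · intro t
    obtain ⟨c, hc, h1, -⟩ := torus_form hD t.2
    refine ⟨fun i => Units.mk0 (c i) (hc i i.2), ?_⟩
    funext r
    apply Units.ext
    change ((∏ i : Fin D.rank, (Units.mk0 (c i) (hc i i.2)) ^ (D.cartan i r) : Fˣ) : F) =
      ent ((t : ↥(D.group F)) : GL D.Idx F) r
    have h1' : ent ((t : ↥(D.group F)) : GL D.Idx F) r = _ := ent_of_dmat h1 r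
    rw [h1', Units.coe_prod, Finset.prod_range]
    refine Finset.prod_congr rfl fun i _ => ?_
    rw [Units.val_zpow_eq_zpow_val, Units.val_mk0]

end torus

section index

theorem padic_geom {ℓ : ℕ} [hl : Fact ℓ.Prime] (hodd : ℓ ≠ 2) {q : ℕ} (hq : 1 < q) (hlq : ℓ ∣ q - 1) {k : ℕ}
    (hk : k ≠ 0) : padicValNat ℓ (∑ j ∈ Finset.range k, q ^ j) = padicValNat ℓ k := by
  have h1 : (q - 1) * ∑ j ∈ Finset.range k, q ^ j = q ^ k - 1 := by
    rw [Nat.geomSum_eq hq, Nat.mul_div_cancel']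
    exact Nat.sub_one_dvd_pow_sub_one _ _
  have hnd : ¬ ℓ ∣ q := by
    intro h
    have h2 : ℓ ∣ q - (q - 1) := Nat.dvd_sub h hlq
    rw [Nat.sub_sub_self hq.le] at h2
    exact hl.out.one_lt.ne' (Nat.dvd_one.1 h2)
  have h2 := padicValNat.pow_sub_pow (hl.out.odd_of_ne_two hodd) hq hlq hnd hk
  rw [one_pow, ← h1, padicValNat.mul (by omega) ?_] at h2
  · omega
  · intro h3
    rw [h3, mul_zero] at h1
    have h4 : 1 < q ^ k := Nat.one_lt_pow hk hq
    omega

theorem padic_prod {ℓ : ℕ} [hl : Fact ℓ.Prime] (hodd : ℓ ≠ 2) {q : ℕ} (hq : 1 < q) (hlq : ℓ ∣ q - 1) (ds : List ℕ)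
    (hds : ∀ k ∈ ds, k ≠ 0) :
    padicValNat ℓ (ds.map fun k => ∑ j ∈ Finset.range k, q ^ j).prod = padicValNat ℓ ds.prod ∧
      (ds.map fun k => ∑ j ∈ Finset.range k, q ^ j).prod ≠ 0 ∧ ds.prod ≠ 0 := by
  induction ds with
  | nil => simp
  | cons k ds ih =>
    obtain ⟨h1, h2, h3⟩ := ih (fun a ha => hds a (List.mem_cons_of_mem _ ha))
    have hk : k ≠ 0 := hds k List.mem_cons_self
    have h4 : ∑ j ∈ Finset.range k, q ^ j ≠ 0 := by
      have h5 : q ^ 0 ≤ ∑ j ∈ Finset.range k, q ^ j :=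
        Finset.single_le_sum (f := fun j => q ^ j) (fun _ _ => Nat.zero_le _) (Finset.mem_range.2 (Nat.pos_of_ne_zero hk))
      rw [pow_zero] at h5
      omega
    rw [List.map_cons, List.prod_cons, List.prod_cons]
    refine ⟨?_, mul_ne_zero h4 h2, mul_ne_zero hk h3⟩
    rw [padicValNat.mul h4 h2, padicValNat.mul hk h3, h1, padic_geom hodd hq hlq hk]

variable {F : Type u} [Field F] [Fintype F] {D : ChevalleyDatum}

theorem not_dvd_index_NG {ℓ : ℕ} [hl : Fact ℓ.Prime] (hodd : ℓ ≠ 2)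
    (hlq : ℓ ∣ Fintype.card F - 1) {N : ℕ} (ds : List ℕ) (hds : ∀ k ∈ ds, k ≠ 0)
    (hT : (TG D F).index = Fintype.card F ^ N * (ds.map fun k => ∑ j ∈ Finset.range k, Fintype.card F ^ j).prod)
    (hW : (TG D F).relIndex (NG D F) = ds.prod) (hle : TG D F ≤ NG D F) : ¬ ℓ ∣ (NG D F).index := by
  have hq : 1 < Fintype.card F := Fintype.one_lt_card
  obtain ⟨h1, h2, h3⟩ := padic_prod hodd hq hlq ds hds
  have h4 := Subgroup.relIndex_mul_index hle
  rw [hT, hW] at h4
  have hi : (NG D F).index ≠ 0 := Subgroup.index_ne_zero_of_finite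
  have hqN : Fintype.card F ^ N ≠ 0 := pow_ne_zero _ (by omega)
  have hnd : ¬ ℓ ∣ Fintype.card F ^ N := by
    intro h
    have h5 := hl.out.dvd_of_dvd_pow h
    have h6 : ℓ ∣ Fintype.card F - (Fintype.card F - 1) := Nat.dvd_sub h5 hlq
    rw [Nat.sub_sub_self hq.le] at h6
    exact hl.out.one_lt.ne' (Nat.dvd_one.1 h6)
  have h5 := congrArg (padicValNat ℓ) h4
  rw [padicValNat.mul h3 hi, padicValNat.mul hqN h2, h1, padicValNat.eq_zero_of_not_dvd hnd] at h5
  intro hd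
  have h6 := one_le_padicValNat_of_dvd hi hd
  omega

omit [Fintype F] in
theorem relIndex_NG (hD : InList D) {n : ℕ} {M : CoxeterMatrix (Fin n)} {w : ℕ}
    (h : ∃ φ : ↥(D.monomialSubgroup F) →* M.Group, Function.Surjective φ ∧
      φ.ker = (D.diagonalSubgroup F).subgroupOf (D.monomialSubgroup F))
    (hw : Nat.card M.Group = w) : (TG D F).relIndex (NG D F) = w := by
  obtain ⟨φ, hφ, hk⟩ := h
  have h1 : (TG D F).relIndex (NG D F) = (D.diagonalSubgroup F).relIndex (D.monomialSubgroup F) :=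
    Subgroup.relIndex_subgroupOf (monomial_le_group hD F)
  rw [h1, Subgroup.relIndex, ← hk, Subgroup.index_ker, MonoidHom.range_eq_top.2 hφ, Subgroup.card_top, hw]

end index

section main

theorem alt_perfect {r : ℕ} (hr : 9 ≤ r) : commutator (alternatingGroup (Fin r)) = ⊤ := by
  have := alt_simple hr
  rcases Subgroup.Normal.eq_bot_or_eq_top (H := commutator (alternatingGroup (Fin r))) inferInstance with h | h
  · exfalso
    obtain ⟨a, b, hab⟩ := alt_nonab hr
    apply hab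
    have h1 := Subgroup.commutator_mem_commutator (Subgroup.mem_top a) (Subgroup.mem_top b)
    rw [← _root_.commutator_def, h, Subgroup.mem_bot, commutatorElement_eq_one_iff_mul_comm] at h1
    exact h1
  · exact h

theorem noSmallRep {ℓ r m : ℕ} [hl : Fact ℓ.Prime] (hr : 9 ≤ r) (hm : m < r - 1 - (if ℓ ∣ r then 1 else 0)) :
    NoSmallRep.{u, 0} (alternatingGroup (Fin r)) ℓ m := by
  intro G _ _ π hπ E _ _ _ ρ hρ
  have : FiniteDimensional (ZMod ℓ) E := inferInstance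
  exact hm.trans_le (feit_tits ℓ hr π hπ ρ hρ)

theorem exists_fusEmb {D : ChevalleyDatum} {F : Type u} [Field F] [Fintype F] {ℓ r m : ℕ}
    [hl : Fact ℓ.Prime] (h2 : ℓ ≠ 2) (hr : 9 ≤ r) (hm : m < r - 1 - (if ℓ ∣ r then 1 else 0))
    (hSB : SecBound ↥(D.group F) ℓ m) (hidx : ¬ ℓ ∣ (NG D F).index) {H : Type u} [Group H] [Finite H]
    (ι : H →* ↥(D.group F)) (hι : Function.Injective ι) (φ : H →* alternatingGroup (Fin r))
    (hφ : Function.Surjective φ) (P : Subgroup ↥(alternatingGroup (Fin r))) (hP : IsPGroup ℓ P) :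
    Nonempty (FusEmb D F r P) := by
  classical
  have hs := alt_simple hr
  obtain ⟨H', hH'⟩ := exists_min_cover φ hφ
  have hSB' : SecBound H' ℓ m :=
    secBound_of_injective (ι.comp H'.subtype) (hι.comp H'.subtype_injective) hSB
  obtain ⟨Q⟩ : Nonempty (Sylow ℓ (φ.comp H'.subtype).ker) := inferInstance
  have hc := hH'.sylow_central (alt_perfect hr) (noSmallRep hr hm) hSB' Q
  have hk := hH'.not_dvd_card_ker (by omega) (alt_perfect hr) h2 Q hc
  obtain ⟨s, hs1, hs2⟩ := exists_fus_hom hH'.surj hk P hP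
  let κ : P →* ↥(D.group F) := (ι.comp H'.subtype).comp s
  have hsinj : Function.Injective s := by
    intro x y hxy
    apply Subtype.ext
    rw [← hs1 x, ← hs1 y, hxy]
  have hκ : Function.Injective κ := (hι.comp H'.subtype_injective).comp hsinj
  have hκp : IsPGroup ℓ κ.range := hP.of_surjective κ.rangeRestrict κ.rangeRestrict_surjective
  obtain ⟨g, hg⟩ := exists_conj_le (NG D F) hidx κ.range hκp
  refine ⟨⟨(MulAut.conj g).toMonoidHom.comp κ, (MulAut.conj g).injective.comp hκ, fun q => hg _ ⟨q, rfl⟩, ?_⟩⟩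
  intro a Q' hQ hQ'
  obtain ⟨h, hh⟩ := hs2 a Q' hQ hQ'
  refine ⟨g * ι h * g⁻¹, ?_⟩
  intro q hq
  have h1 := congrArg (ι.comp H'.subtype) (hh q hq)
  rw [map_mul, map_mul, map_inv] at h1
  change g * ι h * g⁻¹ * (g * κ ⟨q, hQ hq⟩ * g⁻¹) * (g * ι h * g⁻¹)⁻¹ = g * κ ⟨a * q * a⁻¹, hQ' q hq⟩ * g⁻¹
  have h2 : κ ⟨a * q * a⁻¹, hQ' q hq⟩ = ι h * κ ⟨q, hQ hq⟩ * (ι h)⁻¹ := h1.symm
  rw [h2]
  group

theorem inE7 : InList chevE7 := by simp [InList]
theorem inE8 : InList chevE8 := by simp [InList]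

theorem exists_fusEmb_E7 {F : Type u} [Field F] [Fintype F] (p : ℕ) [hp : Fact p.Prime] [CharP F p] {l r : ℕ}
    (hl : (l = 7 ∧ r = 14) ∨ (l = 5 ∧ r = 15)) (hpl : p ≠ l) {r' : ℕ} (hr : r ≤ r') (H : Subgroup ↥(chevE7.group F))
    (K : Subgroup ↥H) [K.Normal] (h : Nonempty (↥H ⧸ K ≃* ↥(alternatingGroup (Fin r'))))
    (P : Subgroup ↥(alternatingGroup (Fin r))) (hP : IsPGroup l P) :
    ∃ (K' : Type u) (_ : Field K') (_ : Fintype K'), l ∣ Fintype.card K' - 1 ∧ Nonempty (FusEmb chevE7 K' r P) := by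
  have hlp : l.Prime := by rcases hl with ⟨rfl, -⟩ | ⟨rfl, -⟩ <;> norm_num
  have hl2 : l ≠ 2 := by rcases hl with ⟨rfl, -⟩ | ⟨rfl, -⟩ <;> norm_num
  have : Fact l.Prime := ⟨hlp⟩
  have hm : ¬ p ∣ l := fun hd => hpl ((Nat.prime_dvd_prime_iff_eq hp.out hlp).1 hd)
  obtain ⟨K', iK, iF, f, hK'⟩ := field_ext' F p hm
  obtain ⟨H', ι, φ, hι, hφ⟩ := start chevE7 f hr H K h
  have hT := index_eq (F := K') inE7 [2, 6, 8, 10, 12, 14, 18] (d := Nat.gcd 2 (Fintype.card K' - 1)) (N := 63)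
    (Nat.gcd_pos_of_pos_left _ (by norm_num)).ne' (by
      rw [Cfsg.Agent.S1064.result rfl]
      simp only [List.map_cons, List.map_nil, List.prod_cons, List.prod_nil]
      ring) (Cfsg.Agent.S1035.result (F := K') rfl (chevE7, Nat.gcd 2 (Fintype.card K' - 1)) (by simp))
  have hW : (TG chevE7 K').relIndex (NG chevE7 K') = 2903040 := by
    obtain ⟨φ, h1, h2, -⟩ := Cfsg.Agent.S1039.result (F := K') (chevE7, ⟨7, CoxeterMatrix.E₇⟩) (by simp)
    exact relIndex_NG inE7 ⟨φ, h1, h2⟩ (Cfsg.Agent.S1093.result (⟨7, CoxeterMatrix.E₇⟩, 2903040) (by simp))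
  have hidx : ¬ l ∣ (NG chevE7 K').index :=
    not_dvd_index_NG hl2 hK' [2, 6, 8, 10, 12, 14, 18] (by decide) hT (by rw [hW]; rfl) (torusData inE7 K').le
  have hSB : SecBound ↥(chevE7.group K') l (7 + 1) := by
    refine secBound_of_torus (torusData inE7 K').normal hidx (rankLe_torus inE7 hlp.ne_zero) ?_
    intro k hk
    rw [hW] at hk
    by_contra hlt
    have h3 : l ^ 2 ∣ 2903040 := (pow_dvd_pow l (by omega)).trans hk
    rcases hl with ⟨rfl, -⟩ | ⟨rfl, -⟩
    · exact absurd h3 (by decide)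
    · exact absurd h3 (by decide)
  refine ⟨K', iK, iF, hK', exists_fusEmb hl2 ?_ ?_ hSB hidx ι hι φ hφ P hP⟩
  · rcases hl with ⟨-, rfl⟩ | ⟨-, rfl⟩ <;> norm_num
  · rcases hl with ⟨rfl, rfl⟩ | ⟨rfl, rfl⟩ <;> norm_num

theorem exists_fusEmb_E8 {F : Type u} [Field F] [Fintype F] (p : ℕ) [hp : Fact p.Prime] [CharP F p] {l r : ℕ}
    (hl : l = 3 ∧ r = 18) (hpl : p ≠ l) {r' : ℕ} (hr : r ≤ r') (H : Subgroup ↥(chevE8.group F))
    (K : Subgroup ↥H) [K.Normal] (h : Nonempty (↥H ⧸ K ≃* ↥(alternatingGroup (Fin r'))))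
    (P : Subgroup ↥(alternatingGroup (Fin r))) (hP : IsPGroup l P) :
    ∃ (K' : Type u) (_ : Field K') (_ : Fintype K'), l ∣ Fintype.card K' - 1 ∧ Nonempty (FusEmb chevE8 K' r P) := by
  have hlp : l.Prime := by rcases hl with ⟨rfl, -⟩; norm_num
  have hl2 : l ≠ 2 := by rcases hl with ⟨rfl, -⟩; norm_num
  have : Fact l.Prime := ⟨hlp⟩
  have hm : ¬ p ∣ l := fun hd => hpl ((Nat.prime_dvd_prime_iff_eq hp.out hlp).1 hd)
  obtain ⟨K', iK, iF, f, hK'⟩ := field_ext' F p hm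
  obtain ⟨H', ι, φ, hι, hφ⟩ := start chevE8 f hr H K h
  have hT := index_eq (F := K') inE8 [2, 8, 12, 14, 18, 20, 24, 30] (d := 1) (N := 120) one_ne_zero (by
      rw [one_mul, Cfsg.Agent.S1065.result rfl]
      simp only [List.map_cons, List.map_nil, List.prod_cons, List.prod_nil]
      ring) (Cfsg.Agent.S1035.result (F := K') rfl (chevE8, 1) (by simp))
  have hW : (TG chevE8 K').relIndex (NG chevE8 K') = 696729600 := by
    obtain ⟨φ, h1, h2, -⟩ := Cfsg.Agent.S1039.result (F := K') (chevE8, ⟨8, CoxeterMatrix.E₈⟩) (by simp)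
    exact relIndex_NG inE8 ⟨φ, h1, h2⟩ (Cfsg.Agent.S1093.result (⟨8, CoxeterMatrix.E₈⟩, 696729600) (by simp))
  have hidx : ¬ l ∣ (NG chevE8 K').index :=
    not_dvd_index_NG hl2 hK' [2, 8, 12, 14, 18, 20, 24, 30] (by decide) hT (by rw [hW]; rfl) (torusData inE8 K').le
  have hSB : SecBound ↥(chevE8.group K') l (8 + 5) := by
    refine secBound_of_torus (torusData inE8 K').normal hidx (rankLe_torus inE8 hlp.ne_zero) ?_
    intro k hk
    rw [hW] at hk
    by_contra hlt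
    have h3 : l ^ 6 ∣ 696729600 := (pow_dvd_pow l (by omega)).trans hk
    rcases hl with ⟨rfl, -⟩
    exact absurd h3 (by decide)
  refine ⟨K', iK, iF, hK', exists_fusEmb hl2 ?_ ?_ hSB hidx ι hι φ hφ P hP⟩
  · rcases hl with ⟨-, rfl⟩; norm_num
  · rcases hl with ⟨rfl, rfl⟩; norm_num

end main

end Cfsg.Agent.H189.ExcLift
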