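import Mathlib

/-!
# Eigenvectors of a family of operators with different eigenvalue systems; eigenspaces of operators of finite order

* `linearIndependent_of_wt`: common eigenvectors with different systems of eigenvalues are linearly independent.
* `subrep`, `quotrep`: restriction of a representation to an invariant subspace / the quotient.
-/

set_option autoImplicit false

namespace Cfsg.Agent.H189.Wt

open Module

universe u v w

section indep

variable {k : Type u} {M : Type v} [Field k] [AddCommGroup M] [Module k M]

theorem linearIndependent_of_wt {ι : Type*} {κ : Type*} (f : κ → End k M) (x : ι → M) (χ : ι → κ → k)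
    (hχ : Function.Injective χ) (hx : ∀ i, x i ≠ 0) (h : ∀ i y, f y (x i) = χ i y • x i) :
    LinearIndependent k x := by
  classical
  rw [linearIndependent_iff']
  intro s
  induction s using Finset.induction_on with
  | empty => intro g _ i hi; simp at hi
  | insert a s ha ih =>
    intro g hg
    have key : ∀ j ∈ s, g j = 0 := by
      intro j hj
      have hne : χ a ≠ χ j := fun e => ha (by rw [hχ e]; exact hj)
      obtain ⟨y, hy⟩ := Function.ne_iff.1 hne
      have h1 : f y (∑ i ∈ insert a s, g i • x i) - χ a y • (∑ i ∈ insert a s, g i • x i) = 0 := by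
        rw [hg, map_zero, smul_zero, sub_zero]
      rw [map_sum, Finset.smul_sum, ← Finset.sum_sub_distrib, Finset.sum_insert ha] at h1
      have h2 : f y (g a • x a) - χ a y • g a • x a = 0 := by
        rw [map_smul, h, smul_comm, sub_self]
      rw [h2, zero_add] at h1
      have h3 : ∑ i ∈ s, (g i * (χ i y - χ a y)) • x i = 0 := by
        rw [← h1]
        refine Finset.sum_congr rfl fun i _ => ?_
        rw [map_smul, h, mul_sub, sub_smul, mul_smul, mul_comm (g i) (χ a y), mul_smul]
      have h4 := ih (fun i => g i * (χ i y - χ a y)) h3 j hj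
      rcases mul_eq_zero.1 h4 with h5 | h5
      · exact h5
      · exact absurd (sub_eq_zero.1 h5).symm hy
    intro i hi
    rcases Finset.mem_insert.1 hi with rfl | hi
    · rw [Finset.sum_insert ha, Finset.sum_eq_zero (fun j hj => by rw [key j hj, zero_smul]), add_zero] at hg
      rcases smul_eq_zero.1 hg with h5 | h5
      · exact h5
      · exact absurd h5 (hx _)
    · exact key i hi

theorem card_le_of_wt [FiniteDimensional k M] {ι : Type*} [Fintype ι] {κ : Type*} (f : κ → End k M) (x : ι → M)
    (χ : ι → κ → k) (hχ : Function.Injective χ) (hx : ∀ i, x i ≠ 0) (h : ∀ i y, f y (x i) = χ i y • x i) :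
    Fintype.card ι ≤ finrank k M :=
  (linearIndependent_of_wt f x χ hχ hx h).fintype_card_le_finrank

end indep

section rep

variable {k : Type u} {V : Type v} [Field k] [AddCommGroup V] [Module k V] {G : Type w} [Group G]

/-- the subrepresentation on an invariant subspace -/
def subrep (ρ : G →* End k V) (W : Submodule k V) (h : ∀ g, ∀ v ∈ W, ρ g v ∈ W) : G →* End k W where
  toFun g := (ρ g).restrict (h g)
  map_one' := by
    ext v
    simp
  map_mul' a b := by
    ext v
    simp

@[simp] theorem coe_subrep (ρ : G →* End k V) (W : Submodule k V) (h : ∀ g, ∀ v ∈ W, ρ g v ∈ W) (g : G) (v : W) :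
    (subrep ρ W h g v : V) = ρ g v := rfl

/-- the quotient representation -/
def quotrep (ρ : G →* End k V) (W : Submodule k V) (h : ∀ g, ∀ v ∈ W, ρ g v ∈ W) : G →* End k (V ⧸ W) where
  toFun g := W.mapQ W (ρ g) (h g)
  map_one' := by
    ext v
    simp
  map_mul' a b := by
    ext v
    simp

@[simp] theorem quotrep_mk (ρ : G →* End k V) (W : Submodule k V) (h : ∀ g, ∀ v ∈ W, ρ g v ∈ W) (g : G) (v : V) :
    quotrep ρ W h g (Submodule.Quotient.mk v) = Submodule.Quotient.mk (ρ g v) := rfl

theorem inv_apply (ρ : G →* End k V) (g : G) (v : V) : ρ g⁻¹ (ρ g v) = v := by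
  rw [← End.mul_apply, ← map_mul, inv_mul_cancel, map_one, End.one_apply]

theorem apply_inv (ρ : G →* End k V) (g : G) (v : V) : ρ g (ρ g⁻¹ v) = v := by
  rw [← End.mul_apply, ← map_mul, mul_inv_cancel, map_one, End.one_apply]

theorem injective (ρ : G →* End k V) (g : G) : Function.Injective (ρ g) :=
  Function.LeftInverse.injective (inv_apply ρ g)

theorem ne_zero (ρ : G →* End k V) (g : G) {v : V} (hv : v ≠ 0) : ρ g v ≠ 0 := by
  intro h
  apply hv
  apply injective ρ g
  rw [h, map_zero]

theorem mul_apply' (ρ : G →* End k V) (a b : G) (v : V) : ρ (a * b) v = ρ a (ρ b v) := by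
  rw [map_mul, End.mul_apply]

/-- an equivariant move between subspaces does not increase the dimension -/
theorem finrank_le_of_map [FiniteDimensional k V] (ρ : G →* End k V) (g : G) (A B : Submodule k V)
    (h : ∀ v ∈ A, ρ g v ∈ B) : finrank k A ≤ finrank k B := by
  have h1 : finrank k (A.map (ρ g)) = finrank k A :=
    (LinearEquiv.finrank_eq (Submodule.equivMapOfInjective (ρ g) (injective ρ g) A)).symm
  rw [← h1]
  apply Submodule.finrank_mono
  rintro _ ⟨v, hv, rfl⟩
  exact h v hv

end rep

end Cfsg.Agent.H189.Wt
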