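import Cfsg.Agent.H730.PairRow
import Cfsg.Agent.H949.LieDZ

/-!
# Rows `XRow` of S4938: the general frame (helper189)

* `dvd_index_of_norm` : an element `w` normalising `H`, `w ∉ H`, `w ^ p ∈ H`: `p ∣ |G : H|`;
* `core` : `K = G / N` simple of Lie type in characteristic `r`, commuting elements `e`, `u`.
-/

set_option autoImplicit false

namespace Cfsg.Agent.H189.XCore

open Cfsg Subgroup Cfsg.Agent.H730.Pair

theorem dvd_index_of_norm {G : Type*} [Group G] [Finite G] {H : Subgroup G} {p : ℕ} (hp : p.Prime) {w : G}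
    (hw : ∀ h ∈ H, w * h * w⁻¹ ∈ H) (h1 : w ∉ H) (h2 : w ^ p ∈ H) : p ∣ H.index := by
  have hwN : w ∈ normalizer (H : Set G) := by
    have hle : H.map (MulAut.conj w).toMonoidHom ≤ H := by
      rintro _ ⟨h, hh, rfl⟩
      exact hw h hh
    have heq : H.map (MulAut.conj w).toMonoidHom = H :=
      Subgroup.eq_of_le_of_card_ge hle (by rw [Subgroup.card_map_of_injective (MulAut.conj w).injective])
    rw [Subgroup.mem_normalizer_iff]
    intro h
    constructor
    · exact hw h
    · intro hh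
      have h3 : w * h * w⁻¹ ∈ H.map (MulAut.conj w).toMonoidHom := by rw [heq]; exact hh
      obtain ⟨k, hk, e⟩ := h3
      have : k = h := (MulAut.conj w).injective e
      exact this ▸ hk
  have hle : H ≤ normalizer (H : Set G) := le_normalizer
  have hn : (H.subgroupOf (normalizer (H : Set G))).Normal := inferInstance
  let q : normalizer (H : Set G) ⧸ H.subgroupOf (normalizer (H : Set G)) :=
    QuotientGroup.mk ⟨w, hwN⟩
  have hq1 : q ≠ 1 := by
    intro h
    have h' : (⟨w, hwN⟩ : normalizer (H : Set G)) ∈ H.subgroupOf (normalizer (H : Set G)) :=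
      (QuotientGroup.eq_one_iff _).1 h
    exact h1 h'
  have hqp : q ^ p = 1 := by
    show (QuotientGroup.mk (⟨w, hwN⟩ ^ p) : normalizer (H : Set G) ⧸ H.subgroupOf (normalizer (H : Set G))) = 1
    rw [QuotientGroup.eq_one_iff]
    exact h2
  have ho : orderOf q = p := by
    have : Fact p.Prime := ⟨hp⟩
    exact orderOf_eq_prime hqp hq1
  have h4 : p ∣ Nat.card (normalizer (H : Set G) ⧸ H.subgroupOf (normalizer (H : Set G))) :=
    ho ▸ orderOf_dvd_natCard q
  have h5 : H.relIndex (normalizer (H : Set G)) * (normalizer (H : Set G)).index = H.index :=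
    Subgroup.relIndex_mul_index hle
  rw [← h5]
  exact Dvd.dvd.mul_right h4 _

theorem dvd_index_of_not_dvd_card {G : Type*} [Group G] [Finite G] {H : Subgroup G} {p : ℕ} (hp : p.Prime)
    (hG : p ∣ Nat.card G) (h : ∀ g ∈ H, g ^ p = 1 → g = 1) : p ∣ H.index := by
  rw [← H.card_mul_index] at hG
  rcases (hp.dvd_mul).1 hG with h1 | h1
  · exfalso
    have : Fact p.Prime := ⟨hp⟩
    obtain ⟨g, hg⟩ := exists_prime_orderOf_dvd_card' p h1
    have h2 : (g : G) = 1 := h g g.2 (by
      rw [← Subgroup.coe_pow, ← hg, pow_orderOf_eq_one]; rfl)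
    have h3 : g = 1 := Subtype.ext h2
    rw [h3, orderOf_one] at hg
    exact hp.one_lt.ne hg
  · exact h1

/-- **The frame.** -/
theorem core {r : ℕ} [hr : Fact r.Prime] {G : Type*} [Group G] [Finite G] (N : Subgroup G) [N.Normal]
    [IsSimpleGroup (G ⧸ N)] (hna : ∃ a b : G ⧸ N, a * b ≠ b * a) (hL : IsLieTypeChar r (G ⧸ N)) {e u : G}
    (hc : Commute e u) (hu : orderOf (QuotientGroup.mk u : G ⧸ N) = r)
    (he : (orderOf (QuotientGroup.mk e : G ⧸ N)).Coprime r) (he1 : e ∉ N)
    (hgen : Gen (G ⧸ N) (QuotientGroup.mk e))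
    (hcent : ∀ g : G, Commute (QuotientGroup.mk g : G ⧸ N) (QuotientGroup.mk e) →
      Commute (QuotientGroup.mk g : G ⧸ N) (QuotientGroup.mk u) → Commute g e ∧ Commute g u)
    (hp : ∀ p : ℕ, p.Prime → p ≠ r → p ∣ Nat.card (G ⧸ N) →
      (∃ w : G, (∀ g, Commute g e → Commute g u → Commute (w * g * w⁻¹) e ∧ Commute (w * g * w⁻¹) u) ∧
        ¬ (Commute w e ∧ Commute w u) ∧ (Commute (w ^ p) e ∧ Commute (w ^ p) u)) ∨
      (∀ g, Commute g e → Commute g u → g ^ p = 1 → g = 1)) :
    ∃ x : G ⧸ N, r ∣ orderOf x ∧ Gen (G ⧸ N) x ∧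
      ∀ p : ℕ, p.Prime → p ∣ Nat.card (G ⧸ N) → p ∣ (centralizer ({x} : Set (G ⧸ N))).index := by
  have hc' : Commute (QuotientGroup.mk e : G ⧸ N) (QuotientGroup.mk u) := hc.map (QuotientGroup.mk' N)
  have hcop : (orderOf (QuotientGroup.mk e : G ⧸ N)).Coprime (orderOf (QuotientGroup.mk u : G ⧸ N)) := by
    rw [hu]; exact he
  have hez := mem_zpowers_mul hc' hcop
  have huz : (QuotientGroup.mk u : G ⧸ N) ∈ zpowers ((QuotientGroup.mk e : G ⧸ N) * QuotientGroup.mk u) := by
    rw [hc'.eq]
    exact mem_zpowers_mul hc'.symm hcop.symm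
  set x : G ⧸ N := QuotientGroup.mk e * QuotientGroup.mk u with hx
  refine ⟨x, ?_, hgen.mul hc' hcop, ?_⟩
  · rw [← hu]
    exact orderOf_dvd_of_mem_zpowers huz
  intro p hpp hpK
  by_cases hpr : p = r
  · -- the defining characteristic
    subst hpr
    by_contra hcon
    obtain ⟨P⟩ : Nonempty (Sylow p (centralizer ({x} : Set (G ⧸ N)))) := inferInstance
    have hcardP : Nat.card ((P : Subgroup _).map (centralizer ({x} : Set (G ⧸ N))).subtype) =
        p ^ (Nat.card (G ⧸ N)).factorization p := by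
      rw [Subgroup.card_map_of_injective (Subgroup.subtype_injective _), P.card_eq_multiplicity]
      congr 1
      have h1 := (centralizer ({x} : Set (G ⧸ N))).card_mul_index
      rw [← h1, Nat.factorization_mul Nat.card_pos.ne' (Subgroup.index_ne_zero_of_finite), Finsupp.add_apply,
        Nat.factorization_eq_zero_of_not_dvd hcon, add_zero]
    let P' : Sylow p (G ⧸ N) := Sylow.ofCard _ hcardP
    have h2 : (QuotientGroup.mk e : G ⧸ N) ∈ centralizer ((P' : Subgroup (G ⧸ N)) : Set (G ⧸ N)) := by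
      rw [Subgroup.mem_centralizer_iff]
      rintro y ⟨z, -, rfl⟩
      have h3 : (z : G ⧸ N) ∈ centralizer ({x} : Set (G ⧸ N)) := z.2
      rw [Subgroup.mem_centralizer_singleton_iff] at h3
      obtain ⟨k, hk⟩ := hez
      have hk' : x ^ k = QuotientGroup.mk e := hk
      rw [← hk']
      have h4 : Commute (z : G ⧸ N) x := h3
      exact (h4.zpow_right k).eq
    have h3 := H949.LieDZ.regular_centralizer hna hL P' h2 (fun h => by
      have h4 : p ∣ 1 := by
        have h5 := Nat.dvd_gcd h (dvd_refl p)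
        rwa [he] at h5
      exact hpp.one_lt.ne' (Nat.dvd_one.1 h4))
    exact he1 ((QuotientGroup.eq_one_iff _).1 h3)
  · -- the preimage of the centralizer
    let C : Subgroup G := (centralizer ({x} : Set (G ⧸ N))).comap (QuotientGroup.mk' N)
    have hCi : C.index = (centralizer ({x} : Set (G ⧸ N))).index :=
      Subgroup.index_comap_of_surjective _ (QuotientGroup.mk'_surjective N)
    have hCmem : ∀ g, g ∈ C ↔ Commute g e ∧ Commute g u := by
      intro g
      constructor
      · intro hg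
        have h3 : (QuotientGroup.mk g : G ⧸ N) ∈ centralizer ({x} : Set (G ⧸ N)) := hg
        rw [Subgroup.mem_centralizer_singleton_iff] at h3
        have h4 : Commute (QuotientGroup.mk g : G ⧸ N) x := h3
        apply hcent
        · obtain ⟨k, hk⟩ := hez
          have hk' : x ^ k = QuotientGroup.mk e := hk
          rw [← hk']
          exact h4.zpow_right k
        · obtain ⟨k, hk⟩ := huz
          have hk' : x ^ k = QuotientGroup.mk u := hk
          rw [← hk']
          exact h4.zpow_right k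
      · rintro ⟨h3, h4⟩
        show (QuotientGroup.mk g : G ⧸ N) ∈ centralizer ({x} : Set (G ⧸ N))
        rw [Subgroup.mem_centralizer_singleton_iff]
        have h5 : Commute (QuotientGroup.mk g : G ⧸ N) (QuotientGroup.mk e) := h3.map (QuotientGroup.mk' N)
        have h6 : Commute (QuotientGroup.mk g : G ⧸ N) (QuotientGroup.mk u) := h4.map (QuotientGroup.mk' N)
        exact (h5.mul_right h6).eq
    rw [← hCi]
    rcases hp p hpp hpr hpK with ⟨w, hw1, hw2, hw3⟩ | h
    · refine dvd_index_of_norm hpp (w := w) ?_ ?_ ?_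
      · intro g hg
        rw [hCmem] at hg ⊢
        exact hw1 g hg.1 hg.2
      · rw [hCmem]; exact hw2
      · rw [hCmem]; exact hw3
    · refine dvd_index_of_not_dvd_card hpp (hpK.trans ?_) ?_
      · exact Subgroup.card_quotient_dvd_card N
      · intro g hg
        rw [hCmem] at hg
        exact h g hg.1 hg.2

/-- a prime not dividing `n` below a bound -/
theorem dvd_pow_sub_one {t q : ℕ} (ht : t.Prime) (htq : ¬ t ∣ q) {i : ℕ} (h : t - 1 ∣ i) : t ∣ q ^ i - 1 := by
  have : Fact t.Prime := ⟨ht⟩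
  obtain ⟨k, rfl⟩ := h
  have h1 : (q : ZMod t) ≠ 0 := by
    intro h
    exact htq ((ZMod.natCast_eq_zero_iff _ _).1 h)
  have h2 : (q : ZMod t) ^ (t - 1) = 1 := ZMod.pow_card_sub_one_eq_one h1
  have h3 : ((q ^ ((t - 1) * k) : ℕ) : ZMod t) = ((1 : ℕ) : ZMod t) := by
    rw [Nat.cast_pow, pow_mul, h2, one_pow, Nat.cast_one]
  have hq : 0 < q := Nat.pos_of_ne_zero (fun h => htq (h ▸ dvd_zero t))
  exact (Nat.modEq_iff_dvd' (Nat.one_le_pow _ _ hq)).1 ((ZMod.natCast_eq_natCast_iff _ _ _).1 h3).symm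

end Cfsg.Agent.H189.XCore
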