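import Mathlib
import Cfsg.Agent.H989.TRowOrth
import Cfsg.Agent.H189.XCore

/-!
# Orthogonal groups: a torus element and a Siegel element with small centralizer (helper189)
-/

set_option autoImplicit false

namespace Cfsg.Agent.H189.XOrth

open QuadraticMap Cfsg.Agent.LieClassical.OrthCore Cfsg.Agent.LieClassical.OrthTrans
  Cfsg.Agent.LieClassical.OrthSimple Cfsg.Agent.ClassicalGeometry.OrthAut1
  Cfsg.Agent.H989.TorusOrth

variable {F V : Type*} [Field F] [AddCommGroup V] [Module F V] {Q : QuadraticForm F V}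

/-- orthogonal decomposition into `n` hyperbolic planes, the plane `x0, y0` and a rest containing `a` -/
structure Frame (Q : QuadraticForm F V) {n : ℕ} (x y : Fin n → V) (x0 y0 a b d : V) : Prop where
  hyp : ∀ i, Hyp Q (x i) (y i)
  xx : ∀ i j, i ≠ j → polar Q (x i) (x j) = 0
  xy : ∀ i j, i ≠ j → polar Q (x i) (y j) = 0
  yy : ∀ i j, i ≠ j → polar Q (y i) (y j) = 0
  hyp0 : Hyp Q x0 y0
  xx0 : ∀ i, polar Q (x i) x0 = 0
  yx0 : ∀ i, polar Q (y i) x0 = 0
  xy0 : ∀ i, polar Q (x i) y0 = 0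
  yy0 : ∀ i, polar Q (y i) y0 = 0
  xa : ∀ i, polar Q (x i) a = 0
  ya : ∀ i, polar Q (y i) a = 0
  x0a : polar Q x0 a = 0
  y0a : polar Q y0 a = 0
  qa : Q a ≠ 0
  x0d : polar Q x0 d = 0
  ad : polar Q a d = 1
  qb : b = 0 ∨ Q b ≠ 0
  x0b : polar Q x0 b = 0
  span : ∀ w, (∀ i, polar Q (x i) w = 0) → (∀ i, polar Q (y i) w = 0) → polar Q x0 w = 0 → polar Q a w = 0 →
    ∃ β γ : F, w = β • x0 + γ • b

section frame

variable {n : ℕ} {x y : Fin n → V} {x0 y0 a b d : V}

theorem hel_comm (hG : Good Q) (h : Frame Q x y x0 y0 a b d) {i j : Fin n} (hij : i ≠ j) (s t : Fˣ) :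
    Commute (helHom hG (h.hyp i) s) (helHom hG (h.hyp j) t) := by
  apply Subtype.ext
  ext v
  show hel (h.hyp i) s (hel (h.hyp j) t v) = hel (h.hyp j) t (hel (h.hyp i) s v)
  have h1 := h.xx i j hij
  have h2 := h.xy i j hij
  have h3 := h.xy j i hij.symm
  have h4 := h.yy i j hij
  have h3' : polar Q (y i) (x j) = 0 := by rw [polar_comm]; exact h3
  have h1' : polar Q (x j) (x i) = 0 := by rw [polar_comm]; exact h1
  have h2' : polar Q (y j) (x i) = 0 := by rw [polar_comm]; exact h2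
  have h4' : polar Q (y j) (y i) = 0 := by rw [polar_comm]; exact h4
  rw [hel_apply, hel_apply, hel_apply, hel_apply]
  simp only [polar_add_right, polar_smul_right, h1, h2, h3, h4, h1', h2', h3', h4', smul_eq_mul, mul_zero, add_zero]
  module

/-- the torus -/
def dg (hG : Good Q) (h : Frame Q x y x0 y0 a b d) : (Fin n → Fˣ) →* ↥(E Q) :=
  MonoidHom.noncommPiCoprod (fun i => helHom hG (h.hyp i)) fun _ _ hij s t => hel_comm hG h hij s t

theorem prod_perp (hG : Good Q) (h : Frame Q x y x0 y0 a b d) (s : Fin n → Fˣ) {v : V} (S : Finset (Fin n))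
    (hc : (S : Set (Fin n)).Pairwise (Function.onFun Commute fun i => helHom hG (h.hyp i) (s i)))
    (h1 : ∀ i ∈ S, polar Q (x i) v = 0) (h2 : ∀ i ∈ S, polar Q (y i) v = 0) :
    ((S.noncommProd (fun i => helHom hG (h.hyp i) (s i)) hc : ↥(E Q)) : V ≃ₗ[F] V) v = v := by
  classical
  induction S using Finset.induction_on with
  | empty => rw [Finset.noncommProd_empty]; rfl
  | insert i S hi ih =>
    rw [Finset.noncommProd_insert_of_notMem _ _ _ _ hi]
    show hel (h.hyp i) (s i) ((Finset.noncommProd S _ _ : ↥(E Q)).1 v) = v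
    rw [ih (fun a ha b hb => hc (Finset.mem_insert_of_mem ha) (Finset.mem_insert_of_mem hb))
      (fun j hj => h1 j (Finset.mem_insert_of_mem hj)) (fun j hj => h2 j (Finset.mem_insert_of_mem hj))]
    exact hel_perp (h.hyp i) (s i) (h1 i (Finset.mem_insert_self _ _)) (h2 i (Finset.mem_insert_self _ _))

theorem prod_x (hG : Good Q) (h : Frame Q x y x0 y0 a b d) (s : Fin n → Fˣ) (j : Fin n) (S : Finset (Fin n))
    (hc : (S : Set (Fin n)).Pairwise (Function.onFun Commute fun i => helHom hG (h.hyp i) (s i)))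
    (hj : j ∈ S) :
    ((S.noncommProd (fun i => helHom hG (h.hyp i) (s i)) hc : ↥(E Q)) : V ≃ₗ[F] V) (x j) =
      ((s j : Fˣ) : F) ^ 2 • x j := by
  classical
  induction S using Finset.induction_on with
  | empty => simp at hj
  | insert i S hi ih =>
    rw [Finset.noncommProd_insert_of_notMem _ _ _ _ hi]
    show hel (h.hyp i) (s i) ((Finset.noncommProd S _ _ : ↥(E Q)).1 (x j)) = _
    rcases Finset.mem_insert.1 hj with rfl | hj'
    · rw [prod_perp hG h s S, hel_left]
      · intro l hl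
        exact h.xx l j (fun e => hi (e ▸ hl))
      · intro l hl
        rw [polar_comm]
        exact h.xy j l (fun e => hi (e ▸ hl))
    · have hij : i ≠ j := fun e => hi (e ▸ hj')
      rw [ih (fun a ha b hb => hc (Finset.mem_insert_of_mem ha) (Finset.mem_insert_of_mem hb)) hj', map_smul,
        hel_perp (h.hyp i) (s i) (h.xx i j hij) (by rw [polar_comm]; exact h.xy j i hij.symm)]

theorem prod_y (hG : Good Q) (h : Frame Q x y x0 y0 a b d) (s : Fin n → Fˣ) (j : Fin n) (S : Finset (Fin n))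
    (hc : (S : Set (Fin n)).Pairwise (Function.onFun Commute fun i => helHom hG (h.hyp i) (s i)))
    (hj : j ∈ S) :
    ((S.noncommProd (fun i => helHom hG (h.hyp i) (s i)) hc : ↥(E Q)) : V ≃ₗ[F] V) (y j) =
      (((s j)⁻¹ : Fˣ) : F) ^ 2 • y j := by
  classical
  induction S using Finset.induction_on with
  | empty => simp at hj
  | insert i S hi ih =>
    rw [Finset.noncommProd_insert_of_notMem _ _ _ _ hi]
    show hel (h.hyp i) (s i) ((Finset.noncommProd S _ _ : ↥(E Q)).1 (y j)) = _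
    rcases Finset.mem_insert.1 hj with rfl | hj'
    · rw [prod_perp hG h s S, hel_right]
      · intro l hl
        exact h.xy l j (fun e => hi (e ▸ hl))
      · intro l hl
        exact h.yy l j (fun e => hi (e ▸ hl))
    · have hij : i ≠ j := fun e => hi (e ▸ hj')
      rw [ih (fun a ha b hb => hc (Finset.mem_insert_of_mem ha) (Finset.mem_insert_of_mem hb)) hj', map_smul,
        hel_perp (h.hyp i) (s i) (h.xy i j hij) (h.yy i j hij)]

variable (hG : Good Q) (h : Frame Q x y x0 y0 a b d)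

theorem dg_perp (s : Fin n → Fˣ) {v : V} (h1 : ∀ i, polar Q (x i) v = 0) (h2 : ∀ i, polar Q (y i) v = 0) :
    (dg hG h s : V ≃ₗ[F] V) v = v :=
  prod_perp hG h s Finset.univ (fun _ _ _ _ hij => hel_comm hG h hij _ _) (fun i _ => h1 i) (fun i _ => h2 i)

theorem dg_x (s : Fin n → Fˣ) (j : Fin n) : (dg hG h s : V ≃ₗ[F] V) (x j) = ((s j : Fˣ) : F) ^ 2 • x j :=
  prod_x hG h s j Finset.univ (fun _ _ _ _ hij => hel_comm hG h hij _ _) (Finset.mem_univ j)

theorem dg_y (s : Fin n → Fˣ) (j : Fin n) : (dg hG h s : V ≃ₗ[F] V) (y j) = (((s j)⁻¹ : Fˣ) : F) ^ 2 • y j :=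
  prod_y hG h s j Finset.univ (fun _ _ _ _ hij => hel_comm hG h hij _ _) (Finset.mem_univ j)

theorem polar_y_dg (s : Fin n → Fˣ) (j : Fin n) (v : V) :
    polar Q (y j) ((dg hG h s : V ≃ₗ[F] V) v) = ((s j : Fˣ) : F) ^ 2 * polar Q (y j) v := by
  have h1 := polar_map (coe_mem_O (dg hG h s)) (y j) v
  rw [dg_y, polar_smul_left, smul_eq_mul] at h1
  rw [← h1, ← mul_assoc, ← mul_pow, Units.mul_inv, one_pow, one_mul]

theorem polar_x_dg (s : Fin n → Fˣ) (j : Fin n) (v : V) :
    polar Q (x j) ((dg hG h s : V ≃ₗ[F] V) v) = (((s j)⁻¹ : Fˣ) : F) ^ 2 * polar Q (x j) v := by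
  have h1 := polar_map (coe_mem_O (dg hG h s)) (x j) v
  rw [dg_x, polar_smul_left, smul_eq_mul] at h1
  rw [← h1, ← mul_assoc, ← mul_pow, Units.inv_mul, one_pow, one_mul]

/-- generic parameters -/
structure Reg (s : Fin n → Fˣ) : Prop where
  mul : ∀ i j, ((s i : Fˣ) : F) ^ 2 * ((s j : Fˣ) : F) ^ 2 ≠ 1
  ne : ∀ i j, i ≠ j → ((s i : Fˣ) : F) ^ 2 ≠ ((s j : Fˣ) : F) ^ 2

theorem Reg.ne_one {s : Fin n → Fˣ} (hs : Reg s) (i : Fin n) : ((s i : Fˣ) : F) ^ 2 ≠ 1 := by
  intro e
  exact hs.mul i i (by rw [e, mul_one])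

variable {s : Fin n → Fˣ} (hs : Reg s)

theorem eq_of_eig {v z : V} {c : F} (hc : c ≠ 1) (hv : (dg hG h s : V ≃ₗ[F] V) v = c • v)
    (hz : (dg hG h s : V ≃ₗ[F] V) z = c • z) (h1 : ∀ j, polar Q (x j) v = polar Q (x j) z)
    (h2 : ∀ j, polar Q (y j) v = polar Q (y j) z) : v = z := by
  have h3 : (dg hG h s : V ≃ₗ[F] V) (v - z) = v - z :=
    dg_perp hG h s (fun i => by rw [polar_sub_right, h1, sub_self]) (fun i => by rw [polar_sub_right, h2, sub_self])
  rw [map_sub, hv, hz, ← smul_sub] at h3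
  have h4 : (c - 1) • (v - z) = 0 := by rw [sub_smul, one_smul, h3, sub_self]
  rcases smul_eq_zero.1 h4 with h5 | h5
  · exact absurd (sub_eq_zero.1 h5) hc
  · exact sub_eq_zero.1 h5

include hs in
theorem eig_x {v : V} {i : Fin n} (hv : (dg hG h s : V ≃ₗ[F] V) v = ((s i : Fˣ) : F) ^ 2 • v) :
    v = polar Q (y i) v • x i := by
  have hx : ∀ j, polar Q (x j) v = 0 := by
    intro j
    have h1 := polar_x_dg hG h s j v
    rw [hv, polar_smul_right, smul_eq_mul] at h1
    by_contra h0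
    have h2 := mul_right_cancel₀ h0 h1
    apply hs.mul i j
    rw [h2, ← mul_pow, Units.inv_mul, one_pow]
  have hy : ∀ j, j ≠ i → polar Q (y j) v = 0 := by
    intro j hj
    have h1 := polar_y_dg hG h s j v
    rw [hv, polar_smul_right, smul_eq_mul] at h1
    by_contra h0
    exact hs.ne j i hj (mul_right_cancel₀ h0 h1).symm
  refine eq_of_eig hG h (hs.ne_one i) hv (by rw [map_smul, dg_x, smul_comm]) ?_ ?_
  · intro j
    rw [hx, polar_smul_right]
    by_cases hj : j = i
    · rw [hj, (h.hyp i).polar_left, smul_zero]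
    · rw [h.xx j i hj, smul_zero]
  · intro j
    rw [polar_smul_right]
    by_cases hj : j = i
    · rw [hj, (h.hyp i).pair', smul_eq_mul, mul_one]
    · rw [hy j hj, polar_comm Q (y j), h.xy i j (Ne.symm hj), smul_zero]

include hs in
theorem eig_y {v : V} {i : Fin n} (hv : (dg hG h s : V ≃ₗ[F] V) v = (((s i)⁻¹ : Fˣ) : F) ^ 2 • v) :
    v = polar Q (x i) v • y i := by
  have hy : ∀ j, polar Q (y j) v = 0 := by
    intro j
    have h1 := polar_y_dg hG h s j v
    rw [hv, polar_smul_right, smul_eq_mul] at h1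
    by_contra h0
    have h2 := mul_right_cancel₀ h0 h1
    apply hs.mul i j
    rw [← h2, ← mul_pow, Units.mul_inv, one_pow]
  have hx : ∀ j, j ≠ i → polar Q (x j) v = 0 := by
    intro j hj
    have h1 := polar_x_dg hG h s j v
    rw [hv, polar_smul_right, smul_eq_mul] at h1
    by_contra h0
    have h2 := mul_right_cancel₀ h0 h1
    apply hs.ne j i hj
    have e1 : ((s j : Fˣ) : F) ^ 2 * (((s j)⁻¹ : Fˣ) : F) ^ 2 = 1 := by
      rw [← mul_pow, Units.mul_inv, one_pow]
    have e2 : ((s i : Fˣ) : F) ^ 2 * (((s i)⁻¹ : Fˣ) : F) ^ 2 = 1 := by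
      rw [← mul_pow, Units.mul_inv, one_pow]
    rw [← h2] at e1
    have h3 : (((s i)⁻¹ : Fˣ) : F) ^ 2 ≠ 0 := pow_ne_zero _ (Units.ne_zero _)
    exact mul_right_cancel₀ h3 (e1.trans e2.symm)
  have hne : (((s i)⁻¹ : Fˣ) : F) ^ 2 ≠ 1 := by
    intro e
    apply hs.ne_one i
    have e2 : ((s i : Fˣ) : F) ^ 2 * (((s i)⁻¹ : Fˣ) : F) ^ 2 = 1 := by
      rw [← mul_pow, Units.mul_inv, one_pow]
    rwa [e, mul_one] at e2
  refine eq_of_eig hG h hne hv (by rw [map_smul, dg_y, smul_comm]) ?_ ?_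
  · intro j
    rw [polar_smul_right]
    by_cases hj : j = i
    · rw [hj, (h.hyp i).pair, smul_eq_mul, mul_one]
    · rw [hx j hj, h.xy j i hj, smul_zero]
  · intro j
    rw [hy, polar_smul_right]
    by_cases hj : j = i
    · rw [hj, (h.hyp i).polar_right, smul_zero]
    · rw [h.yy j i hj, smul_zero]

/-- pointwise form of commuting -/
theorem comm_apply {g k : ↥(E Q)} (hc : Commute g k) (v : V) :
    (g : V ≃ₗ[F] V) ((k : V ≃ₗ[F] V) v) = (k : V ≃ₗ[F] V) ((g : V ≃ₗ[F] V) v) :=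
  LinearEquiv.congr_fun (congrArg Subtype.val hc.eq) v

theorem comm_of_apply {g k : ↥(E Q)}
    (hc : ∀ v, (g : V ≃ₗ[F] V) ((k : V ≃ₗ[F] V) v) = (k : V ≃ₗ[F] V) ((g : V ≃ₗ[F] V) v)) : Commute g k := by
  apply Subtype.ext
  ext v
  exact hc v

include hs in
theorem mul_x {g : ↥(E Q)} (hc : Commute g (dg hG h s)) (i : Fin n) :
    (g : V ≃ₗ[F] V) (x i) = polar Q (y i) ((g : V ≃ₗ[F] V) (x i)) • x i := by
  apply eig_x hG h hs
  rw [← comm_apply hc, dg_x, map_smul]

include hs in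
theorem mul_y {g : ↥(E Q)} (hc : Commute g (dg hG h s)) (i : Fin n) :
    (g : V ≃ₗ[F] V) (y i) = polar Q (x i) ((g : V ≃ₗ[F] V) (y i)) • y i := by
  apply eig_y hG h hs
  rw [← comm_apply hc, dg_y, map_smul]

/-- vectors scaled by a torus element: `g` commutes with every `dg s'` -/
theorem comm_dg {g : ↥(E Q)} (hx : ∀ i, ∃ c : F, (g : V ≃ₗ[F] V) (x i) = c • x i)
    (hy : ∀ i, ∃ c : F, (g : V ≃ₗ[F] V) (y i) = c • y i) (s' : Fin n → Fˣ) : Commute g (dg hG h s') := by
  -- it is enough to treat one factor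
  have key : ∀ (i : Fin n) (t : Fˣ), Commute g (helHom hG (h.hyp i) t) := by
    intro i t
    obtain ⟨c, hc⟩ := hx i
    obtain ⟨c', hc'⟩ := hy i
    have hcc : c * c' = 1 := by
      have h1 := polar_map (coe_mem_O g) (x i) (y i)
      rw [hc, hc', polar_smul_left, polar_smul_right, (h.hyp i).pair, smul_eq_mul, smul_eq_mul, mul_one] at h1
      exact h1
    apply comm_of_apply
    intro v
    show (g : V ≃ₗ[F] V) (hel (h.hyp i) t v) = hel (h.hyp i) t ((g : V ≃ₗ[F] V) v)
    rw [hel_apply, hel_apply, map_add, map_add, map_smul, map_smul, hc, hc']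
    have h1 : polar Q (y i) ((g : V ≃ₗ[F] V) v) = c * polar Q (y i) v := by
      have h2 := polar_map (coe_mem_O g) (y i) v
      rw [hc', polar_smul_left, smul_eq_mul] at h2
      rw [← h2, ← mul_assoc, hcc, one_mul]
    have h3 : polar Q (x i) ((g : V ≃ₗ[F] V) v) = c' * polar Q (x i) v := by
      have h2 := polar_map (coe_mem_O g) (x i) v
      rw [hc, polar_smul_left, smul_eq_mul] at h2
      rw [← h2, ← mul_assoc, mul_comm c' c, hcc, one_mul]
    rw [h1, h3]
    module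
  exact (Finset.noncommProd_induction Finset.univ _ _ (fun k => Commute g k) (fun a b ha hb => ha.mul_right hb)
    (Commute.one_right g) (fun i _ => key i (s' i)))

end frame

end Cfsg.Agent.H189.XOrth
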