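import Cfsg.Agent.H189.XOrthRow

/-!
# `XRow` for the orthogonal groups (helper189; task S4938-X4)
-/

set_option autoImplicit false

namespace Cfsg.Agent.H189.XOrthFam

open Subgroup QuadraticMap Cfsg Cfsg.Agent.LieClassical.OrthCore Cfsg.Agent.LieClassical.OrthTrans
  Cfsg.Agent.LieClassical.OrthSimple Cfsg.Agent.ClassicalGeometry.OrthSemi
  Cfsg.Agent.ClassicalGeometry.OrthSemiCount Cfsg.Agent.ClassicalGeometry.OrthAut1
  Cfsg.Agent.ClassicalGeometry.OrthSemiForms Cfsg.Agent.LieClassical.OrthForms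
  Cfsg.Agent.H989.OutOrth.Basic Cfsg.Agent.H989.OutOrth.Forms Cfsg.Agent.H989.TorusOrth
  Cfsg.Agent.H989.TRowOrth
  Cfsg.Agent.H254 Cfsg.Agent.H254.Orth Cfsg.Agent.H716.CopRow Cfsg.Agent.Schreier.Basic
  Cfsg.Agent.H189.XOrth Cfsg.Agent.H189.XOrthU Cfsg.Agent.H189.XCore Cfsg.Agent.H730.Pair
  Cfsg.Agent.H189.XOrthRow

/-! ### Numbers -/

theorem four_mul_lt {n : ℕ} (hn : 1 ≤ n) : 4 * n + 1 < 2 ^ (2 * n + 1) := by
  induction n with
  | zero => omega
  | succ n ih =>
    rcases Nat.eq_zero_or_pos n with rfl | hn'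
    · norm_num
    · have h1 := ih hn'
      have h2 : 2 ^ (2 * (n + 1) + 1) = 4 * 2 ^ (2 * n + 1) := by
        rw [show 2 * (n + 1) + 1 = (2 * n + 1) + 2 by ring, pow_add]
        ring
      rw [h2]
      omega

theorem bound {q m n t K g e A : ℕ}
    (hK : g * K = q ^ e * A * ∏ i ∈ Finset.range m, (q ^ (2 * (i + 1)) - 1)) (he : e ≠ 0) (ht : t.Prime)
    (htK : ¬ t ∣ K) (h2 : 2 ∣ K) (hg : g ∣ 4) (hn : n ≤ m) : 2 * n + 1 ≤ t := by
  by_contra hlt
  have ht2 : t ≠ 2 := fun e => htK (e ▸ h2)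
  have hto : t % 2 = 1 := (Nat.Prime.eq_two_or_odd ht).resolve_left ht2
  have h1 : t ∣ g * K := by
    rw [hK]
    by_cases htq : t ∣ q
    · exact Dvd.dvd.mul_right (Dvd.dvd.mul_right (dvd_pow htq he) _) _
    · refine Dvd.dvd.mul_left ?_ _
      have h3 : (t - 1) = 2 * (((t - 1) / 2 - 1) + 1) := by
        have := ht.two_le
        omega
      exact (dvd_pow_sub_one ht htq (by rw [← h3])).trans
        (Finset.dvd_prod_of_mem (fun i => q ^ (2 * (i + 1)) - 1)
          (Finset.mem_range.2 (by have := ht.two_le; omega : (t - 1) / 2 - 1 < m)))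
  rcases (ht.dvd_mul).1 h1 with h3 | h3
  · have h4 : t ∣ 2 ^ 2 := h3.trans hg
    exact ht2 ((Nat.prime_dvd_prime_iff_eq ht Nat.prime_two).1 (ht.dvd_of_dvd_pow h4))
  · exact htK h3

/-! ### The general form -/

section fam

variable {F : Type*} [Field F] [Fintype F] {ι : Type} [Fintype ι] [DecidableEq ι]
  {Q : QuadraticForm F (ι → F)} {n : ℕ} {x y : Fin n → ι → F} {x0 y0 a b d : ι → F}

omit [Fintype F] in
theorem eqv (hG : Good Q) {q : (ι → F) → F} (hq : ⇑Q = q) : Nonempty (P Q ≃* Cfsg.POmega F q) := by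
  subst hq
  exact ⟨(pomegaEquiv hG).symm⟩

omit [Fintype F] [DecidableEq ι] [Fintype ι] in
theorem not_comm_P' (hG : Good Q) : ∃ a b : P Q, a * b ≠ b * a := by
  by_contra h
  push Not at h
  exact not_comm_P hG ⟨⟨h⟩⟩

theorem xRow_of (hG : Good Q) (hs : Sch (P Q)) {p₀ f : ℕ} [Fact p₀.Prime] (hf : 1 ≤ f)
    (hF : Fintype.card F = p₀ ^ f) (hn : 2 ≤ n) (h : Frame Q x y x0 y0 a b d)
    (hex : ∀ σ : RingAut F, ∃ M, IsSS Q σ 1 M ∧ (∀ i, M (x i) = x i) ∧ ∀ i, M (y i) = y i) {c N : ℕ}
    (hc0 : c ≠ 0)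
    (hc : ∀ p : ℕ, p.Prime → p ∣ c → p ∣ Nat.card (P Q))
    (hN : ∀ p : ℕ, p.Prime → p ∣ N → p ∣ Nat.card (P Q))
    (hAut : Nat.card (MulAut (Cfsg.POmega F ⇑Q)) ∣ c * f * Nat.card (Cfsg.POmega F ⇑Q))
    (hrange : Nat.card (Psi Q).range = N * f * Nat.card (Cfsg.POmega F ⇑Q)) (r : ℕ) [Fact r.Prime]
    [CharP F r] (hL : IsLieTypeChar r (P Q))
    (hb : ∀ t : ℕ, t.Prime → ¬ t ∣ Nat.card (P Q) → 2 * n + 1 ≤ t) : XRow r (Cfsg.POmega F ⇑Q) := by
  have hfinE : Finite ((ι → F) ≃ₗ[F] (ι → F)) := Finite.of_injective (fun g => g.toEquiv)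
    fun g h e => LinearEquiv.toEquiv_injective e
  have hfin : Finite (P Q) := inferInstance
  have hsi : IsSimpleGroup (P Q) := good_isSimpleGroup hG
  have hna := not_comm_P hG
  obtain ⟨ρ, hρ, -⟩ := exists_ringAut F
  have hf' : Nat.card (F ≃+* F) = f := Lib.FieldAutCard.card_ringAut hf hF
  obtain ⟨M, hM, hMx, hMy⟩ := hex ρ
  set M₀ : Gam Q := ⟨M, ρ, 1, hM⟩ with hM₀
  have hfix : ∀ i, Fix (x i) (y i) M₀ := fun i => ⟨hMx i, ρ, 1, hM, by rw [one_smul]; exact hMy i⟩
  have hsg : sg hG M₀ = ρ := sg_eq hG hM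
  have hord : f ∣ orderOf (Psi Q M₀) := by
    have h4 : orderOf ρ ∣ orderOf (Psi Q M₀) := orderOf_dvd hG (M := M₀) hM
    rw [hρ, hf'] at h4
    exact h4
  have hcop : CopIn (P Q) (Psi Q M₀) := by
    refine CopIn.of_card hna hs _ c hc0 hc ?_
    rw [← card_mulAut hG]
    refine hAut.trans ?_
    rw [← card_P hG]
    exact Nat.mul_dvd_mul_right (Nat.mul_dvd_mul_left _ hord) _
  have hsurj : Function.Surjective (sg hG) := by
    intro σ
    obtain ⟨M', hM', -⟩ := hex σ
    exact ⟨⟨M', σ, 1, hM'⟩, sg_eq hG hM'⟩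
  have hD : Nat.card (D hG) = N := card_D_eq hf hF hG hsurj hrange
  have key : XRow r (P Q) := xRow_P hG h hn hL hfix hcop (by rw [hD]; exact hN) (not_comm_P' hG)
    (fun t ht htK h3 => by
      have h4 := hb t ht htK
      have h5 := four_mul_lt (n := n) (by omega)
      have h6 : 2 ^ (2 * n + 1) ≤ 2 ^ t := Nat.pow_le_pow_right (by norm_num) h4
      omega)
  exact key.mulEquiv (pomegaEquiv hG).symm

end fam

/-! ### The three frames -/

section frames

variable {F : Type*} [Field F] {m : ℕ}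

theorem plus_e (j : Fin m) (v : Fin m ⊕ Fin m → F) :
    polar (plusForm m F) (Pi.single (Sum.inl j) 1) v = v (Sum.inr j) := by
  rw [polar_plusForm, Finset.sum_eq_single j]
  · simp
  · intro i _ hi
    simp [hi]
  · intro h; exact absurd (Finset.mem_univ j) h

theorem plus_f (j : Fin m) (v : Fin m ⊕ Fin m → F) :
    polar (plusForm m F) (Pi.single (Sum.inr j) 1) v = v (Sum.inl j) := by
  rw [polar_plusForm, Finset.sum_eq_single j]
  · simp
  · intro i _ hi
    simp [hi]
  · intro h; exact absurd (Finset.mem_univ j) h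

theorem plus_Qe (j : Fin m) : plusForm m F (Pi.single (Sum.inl j) 1) = 0 := by
  rw [coe_plusForm, quadFormPlus_apply]
  exact Finset.sum_eq_zero fun i _ => by simp

theorem plus_Qf (j : Fin m) : plusForm m F (Pi.single (Sum.inr j) 1) = 0 := by
  rw [coe_plusForm, quadFormPlus_apply]
  exact Finset.sum_eq_zero fun i _ => by simp

theorem plus_hyp (j : Fin m) :
    Hyp (plusForm m F) (Pi.single (Sum.inl j) 1) (Pi.single (Sum.inr j) 1) :=
  ⟨plus_Qe j, plus_Qf j, by rw [plus_e, Pi.single_eq_same]⟩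

theorem frame_plus (hm : 4 ≤ m) :
    Frame (plusForm m F) (n := m - 2)
      (fun i => Pi.single (Sum.inl ⟨(i : ℕ), by omega⟩) 1) (fun i => Pi.single (Sum.inr ⟨(i : ℕ), by omega⟩) 1)
      (Pi.single (Sum.inl ⟨m - 2, by omega⟩) 1) (Pi.single (Sum.inr ⟨m - 2, by omega⟩) 1)
      (Pi.single (Sum.inl ⟨m - 1, by omega⟩) 1 + Pi.single (Sum.inr ⟨m - 1, by omega⟩) 1)
      (Pi.single (Sum.inl ⟨m - 1, by omega⟩) 1 - Pi.single (Sum.inr ⟨m - 1, by omega⟩) 1)
      (Pi.single (Sum.inr ⟨m - 1, by omega⟩) 1) := by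
  have e1 : ∀ i : Fin (m - 2), (i : ℕ) ≠ m - 2 := fun i => by have := i.2; omega
  have e2 : ∀ i : Fin (m - 2), (i : ℕ) ≠ m - 1 := fun i => by have := i.2; omega
  have e3 : m - 2 ≠ m - 1 := by omega
  have e4 : m - 1 ≠ m - 2 := by omega
  constructor
  · intro i; exact plus_hyp _
  · intro i j hij
    rw [plus_e]
    simp
  · intro i j hij
    rw [plus_e, Pi.single_eq_of_ne]
    intro h
    exact hij (Fin.ext (by simpa using h))
  · intro i j hij
    rw [plus_f]
    simp
  · exact plus_hyp _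
  · intro i; rw [plus_e]; simp
  · intro i; rw [plus_f, Pi.single_eq_of_ne]; simpa using e1 i
  · intro i; rw [plus_e, Pi.single_eq_of_ne]; simpa using e1 i
  · intro i; rw [plus_f]; simp
  · intro i
    rw [plus_e, Pi.add_apply, Pi.single_eq_of_ne (by simp), Pi.single_eq_of_ne (by simpa using e2 i), add_zero]
  · intro i
    rw [plus_f, Pi.add_apply, Pi.single_eq_of_ne (by simpa using e2 i), Pi.single_eq_of_ne (by simp), add_zero]
  · rw [plus_e, Pi.add_apply, Pi.single_eq_of_ne (by simp), Pi.single_eq_of_ne (by simpa using e3), add_zero]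
  · rw [plus_f, Pi.add_apply, Pi.single_eq_of_ne (by simpa using e3), Pi.single_eq_of_ne (by simp), add_zero]
  · rw [Q_add, plus_Qe, plus_Qf, plus_e, Pi.single_eq_same]
    simp
  · rw [plus_e, Pi.single_eq_of_ne (by simpa using e3)]
  · rw [polar_add_left, plus_e, plus_f, Pi.single_eq_same, Pi.single_eq_of_ne (by simp), add_zero]
  · right
    rw [sub_eq_add_neg, Q_add, QuadraticMap.map_neg, plus_Qe, plus_Qf, polar_neg_right, plus_e, Pi.single_eq_same]
    simp
  · rw [plus_e, Pi.sub_apply, Pi.single_eq_of_ne (by simp), Pi.single_eq_of_ne (by simpa using e3), sub_zero]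
  · intro w h1 h2 h3 h4
    refine ⟨w (Sum.inl ⟨m - 2, by omega⟩), w (Sum.inl ⟨m - 1, by omega⟩), ?_⟩
    rw [plus_e] at h3
    rw [polar_add_left, plus_e, plus_f] at h4
    funext j
    rcases j with j | j
    · by_cases hj : (j : ℕ) < m - 2
      · have h5 := h2 ⟨j, hj⟩
        rw [plus_f] at h5
        have h6 : w (Sum.inl j) = 0 := h5
        rw [h6]
        have e5 : (j : ℕ) ≠ m - 2 := by omega
        have e6 : (j : ℕ) ≠ m - 1 := by omega
        simp only [Pi.add_apply, Pi.smul_apply, Pi.sub_apply, smul_eq_mul]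
        rw [Pi.single_eq_of_ne, Pi.single_eq_of_ne, Pi.single_eq_of_ne]
        · simp
        · simp
        · intro h; apply e6; simpa [Fin.ext_iff] using h
        · intro h; apply e5; simpa [Fin.ext_iff] using h
      · by_cases hj2 : (j : ℕ) = m - 2
        · have hj3 : j = ⟨m - 2, by omega⟩ := Fin.ext hj2
          rw [hj3]
          simp only [Pi.add_apply, Pi.smul_apply, Pi.sub_apply, smul_eq_mul]
          rw [Pi.single_eq_same, Pi.single_eq_of_ne, Pi.single_eq_of_ne]
          · simp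
          · simp
          · simpa using e3
        · have hj3 : j = ⟨m - 1, by omega⟩ := Fin.ext (by have := j.2; show (j : ℕ) = m - 1; omega)
          rw [hj3]
          simp only [Pi.add_apply, Pi.smul_apply, Pi.sub_apply, smul_eq_mul]
          rw [Pi.single_eq_same, Pi.single_eq_of_ne, Pi.single_eq_of_ne]
          · simp
          · simp
          · simpa using e4
    · by_cases hj : (j : ℕ) < m - 2
      · have h5 := h1 ⟨j, hj⟩
        rw [plus_e] at h5
        have h6 : w (Sum.inr j) = 0 := h5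
        rw [h6]
        have e6 : (j : ℕ) ≠ m - 1 := by omega
        simp only [Pi.add_apply, Pi.smul_apply, Pi.sub_apply, smul_eq_mul]
        rw [Pi.single_eq_of_ne, Pi.single_eq_of_ne, Pi.single_eq_of_ne]
        · simp
        · intro h; apply e6; simpa [Fin.ext_iff] using h
        · simp
        · simp
      · by_cases hj2 : (j : ℕ) = m - 2
        · have hj3 : j = ⟨m - 2, by omega⟩ := Fin.ext hj2
          rw [hj3, h3]
          simp only [Pi.add_apply, Pi.smul_apply, Pi.sub_apply, smul_eq_mul]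
          rw [Pi.single_eq_of_ne, Pi.single_eq_of_ne, Pi.single_eq_of_ne]
          · simp
          · simpa using e3
          · simp
          · simp
        · have hj3 : j = ⟨m - 1, by omega⟩ := Fin.ext (by have := j.2; show (j : ℕ) = m - 1; omega)
          rw [hj3]
          simp only [Pi.add_apply, Pi.smul_apply, Pi.sub_apply, smul_eq_mul]
          rw [Pi.single_eq_same, Pi.single_eq_of_ne, Pi.single_eq_of_ne]
          · linear_combination h4
          · simp
          · simp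

theorem odd_e (j : Fin m) (v : Unit ⊕ (Fin m ⊕ Fin m) → F) :
    polar (oddForm m F) (Pi.single (Sum.inr (Sum.inl j)) 1) v = v (Sum.inr (Sum.inr j)) := by
  rw [polar_oddForm, Finset.sum_eq_single j]
  · simp
  · intro i _ hi
    simp [hi]
  · intro h; exact absurd (Finset.mem_univ j) h

theorem odd_f (j : Fin m) (v : Unit ⊕ (Fin m ⊕ Fin m) → F) :
    polar (oddForm m F) (Pi.single (Sum.inr (Sum.inr j)) 1) v = v (Sum.inr (Sum.inl j)) := by
  rw [polar_oddForm, Finset.sum_eq_single j]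
  · simp
  · intro i _ hi
    simp [hi]
  · intro h; exact absurd (Finset.mem_univ j) h

theorem odd_z (v : Unit ⊕ (Fin m ⊕ Fin m) → F) :
    polar (oddForm m F) (Pi.single (Sum.inl ()) 1) v = 2 * v (Sum.inl ()) := by
  rw [polar_oddForm, Finset.sum_eq_zero]
  · simp
  · intro i _
    simp

theorem odd_Qe (j : Fin m) : oddForm m F (Pi.single (Sum.inr (Sum.inl j)) 1) = 0 := by
  rw [coe_oddForm, quadFormOdd_apply, Finset.sum_eq_zero]
  · simp
  · intro i _; simp

theorem odd_Qf (j : Fin m) : oddForm m F (Pi.single (Sum.inr (Sum.inr j)) 1) = 0 := by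
  rw [coe_oddForm, quadFormOdd_apply, Finset.sum_eq_zero]
  · simp
  · intro i _; simp

theorem odd_Qz : oddForm m F (Pi.single (Sum.inl ()) 1) = 1 := by
  rw [coe_oddForm, quadFormOdd_apply, Finset.sum_eq_zero]
  · simp
  · intro i _; simp

theorem odd_hyp (j : Fin m) :
    Hyp (oddForm m F) (Pi.single (Sum.inr (Sum.inl j)) 1) (Pi.single (Sum.inr (Sum.inr j)) 1) :=
  ⟨odd_Qe j, odd_Qf j, by rw [odd_e, Pi.single_eq_same]⟩

theorem frame_odd (hm : 3 ≤ m) (h2 : (2 : F) ≠ 0) :
    Frame (oddForm m F) (n := m - 1)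
      (fun i => Pi.single (Sum.inr (Sum.inl ⟨(i : ℕ), by omega⟩)) 1)
      (fun i => Pi.single (Sum.inr (Sum.inr ⟨(i : ℕ), by omega⟩)) 1)
      (Pi.single (Sum.inr (Sum.inl ⟨m - 1, by omega⟩)) 1) (Pi.single (Sum.inr (Sum.inr ⟨m - 1, by omega⟩)) 1)
      (Pi.single (Sum.inl ()) 1) 0 ((2 : F)⁻¹ • Pi.single (Sum.inl ()) 1) := by
  have e1 : ∀ i : Fin (m - 1), (i : ℕ) ≠ m - 1 := fun i => by have := i.2; omega
  constructor
  · intro i; exact odd_hyp _
  · intro i j hij
    rw [odd_e]
    simp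
  · intro i j hij
    rw [odd_e, Pi.single_eq_of_ne]
    intro h
    exact hij (Fin.ext (by simpa using h))
  · intro i j hij
    rw [odd_f]
    simp
  · exact odd_hyp _
  · intro i; rw [odd_e]; simp
  · intro i; rw [odd_f, Pi.single_eq_of_ne]; simpa using e1 i
  · intro i; rw [odd_e, Pi.single_eq_of_ne]; simpa using e1 i
  · intro i; rw [odd_f]; simp
  · intro i
    rw [odd_e, Pi.single_eq_of_ne (by simp)]
  · intro i
    rw [odd_f, Pi.single_eq_of_ne (by simp)]
  · rw [odd_e, Pi.single_eq_of_ne (by simp)]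
  · rw [odd_f, Pi.single_eq_of_ne (by simp)]
  · rw [odd_Qz]; exact one_ne_zero
  · rw [polar_smul_right, odd_e, Pi.single_eq_of_ne (by simp), smul_zero]
  · rw [polar_smul_right, odd_z, Pi.single_eq_same, mul_one, smul_eq_mul, inv_mul_cancel₀ h2]
  · left; rfl
  · rw [polar_zero_right]
  · intro w h1 h2' h3 h4
    refine ⟨w (Sum.inr (Sum.inl ⟨m - 1, by omega⟩)), 0, ?_⟩
    rw [odd_e] at h3
    rw [odd_z] at h4
    have h5 : w (Sum.inl ()) = 0 := (mul_eq_zero.1 h4).resolve_left h2
    rw [zero_smul, add_zero]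
    funext j
    rcases j with j | j | j
    · rw [h5]; simp
    · by_cases hj : (j : ℕ) < m - 1
      · have h6 := h2' ⟨j, hj⟩
        rw [odd_f] at h6
        have h7 : w (Sum.inr (Sum.inl j)) = 0 := h6
        have e6 : (j : ℕ) ≠ m - 1 := by omega
        rw [h7, Pi.smul_apply, Pi.single_eq_of_ne, smul_zero]
        intro h; apply e6; simpa [Fin.ext_iff] using h
      · have hj3 : j = ⟨m - 1, by omega⟩ := Fin.ext (by have := j.2; show (j : ℕ) = m - 1; omega)
        rw [hj3]; simp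
    · have h7 : w (Sum.inr (Sum.inr j)) = 0 := by
        by_cases hj : (j : ℕ) < m - 1
        · have h6 := h1 ⟨j, hj⟩
          rw [odd_e] at h6
          exact h6
        · have hj3 : j = ⟨m - 1, by omega⟩ := Fin.ext (by have := j.2; show (j : ℕ) = m - 1; omega)
          rw [hj3, h3]
      rw [h7]; simp

variable {a b : F}

theorem minus_e (j : Fin m) (v : (Fin m ⊕ Fin m) ⊕ Fin 2 → F) :
    polar (minusForm m F a b) (Pi.single (Sum.inl (Sum.inl j)) 1) v = v (Sum.inl (Sum.inr j)) := by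
  rw [polar_minusForm, Finset.sum_eq_single j]
  · simp
  · intro i _ hi
    simp [hi]
  · intro h; exact absurd (Finset.mem_univ j) h

theorem minus_f (j : Fin m) (v : (Fin m ⊕ Fin m) ⊕ Fin 2 → F) :
    polar (minusForm m F a b) (Pi.single (Sum.inl (Sum.inr j)) 1) v = v (Sum.inl (Sum.inl j)) := by
  rw [polar_minusForm, Finset.sum_eq_single j]
  · simp
  · intro i _ hi
    simp [hi]
  · intro h; exact absurd (Finset.mem_univ j) h

/-- a vector of the anisotropic plane -/
def zv (m : ℕ) (c c' : F) : (Fin m ⊕ Fin m) ⊕ Fin 2 → F := Sum.elim 0 ![c, c']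

theorem zv_inl (c c' : F) (j : Fin m ⊕ Fin m) : zv m c c' (Sum.inl j) = 0 := rfl

theorem zv_zero (c c' : F) : zv m c c' (Sum.inr 0) = c := rfl

theorem zv_one (c c' : F) : zv m c c' (Sum.inr 1) = c' := rfl

theorem minus_z (c c' : F) (v : (Fin m ⊕ Fin m) ⊕ Fin 2 → F) :
    polar (minusForm m F a b) (zv m c c') v = (2 * c + a * c') * v (Sum.inr 0) +
      (a * c + 2 * b * c') * v (Sum.inr 1) := by
  rw [polar_minusForm, Finset.sum_eq_zero]
  · rw [zv_zero, zv_one]
    ring
  · intro i _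
    rw [zv_inl, zv_inl]
    ring

theorem minus_Qe (j : Fin m) : minusForm m F a b (Pi.single (Sum.inl (Sum.inl j)) 1) = 0 := by
  rw [coe_minusForm, quadFormMinus_apply, Finset.sum_eq_zero]
  · simp
  · intro i _; simp

theorem minus_Qf (j : Fin m) : minusForm m F a b (Pi.single (Sum.inl (Sum.inr j)) 1) = 0 := by
  rw [coe_minusForm, quadFormMinus_apply, Finset.sum_eq_zero]
  · simp
  · intro i _; simp

theorem minus_Qz (c c' : F) : minusForm m F a b (zv m c c') = c ^ 2 + a * c * c' + b * c' ^ 2 := by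
  rw [coe_minusForm, quadFormMinus_apply, Finset.sum_eq_zero]
  · rw [zv_zero, zv_one, zero_add]
  · intro i _
    rw [zv_inl, zero_mul]

theorem minus_hyp (j : Fin m) :
    Hyp (minusForm m F a b) (Pi.single (Sum.inl (Sum.inl j)) 1) (Pi.single (Sum.inl (Sum.inr j)) 1) :=
  ⟨minus_Qe j, minus_Qf j, by rw [minus_e, Pi.single_eq_same]⟩

theorem exists_frame_minus [Finite F] (hm : 3 ≤ m)
    (hab : ∀ z₁ z₂ : F, z₁ ^ 2 + a * z₁ * z₂ + b * z₂ ^ 2 = 0 → z₁ = 0 ∧ z₂ = 0) : ∃ d,
    Frame (minusForm m F a b) (n := m - 1)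
      (fun i => Pi.single (Sum.inl (Sum.inl ⟨(i : ℕ), by omega⟩)) 1)
      (fun i => Pi.single (Sum.inl (Sum.inr ⟨(i : ℕ), by omega⟩)) 1)
      (Pi.single (Sum.inl (Sum.inl ⟨m - 1, by omega⟩)) 1) (Pi.single (Sum.inl (Sum.inr ⟨m - 1, by omega⟩)) 1)
      (zv m 1 0) (zv m (-a) 2) d := by
  have e1 : ∀ i : Fin (m - 1), (i : ℕ) ≠ m - 1 := fun i => by have := i.2; omega
  have ha : (2 : F) = 0 → a ≠ 0 := by
    intro h2 h0
    have hb := binary_nondeg F a b hab (z := 0) (w := 1) (by rw [h0]; ring) (by linear_combination b * h2)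
    exact one_ne_zero hb.2
  obtain ⟨c, c', hcc⟩ : ∃ c c' : F, 2 * c + a * c' = 1 := by
    by_cases h2 : (2 : F) = 0
    · exact ⟨0, a⁻¹, by rw [mul_zero, zero_add, mul_inv_cancel₀ (ha h2)]⟩
    · exact ⟨2⁻¹, 0, by rw [mul_zero, add_zero, mul_inv_cancel₀ h2]⟩
  have hQb : minusForm m F a b (zv m (-a) 2) ≠ 0 := by
    rw [minus_Qz]
    intro h0
    obtain ⟨h1, h2⟩ := hab _ _ h0
    exact ha h2 (neg_eq_zero.1 h1)
  refine ⟨zv m c c', ?_⟩
  constructor
  · intro i; exact minus_hyp _
  · intro i j hij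
    rw [minus_e]
    simp
  · intro i j hij
    rw [minus_e, Pi.single_eq_of_ne]
    intro h
    exact hij (Fin.ext (by simpa using h))
  · intro i j hij
    rw [minus_f]
    simp
  · exact minus_hyp _
  · intro i; rw [minus_e]; simp
  · intro i; rw [minus_f, Pi.single_eq_of_ne]; simpa using e1 i
  · intro i; rw [minus_e, Pi.single_eq_of_ne]; simpa using e1 i
  · intro i; rw [minus_f]; simp
  · intro i
    rw [minus_e, zv_inl]
  · intro i
    rw [minus_f, zv_inl]
  · rw [minus_e, zv_inl]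
  · rw [minus_f, zv_inl]
  · rw [minus_Qz]; simp
  · rw [minus_e, zv_inl]
  · rw [minus_z, zv_zero, zv_one]
    linear_combination hcc
  · right; exact hQb
  · rw [minus_e, zv_inl]
  · intro w h1 h2' h3 h4
    rw [minus_e] at h3
    rw [minus_z] at h4
    have h4' : 2 * w (Sum.inr 0) + a * w (Sum.inr 1) = 0 := by linear_combination h4
    obtain ⟨γ, hγ0, hγ1⟩ : ∃ γ : F, w (Sum.inr 0) = γ * (-a) ∧ w (Sum.inr 1) = γ * 2 := by
      by_cases h2 : (2 : F) = 0
      · refine ⟨-(w (Sum.inr 0)) * a⁻¹, ?_, ?_⟩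
        · have := ha h2
          field_simp
        · rw [h2, zero_mul, zero_add] at h4'
          rw [(mul_eq_zero.1 h4').resolve_left (ha h2), h2, mul_zero]
      · refine ⟨w (Sum.inr 1) * 2⁻¹, ?_, ?_⟩
        · field_simp
          linear_combination h4'
        · field_simp
    refine ⟨w (Sum.inl (Sum.inl ⟨m - 1, by omega⟩)), γ, ?_⟩
    funext j
    rcases j with (j | j) | j
    · rw [Pi.add_apply, Pi.smul_apply, Pi.smul_apply, zv_inl, smul_zero, add_zero]
      by_cases hj : (j : ℕ) < m - 1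
      · have h6 := h2' ⟨j, hj⟩
        rw [minus_f] at h6
        have h7 : w (Sum.inl (Sum.inl j)) = 0 := h6
        have e6 : (j : ℕ) ≠ m - 1 := by omega
        rw [h7, Pi.single_eq_of_ne, smul_zero]
        intro h; apply e6; simpa [Fin.ext_iff] using h
      · have hj3 : j = ⟨m - 1, by omega⟩ := Fin.ext (by have := j.2; show (j : ℕ) = m - 1; omega)
        rw [hj3]; simp
    · rw [Pi.add_apply, Pi.smul_apply, Pi.smul_apply, zv_inl, smul_zero, add_zero, Pi.single_eq_of_ne (by simp),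
        smul_zero]
      by_cases hj : (j : ℕ) < m - 1
      · have h6 := h1 ⟨j, hj⟩
        rw [minus_e] at h6
        exact h6
      · have hj3 : j = ⟨m - 1, by omega⟩ := Fin.ext (by have := j.2; show (j : ℕ) = m - 1; omega)
        rw [hj3, h3]
    · rw [Pi.add_apply, Pi.smul_apply, Pi.single_eq_of_ne (by simp), smul_zero, zero_add, Pi.smul_apply]
      fin_cases j
      · exact hγ0
      · exact hγ1

/-! ### Semisimilitudes fixing the hyperbolic vectors -/

theorem exists_isSS' {F V : Type*} [Field F] [AddCommGroup V] [Module F V] [Finite V]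
    {Q : QuadraticForm F V} (hQ : Nondeg Q) {σ : F ≃+* F} {c : F} (hc : c ≠ 0) (f : V → V)
    (hadd : ∀ u v, f (u + v) = f u + f v) (hsmul : ∀ (a : F) v, f (a • v) = σ a • f v)
    (hform : ∀ v, Q (f v) = c * σ (Q v)) : ∃ M, IsSS Q σ c M ∧ ∀ v, M v = f v := by
  have hpol : ∀ x y, polar Q (f x) (f y) = c * σ (polar Q x y) := by
    intro x y
    simp only [QuadraticMap.polar]
    rw [← hadd, hform, hform, hform, map_sub, map_sub]
    ring
  have h0 : ∀ v, f v = 0 → v = 0 := by
    intro v hv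
    apply hQ
    intro y
    have h1 := hpol v y
    rw [hv, polar_zero_left] at h1
    rcases mul_eq_zero.1 h1.symm with h2 | h2
    · exact absurd h2 hc
    · exact (map_eq_zero σ).1 h2
  have hinj : Function.Injective f := by
    intro u v h
    have h1 : f (u - v) + f v = f u := by rw [← hadd, sub_add_cancel]
    rw [h] at h1
    have h2 : f (u - v) = 0 := by
      have : f (u - v) + f v = 0 + f v := by rw [h1, zero_add]
      exact add_right_cancel this
    exact sub_eq_zero.1 (h0 _ h2)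
  exact ⟨Equiv.ofBijective f (Finite.injective_iff_bijective.1 hinj), ⟨hc, hadd, hsmul, hform⟩, fun v => rfl⟩

theorem minus_exists' [Finite F] (hab : ∀ z₁ z₂ : F, z₁ ^ 2 + a * z₁ * z₂ + b * z₂ ^ 2 = 0 → z₁ = 0 ∧ z₂ = 0)
    (σ : F ≃+* F) : ∃ M, IsSS (minusForm m F a b) σ 1 M ∧
      ∀ j : Fin m ⊕ Fin m, M (Pi.single (Sum.inl j) 1) = Pi.single (Sum.inl j) 1 := by
  obtain ⟨μ₁, μ₂, hμ1, hμ2⟩ := exists_twist a b hab σ
  obtain ⟨M, hM, hf⟩ := exists_isSS' (nondeg_minusForm m F a b hab) (σ := σ) (c := 1) one_ne_zero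
    (fun v => Sum.elim (fun i => σ (v (.inl i)))
      ![σ (v (.inr 0)) + σ (v (.inr 1)) * μ₁, σ (v (.inr 1)) * μ₂]) (by
    intro u v
    funext i
    rcases i with i | i
    · exact map_add σ _ _
    · fin_cases i
      · simp only [Pi.add_apply, map_add, Sum.elim_inr, Fin.zero_eta, Matrix.cons_val_zero]
        ring
      · simp only [Pi.add_apply, map_add, Sum.elim_inr, Fin.mk_one, Matrix.cons_val_one,
          Matrix.cons_val_fin_one]
        ring) (by
    intro t v
    funext i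
    rcases i with i | i
    · exact map_mul σ _ _
    · fin_cases i
      · simp only [Pi.smul_apply, smul_eq_mul, map_mul, Sum.elim_inr, Fin.zero_eta,
          Matrix.cons_val_zero]
        ring
      · simp only [Pi.smul_apply, smul_eq_mul, map_mul, Sum.elim_inr, Fin.mk_one,
          Matrix.cons_val_one, Matrix.cons_val_fin_one]
        ring) (by
    intro v
    have e1 : ∀ B : F, 1 * σ ((∑ i : Fin m, v (.inl (.inl i)) * v (.inl (.inr i))) + B) =
        (∑ i : Fin m, σ (v (.inl (.inl i)) * v (.inl (.inr i)))) + σ B := by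
      intro B
      rw [map_add, map_sum, one_mul]
    rw [coe_minusForm, quadFormMinus_apply, quadFormMinus_apply, e1]
    congr 1
    · refine Finset.sum_congr rfl fun i _ => ?_
      simp only [Sum.elim_inl, map_mul]
    · simp only [Sum.elim_inr, Matrix.cons_val_zero, Matrix.cons_val_one,
        Matrix.cons_val_fin_one, map_add, map_mul, map_pow]
      rw [← hμ1, ← hμ2]
      ring)
  refine ⟨M, hM, fun j => ?_⟩
  rw [hf]
  funext i
  rcases i with i | i
  · show σ ((Pi.single (Sum.inl j) 1 : (Fin m ⊕ Fin m) ⊕ Fin 2 → F) (Sum.inl i)) = _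
    by_cases hij : i = j
    · rw [hij, Pi.single_eq_same, map_one]
    · rw [Pi.single_eq_of_ne (by simpa using hij), map_zero]
  · rw [Pi.single_eq_of_ne (by simp)]
    simp only [Sum.elim_inr]
    rw [Pi.single_eq_of_ne (by simp), Pi.single_eq_of_ne (by simp)]
    fin_cases i <;> simp

theorem cw_single {ι : Type} [DecidableEq ι] (σ : RingAut F) (j : ι) :
    cw ι F σ (Pi.single j 1) = Pi.single j 1 := by
  funext i
  rw [cw_apply]
  by_cases hij : i = j
  · rw [hij, Pi.single_eq_same, map_one]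
  · rw [Pi.single_eq_of_ne hij, map_zero]

end frames

/-! ### The rows -/

section final

variable {r : ℕ} [hr : Fact r.Prime] {F : Type} [Field F] [Fintype F] [CharP F r] {m : ℕ}

theorem xRow_po_odd (hm : 3 ≤ m) (hodd : Odd (Fintype.card F)) :
    XRow r (Cfsg.POmega F (Cfsg.quadFormOdd m F)) := by
  obtain ⟨p, f, hp, hf, hF⟩ := exists_card F
  have hpodd : Odd p := by
    rw [hF] at hodd
    exact (Nat.odd_pow_iff (by omega)).1 hodd
  have h20 : (2 : F) ≠ 0 := Cfsg.Agent.LieClassical.PomegaCard.odd_card_iff.1 hodd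
  have hG := good_odd (F := F) (m := m) (by omega) h20
  have hs : Sch (P (oddForm m F)) := by
    have h1 := Cfsg.Agent.Schreier.ClassPOmega.sch_odd (F := F) hm h20
    rw [← coe_oddForm] at h1
    exact Sch.of_equiv (pomegaEquiv hG) h1
  have h2 := two_dvd_P hG
  have hAut := S0816.result p f hf hF hpodd m hm
  have hrange := card_range_odd hf hF hpodd hm
  have hcard := S0292.result (F := F) rfl hodd m hm
  rw [← coe_oddForm] at hAut hrange hcard ⊢
  rw [← card_P hG] at hcard
  have h22 : ∀ q : ℕ, q.Prime → q ∣ 2 → q ∣ Nat.card (P (oddForm m F)) := fun q hq hd => by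
    rw [(Nat.prime_dvd_prime_iff_eq hq Nat.prime_two).1 hd]; exact h2
  have hL : IsLieTypeChar r (P (oddForm m F)) :=
    Or.inr (Or.inr (Or.inr (Or.inl ⟨F, inferInstance, inferInstance, inferInstance, m, hm, hodd,
      eqv hG (coe_oddForm _ _)⟩)))
  exact xRow_of hG hs hf hF (by omega) (frame_odd hm h20)
    (fun σ => ⟨_, isSS_cw_odd m σ, fun i => cw_single σ _, fun i => cw_single σ _⟩)
    two_ne_zero h22 h22 (by rw [hAut]) hrange r hL
    (fun t ht htK => bound (A := 1) (by rw [hcard, mul_one]) (by positivity) ht htK h2 ⟨2, rfl⟩ (by omega))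

theorem xRow_po_plus (hm : 4 ≤ m) : XRow r (Cfsg.POmega F (Cfsg.quadFormPlus m F)) := by
  obtain ⟨p, f, hp, hf, hF⟩ := exists_card F
  have hG := good_plus (F := F) (m := m) (by omega)
  have hs : Sch (P (plusForm m F)) := by
    have h1 := Cfsg.Agent.Schreier.ClassPOmega.sch_plus (F := F) hm
    rw [← coe_plusForm] at h1
    exact Sch.of_equiv (pomegaEquiv hG) h1
  have h2 := two_dvd_P hG
  have h3 : 3 ∣ Nat.card (P (plusForm m F)) := by
    rw [card_P hG, coe_plusForm]
    exact three_dvd_plus hm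
  have hAut := S0817.result (F := F) p f hf hF m hm
  have hrange := card_range_plus (F := F) hf hF hm
  have hcard := S0293.result (F := F) rfl m hm
  rw [← coe_plusForm] at hAut hrange hcard ⊢
  rw [← card_P hG] at hcard
  have hL : IsLieTypeChar r (P (plusForm m F)) :=
    Or.inr (Or.inr (Or.inr (Or.inr (Or.inl ⟨F, inferInstance, inferInstance, inferInstance, m, hm,
      eqv hG (coe_plusForm _ _)⟩))))
  refine xRow_of hG hs hf hF (by omega) (frame_plus hm)
    (fun σ => ⟨_, isSS_cw_plus m σ, fun i => cw_single σ _, fun i => cw_single σ _⟩) (c := 3 * 8) (by norm_num) ?_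
    (fun q hq hd => dvd_of_dvd_two_gcd hq hd h2) ?_ hrange r hL
    (fun t ht htK => bound hcard (mul_ne_zero (by omega) (by omega)) ht htK h2 (Nat.gcd_dvd_left _ _) (by omega))
  · intro q hq hd
    rcases (hq.dvd_mul).1 hd with h | h
    · rw [(Nat.prime_dvd_prime_iff_eq hq Nat.prime_three).1 h]; exact h3
    · have h4 : q ∣ 2 ^ 3 := h
      rw [(Nat.prime_dvd_prime_iff_eq hq Nat.prime_two).1 (hq.dvd_of_dvd_pow h4)]; exact h2
  · rw [hAut]
    have h6 : (if m = 4 then 3 else 1) ∣ 3 := by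
      split_ifs
      · exact dvd_rfl
      · exact one_dvd _
    have h7 : (if p = 2 then 2 else (if Even (m * (p ^ f - 1) / 2) then 8 else 4)) ∣ 8 := by
      split_ifs
      · exact ⟨4, by norm_num⟩
      · exact dvd_rfl
      · exact ⟨2, by norm_num⟩
    exact Nat.mul_dvd_mul_right (Nat.mul_dvd_mul_right (Nat.mul_dvd_mul h6 h7) _) _

theorem xRow_po_minus (hm : 4 ≤ m) (a b : F)
    (hab : ∀ z₁ z₂ : F, z₁ ^ 2 + a * z₁ * z₂ + b * z₂ ^ 2 = 0 → z₁ = 0 ∧ z₂ = 0) :
    XRow r (Cfsg.POmega F (Cfsg.quadFormMinus (m - 1) F a b)) := by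
  obtain ⟨p, f, hp, hf, hF⟩ := exists_card F
  have hG := good_minus (F := F) (m := m - 1) (by omega) a b hab
  have hs : Sch (P (minusForm (m - 1) F a b)) := by
    have h1 := Cfsg.Agent.Schreier.ClassPOmega.sch_minus (F := F) hm a b hab
    rw [← coe_minusForm] at h1
    exact Sch.of_equiv (pomegaEquiv hG) h1
  have h2 := two_dvd_P hG
  have hAut := S0818.result (F := F) p f hf hF m hm a b hab
  have hrange := card_range_minus (F := F) hf hF hm a b hab
  have hcard := S0294.result (F := F) rfl m hm a b hab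
  rw [← coe_minusForm] at hAut hrange hcard ⊢
  rw [← card_P hG] at hcard
  have hL : IsLieTypeChar r (P (minusForm (m - 1) F a b)) :=
    Or.inr (Or.inr (Or.inr (Or.inr (Or.inr (Or.inl ⟨F, inferInstance, inferInstance, inferInstance,
      m, a, b, hm, hab, eqv hG (coe_minusForm _ _ _ _)⟩)))))
  obtain ⟨d, hd⟩ := exists_frame_minus (F := F) (m := m - 1) (a := a) (b := b) (by omega) hab
  refine xRow_of hG hs hf hF (by omega) hd (fun σ => ?_) (c := 8) (by norm_num) ?_
    (fun q hq hd => dvd_of_dvd_two_gcd hq hd h2) ?_ hrange r hL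
    (fun t ht htK => bound hcard (mul_ne_zero (by omega) (by omega)) ht htK h2 (Nat.gcd_dvd_left _ _) (by omega))
  · obtain ⟨M, hM, hM2⟩ := minus_exists' (m := m - 1) hab σ
    exact ⟨M, hM, fun i => hM2 _, fun i => hM2 _⟩
  · intro q hq hd
    have h4 : q ∣ 2 ^ 3 := hd
    rw [(Nat.prime_dvd_prime_iff_eq hq Nat.prime_two).1 (hq.dvd_of_dvd_pow h4)]; exact h2
  · rw [hAut]
    have h7 : (if p = 2 then 2 else (if Even (m * (p ^ f - 1) / 2) then 4 else 8)) ∣ 8 := by
      split_ifs
      · exact ⟨4, by norm_num⟩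
      · exact ⟨2, by norm_num⟩
      · exact dvd_rfl
    exact Nat.mul_dvd_mul_right (Nat.mul_dvd_mul_right h7 _) _

end final

end Cfsg.Agent.H189.XOrthFam
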