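import Cfsg.Agent.H189.XCore
import Cfsg.Agent.H189.XSp
import Cfsg.Agent.S0245
import Cfsg.Agent.S0246

/-!
# `XRow` for the symplectic groups (helper189; task S4938-X2)
-/

set_option autoImplicit false

namespace Cfsg.Agent.H189.XRowPSp

open Cfsg Cfsg.Agent.H531 Cfsg.Agent.H730.Pair Cfsg.Agent.H189.XCore Cfsg.Agent.H189.XSp
  Cfsg.Agent.H164.TRowPSp Cfsg.Agent.ClassicalGeometry.SympAutSemi Cfsg.Agent.ClassicalGeometry.SympGamma
  Cfsg.Agent.ClassicalGeometry.SympBasic

theorem card_psp {F : Type*} [Field F] [Fintype F] {q : ℕ} (hF : Fintype.card F = q) {m : ℕ} (hm : 1 ≤ m) :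
    Nat.gcd 2 (q - 1) * Nat.card (PSp m F) = q ^ (m ^ 2) * ∏ i ∈ Finset.range m, (q ^ (2 * (i + 1)) - 1) := by
  have h1 := S0245.result (F := F) hF m
  have h2 := S0246.result (F := F) hF m hm
  have h3 := Subgroup.card_eq_card_quotient_mul_card_subgroup
    (Subgroup.center (Matrix.symplecticGroup (Fin m) F))
  rw [h1, h2] at h3
  rw [h3, mul_comm]

/-- if the order of a field automorphism is a prime `t` and `t > n`, then `n < #F` is small -/
theorem lt_card {F : Type*} [Field F] [Fintype F] {t : ℕ} {τ : F ≃+* F} (h : t ∣ orderOf τ) :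
    2 ^ t ≤ Fintype.card F := by
  obtain ⟨p, hchar⟩ := CharP.exists F
  obtain ⟨f, hp, hf⟩ := FiniteField.card F p
  have hpf : Fact p.Prime := ⟨hp⟩
  have hf' : Nat.card (F ≃+* F) = f := Lib.FieldAutCard.card_ringAut f.pos hf
  have hfin : Finite (F ≃+* F) := Finite.of_injective (fun f : F ≃+* F => (f : F → F)) DFunLike.coe_injective
  have h1 : t ∣ f := by
    rw [← hf']
    exact h.trans (orderOf_dvd_natCard (G := RingAut F) τ)
  rw [hf]
  calc 2 ^ t ≤ 2 ^ (f : ℕ) := Nat.pow_le_pow_right (by norm_num) (Nat.le_of_dvd f.pos h1)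
    _ ≤ p ^ (f : ℕ) := Nat.pow_le_pow_left hp.two_le _

theorem xRow_psp {r : ℕ} [hr : Fact r.Prime] {F : Type} [Field F] [Fintype F] [CharP F r] {m : ℕ} (hm : 2 ≤ m)
    [hsim : IsSimpleGroup (Cfsg.PSp m F)] : XRow r (Cfsg.PSp m F) := by
  have hna := not_comm (by omega : 1 ≤ m) F
  have hna' : ∃ a b : PSp m F, a * b ≠ b * a := by
    by_contra h
    push Not at h
    exact hna ⟨⟨h⟩⟩
  have h2 := H254.CopMain.two_dvd (PSp m F) hna
  obtain ⟨ρ, hρ, -⟩ := H254.exists_ringAut F
  have hcop := H254.PSP.copIn hm three_le_card hna h2 ρ hρ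
  have hco : FieldConj (H254.PSP.fld (F := F) m) := FieldConj.of_copIn _ hcop
  rintro ⟨t, ht, htK, α, hα⟩
  have htf : Fact t.Prime := ⟨ht⟩
  have hL : IsLieTypeChar r (PSp m F) :=
    Or.inr (Or.inl ⟨F, inferInstance, inferInstance, inferInstance, m, hm, three_le_card, ⟨MulEquiv.refl _⟩⟩)
  set i0 : Fin m := ⟨0, by omega⟩ with hi0
  set i1 : Fin m := ⟨1, by omega⟩ with hi1
  have h0 : (i0 : ℕ) = 0 := rfl
  have h1 : (i1 : ℕ) = 1 := rfl
  have hv : orderOf (QuotientGroup.mk (transv (Pi.single (Sum.inl i0) 1) (1 : F)) : PSp m F) = r :=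
    orderOf_transv i0
  have hrK : r ∣ Nat.card (PSp m F) := by
    rw [← hv]
    exact orderOf_dvd_natCard _
  have hrq : r ∣ Fintype.card F := by
    obtain ⟨f, hp, hf⟩ := FiniteField.card F r
    rw [hf]
    exact dvd_pow_self r f.pos.ne'
  -- the order of the field
  obtain ⟨g, τ, hgτ⟩ := hco α (by rw [hα]; exact (Nat.Prime.coprime_iff_not_dvd ht).2 htK)
  have hτ : t ∣ orderOf τ := by
    have h3 : orderOf (H254.PSP.fld (F := F) m τ) = t := by
      rw [← hgτ, ← hα]
      exact (SemiconjBy.orderOf_eq g (x := α) (y := g * α * g⁻¹) (by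
        show g * α = g * α * g⁻¹ * g
        group)).symm
    rw [← h3]
    exact orderOf_map_dvd _ τ
  have hq1 := lt_card hτ
  have htq : ¬ t ∣ Fintype.card F := by
    intro h
    obtain ⟨f, hp, hf⟩ := FiniteField.card F r
    rw [hf] at h
    have h3 := (Nat.prime_dvd_prime_iff_eq ht hr.out).1 (ht.dvd_of_dvd_pow h)
    exact htK (h3 ▸ hrK)
  have ht2 : t ≠ 2 := fun h => htK (h ▸ h2)
  have htodd : t % 2 = 1 := (Nat.Prime.eq_two_or_odd ht).resolve_left ht2
  have htm : 2 * m < t := by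
    by_contra hle
    have h3 : (t - 1) = 2 * (((t - 1) / 2 - 1) + 1) := by
      have := ht.two_le
      omega
    have h4 : t ∣ (Fintype.card F) ^ (2 * (((t - 1) / 2 - 1) + 1)) - 1 :=
      dvd_pow_sub_one ht htq (by rw [← h3])
    have h5 : t ∣ Nat.gcd 2 (Fintype.card F - 1) * Nat.card (PSp m F) := by
      rw [card_psp (F := F) rfl (by omega : 1 ≤ m)]
      refine Dvd.dvd.mul_left (h4.trans ?_) _
      exact Finset.dvd_prod_of_mem (fun i => (Fintype.card F) ^ (2 * (i + 1)) - 1)
        (Finset.mem_range.2 (by have := ht.two_le; omega))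
    rcases (ht.dvd_mul).1 h5 with h6 | h6
    · exact ht2 ((Nat.prime_dvd_prime_iff_eq ht Nat.prime_two).1 (h6.trans (Nat.gcd_dvd_left _ _)))
    · exact htK h6
  have hbig : 2 * (m - 1) < Fintype.card F - 1 := by
    have h3 : t < 2 ^ t := Nat.lt_two_pow_self
    omega
  obtain ⟨u, hu⟩ := IsCyclic.exists_generator (α := Fˣ)
  have hou : orderOf u = Fintype.card F - 1 := by
    rw [orderOf_eq_card_of_forall_mem_zpowers hu, Nat.card_units, Nat.card_eq_fintype_card]
  have hu1 : 2 * (m - 1) < orderOf u := by rw [hou]; exact hbig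
  -- the frame
  have hker : ∀ u : Fˣ, (QuotientGroup.mk (te m F u) : PSp m F) = 1 → u = 1 := by
    intro u hu
    obtain ⟨a, ha⟩ := exists_smul (A := 1) (B := te m F u) hu.symm
    have h3 := congrFun (ha (fun _ => 1)) (Sum.inl i0)
    have h4 := congrFun (ha (fun _ => 1)) (Sum.inl i1)
    rw [map_one, Equiv.Perm.one_apply, rho_te] at h3 h4
    simp [kz, h0, h1] at h3 h4
    apply Units.ext
    rw [h4, ← h3, Units.val_one]
  have hcopr : ∀ n : ℕ, n ∣ Fintype.card F - 1 → n.Coprime r := by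
    intro n hn
    rw [Nat.coprime_comm, Nat.Prime.coprime_iff_not_dvd hr.out]
    intro h3
    have h4 : r ∣ 1 := by
      have h5 : Fintype.card F - 1 + 1 = Fintype.card F := by
        have : 0 < Fintype.card F := Fintype.card_pos
        omega
      exact (Nat.dvd_add_right (h3.trans hn)).1 (h5 ▸ hrq)
    exact hr.out.one_lt.ne' (Nat.dvd_one.1 h4)
  have key := core (r := r) (G := Matrix.symplecticGroup (Fin m) F)
    (Subgroup.center (Matrix.symplecticGroup (Fin m) F)) (hr := hr) (e := te m F u)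
    (u := transv (Pi.single (Sum.inl i0) 1) (1 : F)) hna' hL (comm_te_transv h0 u) hv
    (hcopr _ (by
      rw [← hou]
      exact (orderOf_map_dvd (QuotientGroup.mk' _) _).trans (orderOf_map_dvd (te m F) u)))
    (by
      intro h
      have h3 := hker u ((QuotientGroup.eq_one_iff _).2 h)
      rw [h3, orderOf_one] at hu1
      omega)
    (Gen.of_hom (H254.PSP.fld (F := F) m) (ConjIn.of_copIn hcop ⟨ρ, rfl⟩)
      ((QuotientGroup.mk' _).comp (te m F))
      (fun τ u => by
        show Psi m F (H254.PSP.frobSS m τ) (QuotientGroup.mk (te m F u)) = QuotientGroup.mk (te m F _)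
        rw [Psi_mk, conj_te]) (c := 1) one_pos
      (fun u hu => by rw [pow_one]; exact hker u hu)
      (fun p hp hp1 => absurd hp1 (not_le.2 hp.one_lt)) hu)
    (fun g hg1 hg2 => hcent h0 h1 hu1 hg1 hg2)
    ?_
  · exact key
  · intro p hp hpr hpK
    by_cases hp2 : p = 2
    · subst hp2
      exact Or.inl (exists_w_swap h0 h1 hu1)
    · by_cases hpq : p ∣ Fintype.card F - 1
      · have : Fact p.Prime := ⟨hp⟩
        obtain ⟨c, hc⟩ := exists_prime_orderOf_dvd_card' (G := Fˣ) p (by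
          rw [Nat.card_units, Nat.card_eq_fintype_card]; exact hpq)
        exact Or.inl (exists_w_torus h0 hp hp2 hu1 hc)
      · refine Or.inr fun g h3 h4 h5 => eq_one_of_pow h0 hu1 hp hp2 ?_
          ((Nat.Prime.coprime_iff_not_dvd hp).2 hpq) h3 h4 h5
        intro h6
        have h7 := (CharP.cast_eq_zero_iff F r p).1 h6
        exact hpr ((Nat.prime_dvd_prime_iff_eq hr.out hp).1 h7).symm

end Cfsg.Agent.H189.XRowPSp
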