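import Cfsg.Agent.H189.XOrthU
import Cfsg.Agent.H189.XRowPSp

/-!
# `XRow` for orthogonal groups: abstract form (helper189; task S4938-X4)
-/

set_option autoImplicit false

namespace Cfsg.Agent.H189.XOrthRow

open Subgroup QuadraticMap Cfsg Cfsg.Agent.LieClassical.OrthCore Cfsg.Agent.LieClassical.OrthTrans
  Cfsg.Agent.LieClassical.OrthSimple Cfsg.Agent.ClassicalGeometry.OrthSemi
  Cfsg.Agent.ClassicalGeometry.OrthSemiCount Cfsg.Agent.ClassicalGeometry.OrthAut1
  Cfsg.Agent.ClassicalGeometry.OrthSemiForms Cfsg.Agent.LieClassical.OrthForms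
  Cfsg.Agent.H989.OutOrth.Basic Cfsg.Agent.H989.OutOrth.Forms Cfsg.Agent.H989.TorusOrth
  Cfsg.Agent.H989.TRowOrth
  Cfsg.Agent.H254 Cfsg.Agent.H254.Orth Cfsg.Agent.H716.CopRow Cfsg.Agent.Schreier.Basic
  Cfsg.Agent.H189.XOrth Cfsg.Agent.H189.XOrthU Cfsg.Agent.H189.XCore Cfsg.Agent.H730.Pair

variable {F V : Type*} [Field F] [AddCommGroup V] [Module F V] {Q : QuadraticForm F V}
  {n : ℕ} {x y : Fin n → V} {x0 y0 a b d : V} (hG : Good Q) (h : Frame Q x y x0 y0 a b d)

/-- the exponents `1, …, n` -/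
def te (n : ℕ) (F : Type*) [Field F] : Fˣ →* (Fin n → Fˣ) where
  toFun t i := t ^ ((i : ℕ) + 1)
  map_one' := by funext i; exact one_pow _
  map_mul' s t := by funext i; exact mul_pow _ _ _

theorem te_apply (t : Fˣ) (i : Fin n) : te n F t i = t ^ ((i : ℕ) + 1) := rfl

theorem conj_dg {M : Gam Q} (hM : ∀ i, Fix (x i) (y i) M) (s : Fin n → Fˣ) :
    conjE Q M (dg hG h s) = dg hG h (fun i => Units.map (sg hG M : F →* F) (s i)) := by
  classical
  let ρ : (Fin n → Fˣ) →* (Fin n → Fˣ) :=
    { toFun := fun s i => Units.map (sg hG M : F →* F) (s i)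
      map_one' := by funext i; exact map_one _
      map_mul' := fun s t => by funext i; exact map_mul _ _ _ }
  have key : (conjE Q M : MulAut ↥(E Q)).toMonoidHom.comp (dg hG h) = (dg hG h).comp ρ := by
    apply MonoidHom.pi_ext
    intro i t
    have h1 : ρ (Pi.mulSingle i t) = Pi.mulSingle i (Units.map (sg hG M : F →* F) t) := by
      funext j
      show Units.map (sg hG M : F →* F) ((Pi.mulSingle i t : Fin n → Fˣ) j) = _
      by_cases hj : j = i
      · subst hj
        rw [Pi.mulSingle_eq_same, Pi.mulSingle_eq_same]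
      · rw [Pi.mulSingle_eq_of_ne hj, Pi.mulSingle_eq_of_ne hj, map_one]
    show conjE Q M (dg hG h (Pi.mulSingle i t)) = dg hG h (ρ (Pi.mulSingle i t))
    rw [h1]
    have h2 : ∀ t', dg hG h (Pi.mulSingle i t') = helHom hG (h.hyp i) t' := fun t' =>
      MonoidHom.noncommPiCoprod_mulSingle (fun i => helHom hG (h.hyp i)) i t'
    rw [h2, h2]
    apply Subtype.ext
    rw [coe_conjE]
    exact conjLin_hel hG (h.hyp i) (hM i) t
  exact DFunLike.congr_fun key s

/-- an element of the torus which is central is trivial -/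
theorem dg_center {s : Fin n → Fˣ} (hs : dg hG h s ∈ center ↥(E Q)) (i : Fin n) : ((s i : Fˣ) : F) ^ 2 = 1 := by
  obtain ⟨c, hc⟩ := center_scalar hG hs
  have h1 := hc a
  rw [dg_a] at h1
  have h2 : c = 1 := by
    have h3 : (1 - c) • a = 0 := by rw [sub_smul, one_smul, ← h1, sub_self]
    rcases smul_eq_zero.1 h3 with h4 | h4
    · exact (sub_eq_zero.1 h4).symm
    · exact absurd h4 (a_ne h)
  have h3 := hc (x i)
  rw [dg_x, h2, one_smul] at h3
  have h4 : (((s i : Fˣ) : F) ^ 2 - 1) • x i = 0 := by rw [sub_smul, one_smul, h3, sub_self]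
  rcases smul_eq_zero.1 h4 with h5 | h5
  · exact sub_eq_zero.1 h5
  · exact absurd h5 (h.hyp i).left_ne

theorem reg_te {t : Fˣ} (ht : 4 * n < orderOf t) : Reg (te n F t) := by
  constructor
  · intro i j h1
    have h2 : t ^ (2 * ((i : ℕ) + 1) + 2 * ((j : ℕ) + 1)) = 1 := Units.ext (by
      rw [te_apply, te_apply, Units.val_pow_eq_pow_val, Units.val_pow_eq_pow_val, ← pow_mul, ← pow_mul,
        ← pow_add] at h1
      rw [Units.val_pow_eq_pow_val, Units.val_one, ← h1]
      congr 1
      ring)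
    have h3 := Nat.le_of_dvd (by omega) (orderOf_dvd_of_pow_eq_one h2)
    have := i.2
    have := j.2
    omega
  · intro i j hij h1
    have h2 : t ^ (2 * ((i : ℕ) + 1)) = t ^ (2 * ((j : ℕ) + 1)) := Units.ext (by
      rw [te_apply, te_apply, Units.val_pow_eq_pow_val, Units.val_pow_eq_pow_val, ← pow_mul, ← pow_mul] at h1
      rw [Units.val_pow_eq_pow_val, Units.val_pow_eq_pow_val, mul_comm 2, mul_comm 2, h1])
    have h3 := pow_injOn_Iio_orderOf (x := t) (by show 2 * ((i : ℕ) + 1) < orderOf t; have := i.2; omega)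
      (by show 2 * ((j : ℕ) + 1) < orderOf t; have := j.2; omega) h2
    apply hij
    apply Fin.ext
    omega

include h in
theorem xRow_P [Finite F] [Finite V] (hn : 2 ≤ n) {r : ℕ} [hr : Fact r.Prime] [CharP F r]
    (hL : IsLieTypeChar r (P Q)) {M₀ : Gam Q} (hfix : ∀ i, Fix (x i) (y i) M₀)
    (hcop : CopIn (P Q) (Psi Q M₀))
    (hD : ∀ p : ℕ, p.Prime → p ∣ Nat.card (D hG) → p ∣ Nat.card (P Q))
    (hna : ∃ a b : P Q, a * b ≠ b * a)
    (hbig : ∀ t : ℕ, t.Prime → ¬ t ∣ Nat.card (P Q) → 2 ^ t ≤ Nat.card F → 4 * n < Nat.card F - 1) :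
    XRow r (P Q) := by
  rintro ⟨t', ht', htK, α, hα⟩
  have hfinE : Finite (V ≃ₗ[F] V) := Finite.of_injective (fun g => g.toEquiv)
    fun g h e => LinearEquiv.toEquiv_injective e
  have hfin : Finite (P Q) := inferInstance
  have hfin2 : Finite (MulAut (P Q)) := inferInstance
  have hsim : IsSimpleGroup (P Q) := good_isSimpleGroup hG
  have hFt : Fintype F := Fintype.ofFinite F
  -- elements of `D = ⟨Psi M₀⟩` of prime order move the squares
  have hsg : ∀ (k : ℕ) (p : ℕ), p.Prime → ¬ p ∣ Nat.card (P Q) → orderOf (Psi Q (M₀ ^ k)) = p →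
      sg hG (M₀ ^ k) ≠ 1 := by
    intro k p hp hpP hord h2
    have h3 : out Q (M₀ ^ k) ∈ D hG := out_mem_D.2 h2
    have h4 : orderOf (out Q (M₀ ^ k)) ∣ p := by
      rw [← hord]
      exact orderOf_map_dvd (QuotientGroup.mk' (Cfsg.Inn (P Q))) (Psi Q (M₀ ^ k))
    rcases (Nat.dvd_prime hp).1 h4 with h5 | h5
    · rw [orderOf_eq_one_iff] at h5
      have h6 : Psi Q (M₀ ^ k) ∈ Cfsg.Inn (P Q) := (QuotientGroup.eq_one_iff _).1 h5
      have h7 : p ∣ Nat.card (Cfsg.Inn (P Q)) := by
        rw [← hord]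
        have := orderOf_dvd_natCard (⟨Psi Q (M₀ ^ k), h6⟩ : Cfsg.Inn (P Q))
        rwa [Subgroup.orderOf_mk] at this
      rw [card_Inn hG] at h7
      exact hpP h7
    · apply hpP
      apply hD p hp
      rw [← h5]
      have := orderOf_dvd_natCard (⟨out Q (M₀ ^ k), h3⟩ : D hG)
      rwa [Subgroup.orderOf_mk] at this
  -- the size of the field
  have hbig' : 4 * n < Nat.card F - 1 := by
    have hA : (Nat.card (zpowers α)).Coprime (Nat.card (P Q)) := by
      rw [Nat.card_zpowers, hα]
      exact (Nat.Prime.coprime_iff_not_dvd ht').2 htK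
    obtain ⟨g, hg⟩ := hcop _ hA
    have h1 : MulAut.conj g α ∈ zpowers (Psi Q M₀) := hg ⟨α, mem_zpowers α, rfl⟩
    obtain ⟨k, hk⟩ := mem_powers_iff_mem_zpowers.2 h1
    have hk' : Psi Q (M₀ ^ k) = MulAut.conj g α := by rw [map_pow]; exact hk
    have hord : orderOf (Psi Q (M₀ ^ k)) = t' := by
      rw [hk', ← hα]
      exact (MulAut.conj g : MulAut (P Q) ≃* MulAut (P Q)).orderOf_eq α
    have h2 := hsg k t' ht' htK hord
    -- the order of the field automorphism
    have h3 : t' ∣ orderOf (sg hG (M₀ ^ k)) := by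
      have h4 : sg hG ((M₀ ^ k) ^ t') = 1 := by
        have h5 : out Q ((M₀ ^ k) ^ t') = 1 := by
          show QuotientGroup.mk' _ (Psi Q ((M₀ ^ k) ^ t')) = 1
          rw [map_pow (Psi Q), ← hord, pow_orderOf_eq_one, map_one]
        exact sg_eq_one_of_out hG h5
      rw [map_pow] at h4
      have h5 := orderOf_dvd_of_pow_eq_one h4
      rcases (Nat.dvd_prime ht').1 h5 with h6 | h6
      · exact absurd (orderOf_eq_one_iff.1 h6) h2
      · rw [h6]
    have h4 := XRowPSp.lt_card (F := F) (τ := sg hG (M₀ ^ k)) h3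
    rw [← Nat.card_eq_fintype_card] at h4
    exact hbig t' ht' htK h4
  -- the generator
  obtain ⟨t, ht⟩ := IsCyclic.exists_generator (α := Fˣ)
  have hot : orderOf t = Nat.card F - 1 := by
    rw [orderOf_eq_card_of_forall_mem_zpowers ht, Nat.card_units]
  have ht1 : 4 * n < orderOf t := by rw [hot]; exact hbig'
  have hreg := reg_te (n := n) ht1
  -- numbers
  have hrF : r ∣ Nat.card F := by
    obtain ⟨n, -, hn⟩ := FiniteField.card F r
    rw [Nat.card_eq_fintype_card, hn]
    exact dvd_pow_self r n.pos.ne'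
  have hFpos : 0 < Nat.card F := Nat.card_pos
  have hcp : ∀ k, k ∣ Nat.card F - 1 → k.Coprime r := by
    intro k hk
    rw [Nat.coprime_comm, Nat.Prime.coprime_iff_not_dvd hr.out]
    intro h2
    have h5 : Nat.card F - 1 + 1 = Nat.card F := by omega
    have h6 : r ∣ 1 := (Nat.dvd_add_right (h2.trans hk)).1 (h5 ▸ hrF)
    exact hr.out.one_lt.ne' (Nat.dvd_one.1 h6)
  -- the action of the field automorphisms
  have hPe : ∀ (k : ℕ) (t : Fˣ), Psi Q (M₀ ^ k) (QuotientGroup.mk (dg hG h (te n F t))) =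
      QuotientGroup.mk (dg hG h (te n F (Units.map (sg hG (M₀ ^ k) : F →* F) t))) := by
    intro k t
    rw [Psi_mk, conj_dg hG h (fun i => (hfix i).pow k)]
    congr 3
    funext i
    rw [te_apply, te_apply, map_pow]
  have hconj : ConjIn (P Q) (zpowers (Psi Q M₀)) := ConjIn.of_copIn hcop (mem_zpowers _)
  have hgen : Gen (P Q) (QuotientGroup.mk (dg hG h (te n F t))) := by
    refine Gen.of_conjIn hconj ?_ ?_
    · intro δ hδ
      obtain ⟨k, hk⟩ := mem_powers_iff_mem_zpowers.2 hδ
      have hk' : Psi Q (M₀ ^ k) = δ := by rw [map_pow]; exact hk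
      rw [← hk', hPe]
      obtain ⟨k₁, hk₁⟩ := ht (Units.map (sg hG (M₀ ^ k) : F →* F) t)
      have hk₁' : t ^ k₁ = Units.map (sg hG (M₀ ^ k) : F →* F) t := hk₁
      rw [← hk₁', map_zpow, map_zpow, QuotientGroup.mk_zpow]
      exact zpow_mem (mem_zpowers _) _
    · intro p hp hpP δ hδ ho h5
      obtain ⟨k, hk⟩ := mem_powers_iff_mem_zpowers.2 hδ
      have hk' : Psi Q (M₀ ^ k) = δ := by rw [map_pow]; exact hk
      rw [← hk'] at ho h5
      have h2 := hsg k p hp hpP ho
      rw [hPe] at h5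
      have h3 := QuotientGroup.eq.1 h5.symm
      rw [← map_inv, ← map_mul, ← map_inv, ← map_mul] at h3
      have h4 := dg_center hG h h3 ⟨0, by omega⟩
      rw [te_apply] at h4
      simp only [zero_add, pow_one] at h4
      apply h2
      apply eq_one_of_sq
      set ρ : Fˣ →* Fˣ := Units.map (sg hG (M₀ ^ k) : F →* F) with hρdef
      have h6 : (t⁻¹ * ρ t) ^ 2 = 1 := Units.ext (by rw [Units.val_pow_eq_pow_val, h4, Units.val_one])
      have h7 : ρ (t ^ 2) = t ^ 2 := by
        rw [mul_pow, inv_pow, inv_mul_eq_one] at h6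
        rw [map_pow, ← h6]
      intro z
      by_cases hz : z = 0
      · rw [hz, zero_pow two_ne_zero, map_zero]
      obtain ⟨n, hn⟩ := ht (Units.mk0 z hz)
      have hn' : t ^ n = Units.mk0 z hz := hn
      have h8 : ρ ((Units.mk0 z hz) ^ 2) = (Units.mk0 z hz) ^ 2 := by
        rw [← hn', ← zpow_natCast, ← zpow_mul, mul_comm, zpow_mul, map_zpow, zpow_natCast, h7]
      exact congrArg Units.val h8
  -- the unipotent element
  have hu : orderOf (QuotientGroup.mk (sie h 1) : P Q) = r := by
    refine orderOf_eq_prime ?_ ?_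
    · rw [← QuotientGroup.mk_pow, QuotientGroup.eq_one_iff]
      have h2 : (sie h 1) ^ r = 1 :=
        Subtype.ext (siegel_pow_char (r := r) h.hyp0.left (by rw [polar_smul_right, h.x0a, smul_zero]))
      rw [h2]
      exact one_mem _
    · rw [Ne, QuotientGroup.eq_one_iff]
      intro h2
      obtain ⟨c, hc⟩ := center_scalar hG h2
      have h3 := hc x0
      rw [sie_apply, h.hyp0.polar_left, polar_comm Q a, h.x0a] at h3
      have h4 := hc y0
      rw [sie_apply, h.hyp0.pair, polar_comm Q a, h.y0a] at h4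
      have h5 : c = 1 := by
        have h6 : (1 - c) • x0 = 0 := by
          rw [sub_smul, one_smul, ← h3]
          simp
        rcases smul_eq_zero.1 h6 with h7 | h7
        · exact (sub_eq_zero.1 h7).symm
        · exact absurd h7 h.hyp0.left_ne
      rw [h5] at h4
      have h6 := congrArg (polar Q y0) h4
      simp only [polar_sub_right, polar_add_right, polar_smul_right, h.hyp0.polar_right, h.hyp0.pair', h.y0a,
        smul_eq_mul, mul_zero, mul_one, zero_sub, sub_zero, add_zero, neg_eq_zero] at h6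
      rw [one_mul] at h6
      exact h.qa h6
  have he1 : dg hG h (te n F t) ∉ center ↥(E Q) := by
    intro h2
    exact hreg.ne_one ⟨0, by omega⟩ (dg_center hG h h2 _)
  refine core (r := r) (center ↥(E Q)) hna hL (e := dg hG h (te n F t)) (u := sie h 1)
    (comm_dg_sie hG h _ _) hu (hcp _ ?_) he1 hgen (fun g h1 h2 => hcent hG h hreg (by omega) h1 h2) ?_
  · rw [← hot]
    exact (orderOf_map_dvd (QuotientGroup.mk' _) _).trans
      ((orderOf_map_dvd (dg hG h) _).trans (orderOf_map_dvd (te n F) t))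
  · intro p hp hpr hpK
    by_cases hp2 : p = 2
    · subst hp2
      exact Or.inl (exists_w_swap hG h hreg (i := ⟨0, by omega⟩) (j := ⟨1, by omega⟩) (by
        intro e
        have := congrArg Fin.val e
        simp at this))
    · have hpf : Fact p.Prime := ⟨hp⟩
      by_cases hpq : p ∣ Nat.card F - 1
      · obtain ⟨c, hc⟩ := exists_prime_orderOf_dvd_card' (G := Fˣ) p (by
          rw [Nat.card_units]; exact hpq)
        exact Or.inl (exists_w_torus hG h hp hp2 hc)
      · refine Or.inr fun g h3 h4 h5 => eq_one_of_pow hG h hreg hp hp2 ?_ ?_ h3 h4 h5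
        · intro h6
          have h7 := (CharP.cast_eq_zero_iff F r p).1 h6
          exact hpr ((Nat.prime_dvd_prime_iff_eq hr.out hp).1 h7).symm
        · intro c hc
          have hc0 : c ≠ 0 := by
            rintro rfl
            rw [zero_pow hp.ne_zero] at hc
            exact zero_ne_one hc
          have h6 : (Units.mk0 c hc0) ^ p = 1 := Units.ext (by rw [Units.val_pow_eq_pow_val]; exact hc)
          have h7 : (Units.mk0 c hc0) ^ (Nat.card F - 1) = 1 := by
            rw [← Nat.card_units]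
            exact pow_card_eq_one'
          have h8 := orderOf_dvd_of_pow_eq_one h6
          have h9 := orderOf_dvd_of_pow_eq_one h7
          rcases (Nat.dvd_prime hp).1 h8 with h10 | h10
          · exact congrArg Units.val (orderOf_eq_one_iff.1 h10)
          · rw [h10] at h9
            exact absurd h9 hpq

end Cfsg.Agent.H189.XOrthRow
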