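import Cfsg.Agent.H189.XOrth

/-!
# Orthogonal groups: the Siegel element; centralizers; elements normalising them (helper189)
-/

set_option autoImplicit false

namespace Cfsg.Agent.H189.XOrthU

open QuadraticMap Cfsg.Agent.LieClassical.OrthCore Cfsg.Agent.LieClassical.OrthTrans
  Cfsg.Agent.LieClassical.OrthSimple Cfsg.Agent.ClassicalGeometry.OrthAut1
  Cfsg.Agent.H989.TorusOrth Cfsg.Agent.H189.XOrth

variable {F V : Type*} [Field F] [AddCommGroup V] [Module F V] {Q : QuadraticForm F V}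
  {n : ℕ} {x y : Fin n → V} {x0 y0 a b d : V} (hG : Good Q) (h : Frame Q x y x0 y0 a b d)

/-- the Siegel element -/
def sie (h : Frame Q x y x0 y0 a b d) (c : F) : ↥(E Q) :=
  ⟨siegel Q x0 (c • a) h.hyp0.left (by rw [polar_smul_right, h.x0a, smul_zero]), siegel_mem_E _ _⟩

theorem sie_apply (c : F) (v : V) :
    (sie h c : V ≃ₗ[F] V) v = v + (c * polar Q x0 v) • a - (c * polar Q a v) • x0 -
      (c * c * Q a * polar Q x0 v) • x0 := by
  have h1 : polar Q x0 (c • a) = 0 := by rw [polar_smul_right, h.x0a, smul_zero]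
  show siegel Q x0 (c • a) h.hyp0.left h1 v = _
  rw [siegel_apply, QuadraticMap.map_smul, polar_smul_left]
  simp only [smul_eq_mul]
  module

theorem eig_of_comm {g : ↥(E Q)} (hc : Commute g (sie h 1)) :
    ∃ l ν : F, l * l = 1 ∧ (g : V ≃ₗ[F] V) x0 = l • x0 ∧ (g : V ≃ₗ[F] V) a = l • a + ν • x0 := by
  have hgO := coe_mem_O g
  -- the first test vector
  have h1 := comm_apply hc d
  rw [sie_apply, sie_apply, h.x0d, h.ad] at h1
  set s := polar Q x0 ((g : V ≃ₗ[F] V) d) with hs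
  have h2 : (g : V ≃ₗ[F] V) x0 = (-s) • a + (polar Q a ((g : V ≃ₗ[F] V) d) + Q a * s) • x0 := by
    simp only [mul_zero, zero_smul, add_zero, mul_one, one_mul, sub_zero, one_smul, map_sub] at h1
    have h3 : (g : V ≃ₗ[F] V) x0 = (g : V ≃ₗ[F] V) d - ((g : V ≃ₗ[F] V) d - (g : V ≃ₗ[F] V) x0) := by abel
    rw [h3, h1]
    module
  have hs0 : s = 0 := by
    have h3 : Q ((g : V ≃ₗ[F] V) x0) = 0 := by rw [mem_O.1 hgO]; exact h.hyp0.left
    rw [h2, Q_add, QuadraticMap.map_smul, QuadraticMap.map_smul, h.hyp0.left, polar_smul_left, polar_smul_right,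
      polar_comm Q a x0, h.x0a] at h3
    simp only [smul_eq_mul, mul_zero, add_zero] at h3
    rcases mul_eq_zero.1 h3 with h4 | h4
    · have := mul_self_eq_zero.1 h4
      exact neg_eq_zero.1 this
    · exact absurd h4 h.qa
  rw [hs0, neg_zero, zero_smul, zero_add, mul_zero, add_zero] at h2
  set l := polar Q a ((g : V ≃ₗ[F] V) d) with hl
  -- the second test vector
  have h3 := comm_apply hc y0
  have hay0 : polar Q a y0 = 0 := by rw [polar_comm]; exact h.y0a
  rw [sie_apply, sie_apply, h.hyp0.pair, hay0] at h3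
  set t := polar Q x0 ((g : V ≃ₗ[F] V) y0) with ht
  have hlt : l * t = 1 := by
    have h4 := polar_map hgO x0 y0
    rw [h2, h.hyp0.pair, polar_smul_left, smul_eq_mul] at h4
    exact h4
  have h5 : (g : V ≃ₗ[F] V) a = t • a + (Q a * l - polar Q a ((g : V ≃ₗ[F] V) y0) - Q a * t) • x0 := by
    simp only [mul_zero, zero_smul, mul_one, one_mul, sub_zero, one_smul, map_sub, map_add, map_smul, h2] at h3
    have h4 : (g : V ≃ₗ[F] V) a = ((g : V ≃ₗ[F] V) y0 + (g : V ≃ₗ[F] V) a - Q a • l • x0) -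
        (g : V ≃ₗ[F] V) y0 + Q a • l • x0 := by abel
    rw [h4, h3]
    module
  have htt : t * t = 1 := by
    have h6 : Q ((g : V ≃ₗ[F] V) a) = Q a := mem_O.1 hgO a
    rw [h5, Q_add, QuadraticMap.map_smul, QuadraticMap.map_smul, h.hyp0.left, polar_smul_left, polar_smul_right,
      polar_comm Q a x0, h.x0a] at h6
    simp only [smul_eq_mul, mul_zero, add_zero] at h6
    exact mul_right_cancel₀ h.qa (by rw [h6, one_mul])
  have hlt' : l = t := by
    calc l = l * (t * t) := by rw [htt, mul_one]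
      _ = t := by rw [← mul_assoc, hlt, one_mul]
  refine ⟨l, Q a * l - polar Q a ((g : V ≃ₗ[F] V) y0) - Q a * t, by rw [hlt', htt], h2, ?_⟩
  rw [h5, hlt']

theorem comm_sie {g : ↥(E Q)} {l ν : F} (hl : l * l = 1) (h1 : (g : V ≃ₗ[F] V) x0 = l • x0)
    (h2 : (g : V ≃ₗ[F] V) a = l • a + ν • x0) (c : F) : Commute g (sie h c) := by
  have hgO := coe_mem_O g
  apply comm_of_apply
  intro v
  rw [sie_apply, sie_apply]
  have e1 : polar Q x0 ((g : V ≃ₗ[F] V) v) = l * polar Q x0 v := by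
    have h3 := polar_map hgO x0 v
    rw [h1, polar_smul_left, smul_eq_mul] at h3
    rw [← h3, ← mul_assoc, hl, one_mul]
  have e2 : polar Q a ((g : V ≃ₗ[F] V) v) = l * polar Q a v - ν * polar Q x0 v := by
    have h3 := polar_map hgO a v
    rw [h2, polar_add_left, polar_smul_left, polar_smul_left, e1] at h3
    simp only [smul_eq_mul] at h3
    linear_combination (-(polar Q a ((g : V ≃ₗ[F] V) v))) * hl + l * h3 - ν * polar Q x0 v * hl
  rw [e1, e2]
  simp only [map_sub, map_add, map_smul, h1, h2]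
  module

theorem dg_a (s : Fin n → Fˣ) : (dg hG h s : V ≃ₗ[F] V) a = a := dg_perp hG h s h.xa h.ya

theorem dg_x0 (s : Fin n → Fˣ) : (dg hG h s : V ≃ₗ[F] V) x0 = x0 := dg_perp hG h s h.xx0 h.yx0

theorem sie_x (c : F) (i : Fin n) : (sie h c : V ≃ₗ[F] V) (x i) = x i := by
  rw [sie_apply, polar_comm Q x0, polar_comm Q a, h.xx0, h.xa]
  simp

include h in
theorem a_ne : a ≠ 0 := by
  intro e
  exact h.qa (by rw [e, QuadraticMap.map_zero])

theorem comm_dg_sie (s : Fin n → Fˣ) (c : F) : Commute (dg hG h s) (sie h c) :=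
  comm_sie h (l := 1) (ν := 0) (mul_one 1) (by rw [dg_x0, one_smul]) (by rw [dg_a, one_smul, zero_smul, add_zero]) c

include hG in
/-- commuting modulo the centre -/
theorem exists_scalar {g k : ↥(E Q)} (hc : Commute (QuotientGroup.mk g : P Q) (QuotientGroup.mk k)) :
    ∃ c : F, c * c = 1 ∧ ∀ v, (k : V ≃ₗ[F] V) ((g : V ≃ₗ[F] V) v) = c • (g : V ≃ₗ[F] V) ((k : V ≃ₗ[F] V) v) := by
  have h1 : (g * k)⁻¹ * (k * g) ∈ Subgroup.center ↥(E Q) := QuotientGroup.eq.1 hc.eq
  obtain ⟨c, hc1⟩ := center_scalar hG h1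
  have h2 : ∀ v, (k : V ≃ₗ[F] V) ((g : V ≃ₗ[F] V) v) = c • (g : V ≃ₗ[F] V) ((k : V ≃ₗ[F] V) v) := by
    intro v
    have h3 : (((g * k) * ((g * k)⁻¹ * (k * g)) : ↥(E Q)) : V ≃ₗ[F] V) v = ((k * g : ↥(E Q)) : V ≃ₗ[F] V) v := by
      rw [mul_inv_cancel_left]
    have h4 : (((g * k) * ((g * k)⁻¹ * (k * g)) : ↥(E Q)) : V ≃ₗ[F] V) v =
        ((g * k : ↥(E Q)) : V ≃ₗ[F] V) ((((g * k)⁻¹ * (k * g) : ↥(E Q)) : V ≃ₗ[F] V) v) := rfl
    rw [h4, hc1, map_smul] at h3
    exact h3.symm
  refine ⟨c, ?_, h2⟩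
  obtain ⟨x', y', hh⟩ := hG.exists_hyp
  have h3 := Q_add_pair hh 1 1
  have h4 := h2 ((1 : F) • x' + (1 : F) • y')
  have h5 := congrArg Q h4
  rw [QuadraticMap.map_smul, mem_O.1 (coe_mem_O k), mem_O.1 (coe_mem_O g), mem_O.1 (coe_mem_O g),
    mem_O.1 (coe_mem_O k), h3, smul_eq_mul, mul_one, mul_one] at h5
  exact h5.symm

variable {s : Fin n → Fˣ} (hs : Reg s)

include hs in
theorem hcent (hn : 0 < n) {g : ↥(E Q)}
    (h1 : Commute (QuotientGroup.mk g : P Q) (QuotientGroup.mk (dg hG h s)))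
    (h2 : Commute (QuotientGroup.mk g : P Q) (QuotientGroup.mk (sie h 1))) :
    Commute g (dg hG h s) ∧ Commute g (sie h 1) := by
  have hc1 : Commute g (dg hG h s) := by
    obtain ⟨c, hcc, hc⟩ := exists_scalar hG h1
    have hc1 : c = 1 := by
      by_contra hne
      have h3 := hc a
      rw [dg_a] at h3
      have h4 : (g : V ≃ₗ[F] V) a = 0 := by
        refine eq_of_eig hG h hne h3 (by rw [map_zero, smul_zero]) ?_ ?_
        · intro j
          rw [polar_zero_right]
          have h5 := polar_x_dg hG h s j ((g : V ≃ₗ[F] V) a)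
          rw [h3, polar_smul_right, smul_eq_mul] at h5
          by_contra h0
          have h6 := mul_right_cancel₀ h0 h5
          apply hs.mul j j
          rw [h6] at hcc
          have e2 : ((s j : Fˣ) : F) ^ 2 * (((s j)⁻¹ : Fˣ) : F) ^ 2 = 1 := by
            rw [← mul_pow, Units.mul_inv, one_pow]
          linear_combination (-(((s j : Fˣ) : F) ^ 2 * ((s j : Fˣ) : F) ^ 2)) * hcc +
            (((s j : Fˣ) : F) ^ 2 * (((s j)⁻¹ : Fˣ) : F) ^ 2 + 1) * e2
        · intro j
          rw [polar_zero_right]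
          have h5 := polar_y_dg hG h s j ((g : V ≃ₗ[F] V) a)
          rw [h3, polar_smul_right, smul_eq_mul] at h5
          by_contra h0
          have h6 := mul_right_cancel₀ h0 h5
          apply hs.mul j j
          rw [← h6, hcc]
      apply a_ne h
      have h5 : (g : V ≃ₗ[F] V) a = (g : V ≃ₗ[F] V) 0 := by rw [h4, map_zero]
      exact (g : V ≃ₗ[F] V).injective h5
    apply comm_of_apply
    intro v
    rw [hc v, hc1, one_smul]
  refine ⟨hc1, ?_⟩
  obtain ⟨c, -, hc⟩ := exists_scalar hG h2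
  have h3 := hc (x ⟨0, hn⟩)
  rw [sie_x, mul_x hG h hs hc1, map_smul, sie_x] at h3
  rw [← mul_x hG h hs hc1] at h3
  have hc2 : c = 1 := by
    have h4 : (1 - c) • (g : V ≃ₗ[F] V) (x ⟨0, hn⟩) = 0 := by rw [sub_smul, one_smul, ← h3, sub_self]
    rcases smul_eq_zero.1 h4 with h5 | h5
    · exact (sub_eq_zero.1 h5).symm
    · exfalso
      apply (h.hyp ⟨0, hn⟩).left_ne
      have h6 : (g : V ≃ₗ[F] V) (x ⟨0, hn⟩) = (g : V ≃ₗ[F] V) 0 := by rw [h5, map_zero]
      exact (g : V ≃ₗ[F] V).injective h6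
  apply comm_of_apply
  intro v
  rw [hc v, hc2, one_smul]

/-! ### Elements normalising the centralizer -/

theorem conj_comm {G : Type*} [Group G] {w g k : G} : Commute (w * g * w⁻¹) k ↔ Commute g (w⁻¹ * k * w) := by
  constructor
  · intro h
    have h1 : w * g * w⁻¹ * k = k * (w * g * w⁻¹) := h
    show g * (w⁻¹ * k * w) = w⁻¹ * k * w * g
    calc g * (w⁻¹ * k * w) = w⁻¹ * (w * g * w⁻¹ * k) * w := by group
      _ = w⁻¹ * (k * (w * g * w⁻¹)) * w := by rw [h1]
      _ = w⁻¹ * k * w * g := by group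
  · intro h
    have h1 : g * (w⁻¹ * k * w) = w⁻¹ * k * w * g := h
    show w * g * w⁻¹ * k = k * (w * g * w⁻¹)
    calc w * g * w⁻¹ * k = w * (g * (w⁻¹ * k * w)) * w⁻¹ := by group
      _ = w * (w⁻¹ * k * w * g) * w⁻¹ := by rw [h1]
      _ = k * (w * g * w⁻¹) := by group

theorem exists_w_torus {p : ℕ} (hp : p.Prime) (hp2 : p ≠ 2) {c : Fˣ} (hc : orderOf c = p) :
    ∃ w : ↥(E Q),
      (∀ g, Commute g (dg hG h s) → Commute g (sie h 1) →
        Commute (w * g * w⁻¹) (dg hG h s) ∧ Commute (w * g * w⁻¹) (sie h 1)) ∧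
      ¬ (Commute w (dg hG h s) ∧ Commute w (sie h 1)) ∧
      (Commute (w ^ p) (dg hG h s) ∧ Commute (w ^ p) (sie h 1)) := by
  set w : ↥(E Q) := helHom hG h.hyp0 c with hw
  have hwapp : ∀ v, (w : V ≃ₗ[F] V) v = hel h.hyp0 c v := fun v => rfl
  have hwx0 : (w : V ≃ₗ[F] V) x0 = ((c : F) ^ 2) • x0 := by rw [hwapp, hel_left]
  have hwa : (w : V ≃ₗ[F] V) a = a := by rw [hwapp, hel_perp h.hyp0 c h.x0a h.y0a]
  have hwd : Commute w (dg hG h s) := by
    refine comm_dg hG h (fun i => ⟨1, ?_⟩) (fun i => ⟨1, ?_⟩) s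
    · rw [one_smul, hwapp, hel_perp h.hyp0 c]
      · rw [polar_comm]; exact h.xx0 i
      · rw [polar_comm]; exact h.xy0 i
    · rw [one_smul, hwapp, hel_perp h.hyp0 c]
      · rw [polar_comm]; exact h.yx0 i
      · rw [polar_comm]; exact h.yy0 i
  refine ⟨w, ?_, ?_, ?_⟩
  · intro g h1 h2
    constructor
    · rw [conj_comm]
      have : w⁻¹ * dg hG h s * w = dg hG h s := by
        rw [mul_assoc, ← hwd.eq, inv_mul_cancel_left]
      rwa [this]
    · rw [conj_comm]
      obtain ⟨l, ν, hl, e1, e2⟩ := eig_of_comm h h2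
      have h3 : w⁻¹ * sie h 1 * w = sie h (((c⁻¹ : Fˣ) : F) ^ 2) := by
        rw [mul_assoc, inv_mul_eq_iff_eq_mul]
        apply Subtype.ext
        ext v
        show (sie h 1 : V ≃ₗ[F] V) ((w : V ≃ₗ[F] V) v) = (w : V ≃ₗ[F] V) ((sie h (((c⁻¹ : Fˣ) : F) ^ 2) : V ≃ₗ[F] V) v)
        have hcc : (((c⁻¹ : Fˣ) : F) ^ 2) * ((c : F) ^ 2) = 1 := by
          rw [← mul_pow, Units.inv_mul, one_pow]
        have h4 : polar Q x0 ((w : V ≃ₗ[F] V) v) = (((c⁻¹ : Fˣ) : F) ^ 2) * polar Q x0 v := by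
          have h5 := polar_map (coe_mem_O w) x0 v
          rw [hwx0, polar_smul_left, smul_eq_mul] at h5
          rw [← h5, ← mul_assoc, hcc, one_mul]
        have h6 : polar Q a ((w : V ≃ₗ[F] V) v) = polar Q a v := by
          have h5 := polar_map (coe_mem_O w) a v
          rwa [hwa] at h5
        rw [sie_apply, sie_apply, h4, h6]
        simp only [map_sub, map_add, map_smul, hwx0, hwa, smul_smul]
        congr 1
        · congr 1
          · rw [one_mul]
          · congr 1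
            linear_combination (-(polar Q a v)) * hcc
        · congr 1
          linear_combination (-(((c⁻¹ : Fˣ) : F) ^ 2 * Q a * polar Q x0 v)) * hcc
      rw [h3]
      exact comm_sie h hl e1 e2 _
  · rintro ⟨-, h1⟩
    obtain ⟨l, ν, hl, e1, -⟩ := eig_of_comm h h1
    rw [hwx0] at e1
    have h2 : ((c : F) ^ 2 - l) • x0 = 0 := by rw [sub_smul, e1, sub_self]
    rcases smul_eq_zero.1 h2 with h3 | h3
    · have h4 : c ^ 4 = 1 := Units.ext (by
        rw [Units.val_pow_eq_pow_val, Units.val_one]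
        linear_combination ((c : F) ^ 2 + l) * h3 + hl)
      have h5 := orderOf_dvd_of_pow_eq_one h4
      rw [hc] at h5
      exact hp2 ((Nat.prime_dvd_prime_iff_eq hp Nat.prime_two).1 (hp.dvd_of_dvd_pow (m := 2) (n := 2) h5))
    · exact h.hyp0.left_ne h3
  · have : w ^ p = 1 := by
      rw [hw, ← map_pow, ← hc, pow_orderOf_eq_one, map_one]
    rw [this]
    exact ⟨Commute.one_left _, Commute.one_left _⟩

theorem Q_sub_pair {x' y' : V} (hh : Hyp Q x' y') : Q (x' - y') = -1 := by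
  rw [sub_eq_add_neg, Q_add, QuadraticMap.map_neg, polar_neg_right, hh.left, hh.right, hh.pair]
  ring

theorem Q_sub_ne {x' y' : V} (hh : Hyp Q x' y') : Q (x' - y') ≠ 0 := by
  rw [Q_sub_pair hh]
  exact neg_ne_zero.2 one_ne_zero

theorem refl_pair_apply {x' y' : V} (hh : Hyp Q x' y') (v : V) :
    refl Q (x' - y') (Q_sub_ne hh) v = v + (polar Q x' v - polar Q y' v) • (x' - y') := by
  rw [refl_apply, Q_sub_pair hh, polar_sub_left, inv_neg, inv_one]
  module

theorem refl_pair_left {x' y' : V} (hh : Hyp Q x' y') : refl Q (x' - y') (Q_sub_ne hh) x' = y' := by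
  rw [refl_pair_apply hh, hh.polar_left, hh.pair']
  module

theorem refl_pair_right {x' y' : V} (hh : Hyp Q x' y') : refl Q (x' - y') (Q_sub_ne hh) y' = x' := by
  rw [refl_pair_apply hh, hh.polar_right, hh.pair]
  module

theorem refl_pair_perp {x' y' : V} (hh : Hyp Q x' y') {v : V} (h1 : polar Q x' v = 0) (h2 : polar Q y' v = 0) :
    refl Q (x' - y') (Q_sub_ne hh) v = v := by
  rw [refl_pair_apply hh, h1, h2]
  module

include hs in
theorem exists_w_swap {i j : Fin n} (hij : i ≠ j) :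
    ∃ w : ↥(E Q),
      (∀ g, Commute g (dg hG h s) → Commute g (sie h 1) →
        Commute (w * g * w⁻¹) (dg hG h s) ∧ Commute (w * g * w⁻¹) (sie h 1)) ∧
      ¬ (Commute w (dg hG h s) ∧ Commute w (sie h 1)) ∧
      (Commute (w ^ 2) (dg hG h s) ∧ Commute (w ^ 2) (sie h 1)) := by
  have hi := h.hyp i
  have hj := h.hyp j
  have e1 := h.xx i j hij
  have e2 := h.xy i j hij
  have e3 : polar Q (y i) (x j) = 0 := by rw [polar_comm]; exact h.xy j i hij.symm
  have e4 := h.yy i j hij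
  have e1' := h.xx j i hij.symm
  have e2' := h.xy j i hij.symm
  have e3' : polar Q (y j) (x i) = 0 := by rw [polar_comm]; exact h.xy i j hij
  have e4' := h.yy j i hij.symm
  set w : ↥(E Q) := ⟨refl Q (x j - y j) (Q_sub_ne hj) * refl Q (x i - y i) (Q_sub_ne hi),
    hG.refl_mul_refl_mem (Q_sub_ne hi) (Q_sub_ne hj) (by rw [Q_sub_pair hi, Q_sub_pair hj])⟩ with hw
  have hwapp : ∀ v, (w : V ≃ₗ[F] V) v =
    refl Q (x j - y j) (Q_sub_ne hj) (refl Q (x i - y i) (Q_sub_ne hi) v) := fun v => rfl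
  have hxi : (w : V ≃ₗ[F] V) (x i) = y i := by
    rw [hwapp, refl_pair_left hi, refl_pair_perp hj e2' e4']
  have hyi : (w : V ≃ₗ[F] V) (y i) = x i := by
    rw [hwapp, refl_pair_right hi, refl_pair_perp hj e1' e3']
  have hxj : (w : V ≃ₗ[F] V) (x j) = y j := by
    rw [hwapp, refl_pair_perp hi e1 e3, refl_pair_left hj]
  have hyj : (w : V ≃ₗ[F] V) (y j) = x j := by
    rw [hwapp, refl_pair_perp hi e2 e4, refl_pair_right hj]
  have hperp : ∀ {v}, polar Q (x i) v = 0 → polar Q (y i) v = 0 → polar Q (x j) v = 0 → polar Q (y j) v = 0 →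
      (w : V ≃ₗ[F] V) v = v := by
    intro v h1 h2 h3 h4
    rw [hwapp, refl_pair_perp hi h1 h2, refl_pair_perp hj h3 h4]
  have hww : w * w = 1 := by
    apply Subtype.ext
    show (refl Q (x j - y j) (Q_sub_ne hj) * refl Q (x i - y i) (Q_sub_ne hi)) *
      (refl Q (x j - y j) (Q_sub_ne hj) * refl Q (x i - y i) (Q_sub_ne hi)) = 1
    have h1 : refl Q (x j - y j) (Q_sub_ne hj) * refl Q (x i - y i) (Q_sub_ne hi) =
        refl Q (x i - y i) (Q_sub_ne hi) * refl Q (x j - y j) (Q_sub_ne hj) := by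
      apply refl_comm
      rw [polar_sub_left, polar_sub_right, polar_sub_right, e1', e2', e3', e4']
      ring
    nth_rewrite 1 [h1]
    calc _ = refl Q (x i - y i) (Q_sub_ne hi) * (refl Q (x j - y j) (Q_sub_ne hj) *
          refl Q (x j - y j) (Q_sub_ne hj)) * refl Q (x i - y i) (Q_sub_ne hi) := by group
      _ = 1 := by rw [refl_mul_self, mul_one, refl_mul_self]
  have hwinv : w⁻¹ = w := inv_eq_of_mul_eq_one_left hww
  have hwsg : Commute w (sie h 1) := by
    refine comm_sie h (l := 1) (ν := 0) (mul_one 1) ?_ ?_ 1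
    · rw [one_smul]
      exact hperp (h.xx0 i) (h.yx0 i) (h.xx0 j) (h.yx0 j)
    · rw [one_smul, zero_smul, add_zero]
      exact hperp (h.xa i) (h.ya i) (h.xa j) (h.ya j)
  refine ⟨w, ?_, ?_, ?_⟩
  · intro g h1 h2
    constructor
    · have happ : ∀ v, ((w * g * w⁻¹ : ↥(E Q)) : V ≃ₗ[F] V) v =
          (w : V ≃ₗ[F] V) ((g : V ≃ₗ[F] V) ((w : V ≃ₗ[F] V) v)) := by
        intro v
        rw [hwinv]
        rfl
      have hmx := fun k => mul_x hG h hs h1 k
      have hmy := fun k => mul_y hG h hs h1 k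
      refine comm_dg hG h (fun k => ?_) (fun k => ?_) s
      · by_cases hki : k = i
        · rw [happ, hki, hxi, hmy i, map_smul, hyi]
          exact ⟨_, rfl⟩
        by_cases hkj : k = j
        · rw [happ, hkj, hxj, hmy j, map_smul, hyj]
          exact ⟨_, rfl⟩
        have h3 : (w : V ≃ₗ[F] V) (x k) = x k :=
          hperp (h.xx i k (Ne.symm hki)) (by rw [polar_comm]; exact h.xy k i hki) (h.xx j k (Ne.symm hkj))
            (by rw [polar_comm]; exact h.xy k j hkj)
        rw [happ, h3, hmx k, map_smul, h3]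
        exact ⟨_, rfl⟩
      · by_cases hki : k = i
        · rw [happ, hki, hyi, hmx i, map_smul, hxi]
          exact ⟨_, rfl⟩
        by_cases hkj : k = j
        · rw [happ, hkj, hyj, hmx j, map_smul, hxj]
          exact ⟨_, rfl⟩
        have h3 : (w : V ≃ₗ[F] V) (y k) = y k :=
          hperp (h.xy i k (Ne.symm hki)) (h.yy i k (Ne.symm hki)) (h.xy j k (Ne.symm hkj)) (h.yy j k (Ne.symm hkj))
        rw [happ, h3, hmy k, map_smul, h3]
        exact ⟨_, rfl⟩
    · exact (hwsg.mul_left h2).mul_left hwsg.inv_left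
  · rintro ⟨h1, -⟩
    have h2 := mul_x hG h hs h1 i
    rw [hxi] at h2
    have h3 : polar Q (x i) (y i) = polar Q (x i) (polar Q (y i) (y i) • x i) := congrArg (fun v => polar Q (x i) v) h2
    rw [hi.pair, polar_smul_right, hi.polar_left, smul_zero] at h3
    exact one_ne_zero h3
  · rw [pow_two, hww]
    exact ⟨Commute.one_left _, Commute.one_left _⟩

/-! ### Elements of order prime to `q (q - 1)` -/

theorem pow_apply_smul (g : V ≃ₗ[F] V) {v : V} {c : F} (hv : g v = c • v) (k : ℕ) : (g ^ k) v = c ^ k • v := by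
  induction k with
  | zero => rw [pow_zero, pow_zero, one_smul]; rfl
  | succ k ih =>
    rw [pow_succ]
    show (g ^ k) (g v) = _
    rw [hv, map_smul, ih, smul_smul, pow_succ, mul_comm]

theorem pow_apply_add (g : V ≃ₗ[F] V) {v w : V} (hv : g v = v + w) (hw : g w = w) (k : ℕ) :
    (g ^ k) v = v + (k : F) • w := by
  induction k with
  | zero => rw [pow_zero, Nat.cast_zero, zero_smul, add_zero]; rfl
  | succ k ih =>
    rw [pow_succ']
    show g ((g ^ k) v) = _
    rw [ih, map_add, map_smul, hv, hw, Nat.cast_succ, add_smul, one_smul]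
    abel

theorem pow_apply_mod (g : V ≃ₗ[F] V) {v z : V} {β c : F} (hv : g v = β • z + c • v) (hz : g z = z) (k : ℕ) :
    ∃ t : F, (g ^ k) v = t • z + c ^ k • v := by
  induction k with
  | zero => exact ⟨0, by rw [pow_zero, pow_zero, one_smul, zero_smul, zero_add]; rfl⟩
  | succ k ih =>
    obtain ⟨t, ht⟩ := ih
    refine ⟨t + c ^ k * β, ?_⟩
    rw [pow_succ']
    show g ((g ^ k) v) = _
    rw [ht, map_add, map_smul, map_smul, hv, hz, pow_succ]
    module

include hs in
theorem eq_one_of_pow {p : ℕ} (hp : p.Prime) (hp2 : p ≠ 2) (hpF : (p : F) ≠ 0)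
    (hpq : ∀ c : F, c ^ p = 1 → c = 1) {g : ↥(E Q)} (h1 : Commute g (dg hG h s)) (h2 : Commute g (sie h 1))
    (h3 : g ^ p = 1) : g = 1 := by
  have hgp : ((g : V ≃ₗ[F] V)) ^ p = 1 := by
    rw [← Subgroup.coe_pow, h3]; rfl
  have hgpv : ∀ v, ((g : V ≃ₗ[F] V) ^ p) v = v := fun v => by rw [hgp]; rfl
  set G := (g : V ≃ₗ[F] V) with hGdef
  have hGO : G ∈ O Q := coe_mem_O g
  have hfixc : ∀ {v : V} {c : F}, v ≠ 0 → G v = c • v → G v = v := by
    intro v c hv hc
    have h4 := pow_apply_smul G hc p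
    rw [hgpv] at h4
    have h5 : (c ^ p - 1) • v = 0 := by rw [sub_smul, one_smul, ← h4, sub_self]
    rcases smul_eq_zero.1 h5 with h6 | h6
    · rw [hc, hpq c (sub_eq_zero.1 h6), one_smul]
    · exact absurd h6 hv
  have hfixa : ∀ {v w : V}, G v = v + w → G w = w → w = 0 := by
    intro v w hv hw
    have h4 := pow_apply_add G hv hw p
    rw [hgpv] at h4
    have h5 : (p : F) • w = 0 := by
      have : v + (p : F) • w = v + 0 := by rw [← h4, add_zero]
      exact add_left_cancel this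
    rcases smul_eq_zero.1 h5 with h6 | h6
    · exact absurd h6 hpF
    · exact h6
  have hx : ∀ i, G (x i) = x i := fun i => hfixc (h.hyp i).left_ne (mul_x hG h hs h1 i)
  have hy : ∀ i, G (y i) = y i := fun i => hfixc (h.hyp i).right_ne (mul_y hG h hs h1 i)
  obtain ⟨l, ν, hl, e1, e2⟩ := eig_of_comm h h2
  have hx0 : G x0 = x0 := hfixc h.hyp0.left_ne e1
  have hl1 : l = 1 := by
    have h4 : (l - 1) • x0 = 0 := by rw [sub_smul, one_smul, ← e1]; exact sub_eq_zero.2 hx0
    rcases smul_eq_zero.1 h4 with h6 | h6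
    · exact sub_eq_zero.1 h6
    · exact absurd h6 h.hyp0.left_ne
  have ha : G a = a := by
    have h4 : G a = a + ν • x0 := by rw [hGdef, e2, hl1, one_smul]
    have h5 := hfixa h4 (by rw [map_smul, hx0])
    rw [h4, h5, add_zero]
  have hspan : ∀ v, ∃ β γ : F, G v - v = β • x0 + γ • b := by
    intro v
    have hperp : ∀ {f : V}, G f = f → polar Q f (G v - v) = 0 := by
      intro f hf
      rw [polar_sub_right]
      nth_rewrite 1 [← hf]
      rw [polar_map hGO, sub_self]
    exact h.span _ (fun i => hperp (hx i)) (fun i => hperp (hy i)) (hperp hx0) (hperp ha)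
  have hb : G b = b := by
    rcases h.qb with h4 | h4
    · rw [h4, map_zero]
    obtain ⟨β, γ, h5⟩ := hspan b
    have h6 : G b = β • x0 + (1 + γ) • b := by
      rw [sub_eq_iff_eq_add] at h5
      rw [h5]
      module
    set c := 1 + γ with hc
    have hcc : c * c = 1 := by
      have h7 : Q (G b) = Q b := mem_O.1 hGO b
      rw [h6, Q_add, QuadraticMap.map_smul, QuadraticMap.map_smul, h.hyp0.left, polar_smul_left, polar_smul_right,
        h.x0b] at h7
      simp only [smul_eq_mul, mul_zero, add_zero, zero_add] at h7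
      exact mul_right_cancel₀ h4 (by rw [h7, one_mul])
    have hcp : c ^ p = c := by
      obtain ⟨k, hk⟩ := (hp.odd_of_ne_two hp2)
      rw [hk, pow_succ, pow_mul, pow_two, hcc, one_pow, one_mul]
    obtain ⟨t, ht⟩ := pow_apply_mod G h6 hx0 p
    rw [hgpv, hcp] at ht
    have h7 : (1 - c) • b = t • x0 := by
      rw [sub_smul, one_smul]
      nth_rewrite 1 [ht]
      abel
    have h8 := congrArg Q h7
    rw [QuadraticMap.map_smul, QuadraticMap.map_smul, h.hyp0.left, smul_zero, smul_eq_mul] at h8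
    have h9 : c = 1 := by
      rcases mul_eq_zero.1 h8 with h9 | h9
      · exact (sub_eq_zero.1 (mul_self_eq_zero.1 h9)).symm
      · exact absurd h9 h4
    have h10 : G b = b + β • x0 := by rw [h6, h9, one_smul, add_comm]
    have h11 := hfixa h10 (by rw [map_smul, hx0])
    rw [h10, h11, add_zero]
  apply Subtype.ext
  ext v
  obtain ⟨β, γ, h5⟩ := hspan v
  have h6 : G (G v - v) = G v - v := by rw [h5, map_add, map_smul, map_smul, hx0, hb]
  have h7 := hfixa (v := v) (w := G v - v) (by abel) h6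
  exact sub_eq_zero.1 h7

end Cfsg.Agent.H189.XOrthU
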